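import Cfsg.Agent.Lib.Walter.Ab.JR

/-!
The list of S0506 and the facts on its members that the reduction uses.

Blueprint: `blueprint/Walter.md`, "S0506 audit" (Facts).
-/

set_option autoImplicit false
set_option linter.unusedSectionVars false
set_option linter.style.haveILetI false

namespace CfsgLib.WalterAb

open Subgroup

universe u v

local notation "PSL₂[" F "]" => Matrix.ProjectiveSpecialLinearGroup (Fin 2) F

/-- `L₂(2^n)`, `L₂(q)` with `q ≡ 3, 5 mod 8`, and the groups of Janko–Ree type. -/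
def Listed (K : Type u) [Group K] : Prop :=
  (∃ (F : Type) (_ : Field F) (_ : Fintype F),
    (((Fintype.card F % 8 = 3 ∨ Fintype.card F % 8 = 5) ∧ 5 ≤ Fintype.card F) ∨
        (∃ n : ℕ, 2 ≤ n ∧ Fintype.card F = 2 ^ n)) ∧
      Nonempty (K ≃* PSL₂[F])) ∨ IsJR K

/-- The list is closed under isomorphism. -/
theorem listed_congr : ∀ (Y Z : Type u) [Group Y] [Group Z], Nonempty (Y ≃* Z) → Listed Y → Listed Z := by
  rintro Y Z _ _ ⟨e⟩ (⟨F, i1, i2, hc, ⟨f⟩⟩ | h)
  · exact Or.inl ⟨F, i1, i2, hc, ⟨e.symm.trans f⟩⟩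
  · exact Or.inr (h.congr e)

variable {K : Type u} [Group K] [Finite K] [IsSimpleGroup K]

/-- Either a linear group with a good Sylow subgroup and solvable stabilisers, or of Janko–Ree type. -/
theorem Listed.cases (hl : Listed K) :
    ((∃ T : Sylow 2 K, Good T) ∧ SolvStab K) ∨ IsJR K := by
  classical
  haveI : Fact (Nat.Prime 2) := ⟨Nat.prime_two⟩
  refine hl.imp ?_ id
  rintro ⟨F, i1, i2, hc, ⟨e⟩⟩
  have key : ∀ (T : Sylow 2 PSL₂[F]), Good T → SolvStab PSL₂[F] → (∃ T : Sylow 2 K, Good T) ∧ SolvStab K :=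
    fun T hT hS => ⟨⟨T.mapSurjective (f := e.symm.toMonoidHom) e.symm.surjective, hT.map e.symm rfl⟩, hS.map e.symm⟩
  rcases hc with ⟨hq, h5⟩ | ⟨n, hn, hc⟩
  · obtain ⟨T⟩ : Nonempty (Sylow 2 PSL₂[F]) := inferInstance
    exact key T (good_odd hq h5 T) (solvStab_odd hq)
  · haveI : CharP F 2 := by
      obtain ⟨p, hp⟩ := CharP.exists F
      haveI := hp
      obtain ⟨m, hm, hpm⟩ := FiniteField.card F p
      have h1 : p ∣ 2 ^ n := hc ▸ hpm ▸ dvd_pow_self p m.ne_zero
      obtain rfl : p = 2 := (Nat.prime_dvd_prime_iff_eq hm Nat.prime_two).mp (hm.dvd_of_dvd_pow h1)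
      exact hp
    exact key _ (good_even (hc ▸ (Nat.pow_le_pow_right (by norm_num) hn : 2 ^ 2 ≤ 2 ^ n))) solvStab_even

/-- Every Sylow 2-subgroup of a member is good. -/
theorem Listed.good (hl : Listed K) (T : Sylow 2 K) : Good T := by
  rcases hl.cases with ⟨⟨T₀, hT⟩, -⟩ | h
  · exact hT.any T
  · exact h.good T

/-- A perfect group of automorphisms fixing part of a Sylow subgroup is trivial, except over one involution of a
group of Janko–Ree type. -/
theorem Listed.perfect_fix (hl : Listed K) {T : Sylow 2 K} {W : Subgroup K} (hWT : W ≤ (T : Subgroup K))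
    (hW : W ≠ ⊥) {X : Type v} [Group X] (hX : commutator X = ⊤) (f : X →* MulAut K)
    (hf : ∀ x, ∀ w ∈ W, f x w = w) : f = 1 ∨ (Nat.card W = 2 ∧ IsJR K) := by
  rcases hl.cases with ⟨-, hS⟩ | h
  · left
    obtain ⟨z, hz, hz1⟩ := (bot_or_exists_ne_one W).resolve_left hW
    haveI := hS z hz1 ((hl.good T).selfCent.sq z (hWT hz))
    let g : X →* MulAction.stabilizer (MulAut K) z := f.codRestrict _ fun x => by
      rw [MulAction.mem_stabilizer_iff, MulAut.smul_def, hf x z hz]
    exact MonoidHom.ext fun x => congrArg Subtype.val (DFunLike.congr_fun (hom_eq_one_of_solvable hX g) x)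
  · exact (h.perfect_fix hWT hW hX f hf).imp_right fun e => ⟨e.1, h⟩

end CfsgLib.WalterAb
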