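import Cfsg.Agent.Lib.Walter.Ab.Good
import Cfsg.Agent.Lib.Walter.Field
import Cfsg.Agent.Lib.JankoReeMult.PSLTwo
import Cfsg.Agent.Lib.SLCard

/-!
`L₂(2^n)` and `L₂(q)` with `q ≡ 3, 5 mod 8`: the local properties of a Sylow 2-subgroup.

Blueprint: `blueprint/Walter.md`, "S0506 audit" (Facts).
-/

set_option autoImplicit false
set_option linter.unusedSectionVars false
set_option linter.style.haveILetI false

namespace CfsgLib.WalterAb

open Matrix CfsgLib.PSL2
open scoped MatrixGroups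

variable {F : Type} [Field F] [Fintype F]

local notation "SL₂" => Matrix.SpecialLinearGroup (Fin 2) F
local notation "PSL₂" => Matrix.ProjectiveSpecialLinearGroup (Fin 2) F

/-- The outer automorphism group of `L₂(q)` is solvable. -/
theorem psl_out_solvable : Group.IsSolvable (MulAut PSL₂ ⧸ (MulAut.conj (G := PSL₂)).range) := by
  obtain ⟨p, hp⟩ := CharP.exists F
  haveI : Fact p.Prime := ⟨CharP.char_is_prime F p⟩
  set π := QuotientGroup.mk' (MulAut.conj (G := PSL₂)).range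
  have hker : (MulAut.conj (G := PSL₂)).range ≤ (fieldPart p : MulAut PSL₂ →* RingAut F).ker := by
    rintro _ ⟨x, rfl⟩
    obtain ⟨A, rfl⟩ := QuotientGroup.mk'_surjective _ x
    rw [MonoidHom.mem_ker]
    exact fieldPart_eq p (g := SpecialLinearGroup.toGL A) (e := RingEquiv.refl F)
      (by rw [diagAut_toGL, fieldAut_refl, mul_one])
  let f : Fˣ →* MulAut PSL₂ ⧸ (MulAut.conj (G := PSL₂)).range := π.comp (diagAut.comp dil)
  let g : MulAut PSL₂ ⧸ (MulAut.conj (G := PSL₂)).range →* RingAut F := QuotientGroup.lift _ (fieldPart p) hker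
  haveI : Group.IsSolvable Fˣ := Group.isSolvable_of_comm mul_comm
  haveI : IsCyclic (RingAut F) := Chev.ringAut_cyclic_finite F
  haveI : Group.IsSolvable (RingAut F) := Group.isSolvable_of_comm fun a b => by
    letI := IsCyclic.commGroup (α := RingAut F)
    exact mul_comm a b
  refine Group.isSolvable_of_ker_le_range f g fun x hx => ?_
  obtain ⟨φ, rfl⟩ := QuotientGroup.mk'_surjective _ x
  obtain ⟨h, rfl⟩ := exists_of_fieldPart_eq_one p (φ := φ) hx
  obtain ⟨c, A, rfl⟩ := exists_dil_mul h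
  refine ⟨c, ?_⟩
  show π (diagAut (dil c)) = π (diagAut (dil c * SpecialLinearGroup.toGL A))
  rw [map_mul, map_mul, diagAut_toGL, show π (MulAut.conj (mk A)) = 1 from
    (QuotientGroup.eq_one_iff _).mpr ⟨mk A, rfl⟩, mul_one]

section Even

variable [CharP F 2]

theorem neg_eq_self (A : Matrix (Fin 2) (Fin 2) F) : -A = A := by
  ext i j
  exact CharTwo.neg_eq _

/-- The centraliser of a non-trivial unipotent element is the unipotent group. -/
theorem mem_uRange_of_comm {t : F} (ht : t ≠ 0) {x : PSL₂} (h : x * uu t = uu t * x) :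
    x ∈ (uHom : Multiplicative F →* PSL₂).range := by
  obtain ⟨A, rfl⟩ := QuotientGroup.mk'_surjective _ x
  change mk A * mk (uSL t) = mk (uSL t) * mk A at h
  rw [← map_mul, ← map_mul, mk_eq_mk, neg_eq_self, or_self] at h
  have e00 := congrFun (congrFun h 0) 0
  have e01 := congrFun (congrFun h 0) 1
  simp [coe_uSL, Matrix.mul_apply, Fin.sum_univ_two] at e00 e01
  have h10 : A.1 1 0 = 0 := by
    rcases e00 with e | e
    · exact absurd e ht
    · exact e
  have heq : A.1 0 0 = A.1 1 1 := mul_right_cancel₀ ht (by linear_combination -e01)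
  have hd := A.2
  rw [Matrix.det_fin_two, h10, ← heq, mul_zero, sub_zero] at hd
  exact (mem_uRange_iff A).mpr ⟨h10, heq, Or.inl (by
    have : (A.1 0 0 - 1) ^ 2 = 0 := by
      rw [sub_sq, pow_two, hd, mul_one, one_pow, show (2 : F) = 0 from CharTwo.two_eq_zero]
      linear_combination (CharTwo.add_self_eq_zero (1 : F))
    exact sub_eq_zero.mp (pow_eq_zero_iff (n := 2) (by norm_num) |>.mp this))⟩

theorem uu_mul (s t : F) : (uu (s + t) : PSL₂) = uu s * uu t := by
  show uHom (Multiplicative.ofAdd (s + t)) = _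
  rw [ofAdd_add, map_mul]

theorem uu_zero : (uu (0 : F) : PSL₂) = 1 := map_one uHom

theorem uu_sq (t : F) : (uu t : PSL₂) * uu t = 1 := by rw [← uu_mul, CharTwo.add_self_eq_zero, uu_zero]

/-- An automorphism fixing the unipotent group is conjugation by one of its elements. -/
theorem exists_conj_of_fix_uu (φ : MulAut PSL₂) (hfix : ∀ t : F, φ (uu t) = uu t) :
    ∃ s : F, φ = MulAut.conj (uu s) := by
  haveI : Fact (Nat.Prime 2) := ⟨Nat.prime_two⟩
  obtain ⟨g, e, rfl⟩ := exists_diag_field 2 φ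
  have hcomm : ∀ t, g.1 * (uSL (e t)).1 = (uSL t).1 * g.1 := by
    intro t
    have h := hfix t
    rw [MulAut.mul_apply, fieldAut_uu, uu_eq, diagAut_apply, uu_eq, mk_eq_mk, neg_eq_self, or_self,
      coe_conjSL] at h
    calc g.1 * (uSL (e t)).1 = g.1 * (uSL (e t)).1 * ((g⁻¹).1 * g.1) := by
          rw [← Units.val_mul, inv_mul_cancel, Units.val_one, Matrix.mul_one]
      _ = (uSL t).1 * g.1 := by rw [← Matrix.mul_assoc, ← h]
  have h10 : g.1 1 0 = 0 := by
    have e00 := congrFun (congrFun (hcomm 1) 0) 0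
    simpa [coe_uSL, Matrix.mul_apply, Fin.sum_univ_two] using e00
  have hlin : ∀ t, g.1 0 0 * e t = t * g.1 1 1 := fun t => by
    have e01 := congrFun (congrFun (hcomm t) 0) 1
    simp [coe_uSL, Matrix.mul_apply, Fin.sum_univ_two] at e01
    linear_combination e01
  have hdg : g.1 0 0 = g.1 1 1 := by simpa using hlin 1
  have hdet : g.1.det ≠ 0 := ((Matrix.isUnit_iff_isUnit_det _).mp g.isUnit).ne_zero
  rw [Matrix.det_fin_two, h10, mul_zero, sub_zero, ← hdg] at hdet
  have ha : g.1 0 0 ≠ 0 := fun h0 => hdet (by rw [h0, mul_zero])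
  have he : e = RingEquiv.refl F := RingEquiv.ext fun t => by
    have h := hlin t
    rw [← hdg, mul_comm t] at h
    exact mul_left_cancel₀ ha h
  refine ⟨g.1 0 1 / g.1 0 0, ?_⟩
  have hz : diagAut (g * (SpecialLinearGroup.toGL (uSL (g.1 0 1 / g.1 0 0)))⁻¹) = 1 := by
    refine diagAut_scalar _ (g.1 0 0) ?_
    have hg : g.1 = Matrix.scalar (Fin 2) (g.1 0 0) *
        (SpecialLinearGroup.toGL (uSL (g.1 0 1 / g.1 0 0))).1 := by
      show g.1 = Matrix.scalar (Fin 2) (g.1 0 0) * (uSL (g.1 0 1 / g.1 0 0)).1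
      ext i j
      fin_cases i <;> fin_cases j <;>
        simp [coe_uSL, Matrix.mul_apply, Fin.sum_univ_two, h10, hdg.symm] <;> field_simp
    generalize hu : SpecialLinearGroup.toGL (uSL (g.1 0 1 / g.1 0 0)) = u at hg ⊢
    rw [Units.val_mul]
    conv_lhs => rw [hg]
    rw [Matrix.mul_assoc, Units.mul_inv, Matrix.mul_one]
  rw [map_mul, map_inv, mul_inv_eq_one, diagAut_toGL] at hz
  rw [he, fieldAut_refl, mul_one, hz, uu_eq]

/-- The unipotent group of `L₂(2^n)` is good. -/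
theorem good_even (h4 : 4 ≤ Fintype.card F) :
    Good (haveI : Fact (Nat.Prime 2) := ⟨Nat.prime_two⟩; uSylow (F := F) 2) := by
  haveI : Fact (Nat.Prime 2) := ⟨Nat.prime_two⟩
  set T : Sylow 2 PSL₂ := uSylow 2
  have hmem : ∀ {x}, x ∈ (T : Subgroup PSL₂) ↔ ∃ t, uu t = x := fun {x} =>
    ⟨fun ⟨t, ht⟩ => ⟨Multiplicative.toAdd t, ht⟩, fun ⟨t, ht⟩ => ⟨Multiplicative.ofAdd t, ht⟩⟩
  have hinner : ∀ φ : MulAut PSL₂, (∀ x ∈ (T : Subgroup PSL₂), φ x = x) →
      ∃ q ∈ (T : Subgroup PSL₂), φ = MulAut.conj q := fun φ hfix => by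
    obtain ⟨s, hs⟩ := exists_conj_of_fix_uu φ fun t => hfix _ (hmem.mpr ⟨t, rfl⟩)
    exact ⟨uu s, hmem.mpr ⟨s, rfl⟩, hs⟩
  obtain ⟨gen, hgen⟩ := IsCyclic.exists_generator (α := Fˣ)
  set k : PSL₂ := mk (dSL (gen : F) gen.ne_zero)
  have hku : ∀ t, k * uu t * k⁻¹ = uu ((gen : F) ^ 2 * t) := fun t => mk_diag_conj_u _ gen.ne_zero t
  have hkpow : ∀ (i : ℕ) t, k ^ i * uu t * (k ^ i)⁻¹ = uu (((gen : F) ^ i) ^ 2 * t) := by
    intro i
    induction i with
    | zero => intro t; simp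
    | succ i ih =>
      intro t
      rw [pow_succ', show k * k ^ i * uu t * (k * k ^ i)⁻¹ = k * (k ^ i * uu t * (k ^ i)⁻¹) * k⁻¹ by group, ih, hku]
      exact congrArg uu (by rw [pow_succ]; ring)
  refine ⟨⟨fun x hx => ?_, fun x hx => ?_⟩, ?_, ⟨k, ?_, fun x hx hx1 y hy hy1 => ?_⟩,
    fun φ _ _ hfix => hinner φ hfix, ?_⟩
  · obtain ⟨t, rfl⟩ := hmem.mp hx
    exact uu_sq t
  · exact mem_uRange_of_comm one_ne_zero (hx _ (hmem.mpr ⟨1, rfl⟩))
  · refine h4.trans (le_of_eq ?_)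
    rw [← Nat.card_eq_fintype_card]
    exact Nat.card_eq_of_bijective (fun t : F => (⟨uu t, hmem.mpr ⟨t, rfl⟩⟩ : (T : Subgroup PSL₂)))
      ⟨fun a b h => uu_injective (congrArg Subtype.val h), fun ⟨x, hx⟩ => by
        obtain ⟨t, rfl⟩ := hmem.mp hx
        exact ⟨t, rfl⟩⟩
  · rw [Subgroup.mem_normalizer_iff]
    intro x
    constructor
    · intro hx
      obtain ⟨t, rfl⟩ := hmem.mp hx
      exact hmem.mpr ⟨_, (hku t).symm⟩
    · intro hx
      obtain ⟨t, ht⟩ := hmem.mp hx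
      refine hmem.mpr ⟨((gen : F) ^ 2)⁻¹ * t, ?_⟩
      have h := hku (((gen : F) ^ 2)⁻¹ * t)
      rw [← mul_assoc (((gen : F) ^ 2)), mul_inv_cancel₀ (pow_ne_zero _ gen.ne_zero), one_mul, ht] at h
      exact mul_left_cancel (mul_right_cancel h)
  · obtain ⟨s, rfl⟩ := hmem.mp hx
    obtain ⟨r, rfl⟩ := hmem.mp hy
    have hs : s ≠ 0 := fun e => hx1 (by rw [e, uu_zero])
    have hr : r ≠ 0 := fun e => hy1 (by rw [e, uu_zero])
    obtain ⟨a, ha⟩ := FiniteField.isSquare_of_char_two (ringChar.eq F 2) (r / s)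
    have ha0 : a ≠ 0 := fun e => div_ne_zero hr hs (by rw [ha, e, mul_zero])
    obtain ⟨i, hi⟩ := (mem_powers_iff_mem_zpowers (x := gen)).mpr (hgen (Units.mk0 a ha0))
    refine ⟨i, ?_⟩
    rw [hkpow, show ((gen : F) ^ i) = a by
      have := congrArg Units.val hi
      simpa using this, pow_two, ← ha, div_mul_cancel₀ _ hs]
  · intro _ u hu hu1 Y hodd hfix hnorm
    obtain ⟨s, rfl⟩ := hmem.mp hu
    have hs : s ≠ 0 := fun e => hu1 (by rw [e, uu_zero])
    refine (Subgroup.eq_bot_iff_forall _).mpr fun φ hφ => ?_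
    have hoφ : Odd (orderOf φ) := hodd.of_dvd_nat (Subgroup.orderOf_dvd_natCard _ hφ)
    obtain ⟨q, hq, hq'⟩ := hinner φ fun c hc => by
      obtain ⟨t, rfl⟩ := hmem.mp hc
      have hcu : uu t * uu s = uu s * uu t := by rw [← uu_mul, ← uu_mul, add_comm]
      set d : PSL₂ := φ (uu t) * (uu t)⁻¹ with hd
      have h1 : MulAut.conj d ∈ Y := by
        have e : MulAut.conj d = φ * (MulAut.conj (uu t) * φ⁻¹ * (MulAut.conj (uu t))⁻¹) := by
          refine MulEquiv.ext fun y => ?_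
          simp [hd, mul_assoc]
        rw [e]
        exact mul_mem hφ (hnorm _ hcu _ (inv_mem hφ))
      have hdU : d ∈ (uHom : Multiplicative F →* PSL₂).range := by
        refine mem_uRange_of_comm hs ?_
        have h4 : φ (uu t) * uu s = uu s * φ (uu t) := by
          calc φ (uu t) * uu s = φ (uu t * uu s) := by rw [map_mul, hfix φ hφ]
            _ = φ (uu s * uu t) := by rw [hcu]
            _ = _ := by rw [map_mul, hfix φ hφ]
        have h5 : (uu t)⁻¹ * uu s = uu s * (uu t)⁻¹ := Commute.inv_left hcu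
        rw [hd, mul_assoc, h5, ← mul_assoc, h4, mul_assoc]
      obtain ⟨r, hr⟩ := hdU
      have hd2 : d * d = 1 := by rw [← hr]; exact uu_sq (Multiplicative.toAdd r)
      have h6 := eq_one_of_odd_conj hd2 rfl (hodd.of_dvd_nat (Subgroup.orderOf_dvd_natCard _ h1))
      have h7 : d * uu 1 = uu 1 * d := by rw [← hr]; exact ((Commute.all r (Multiplicative.ofAdd (1 : F))).map uHom).eq
      -- `conj d = 1`
      have hd1 : d = 1 := by
        obtain ⟨A, hA⟩ := QuotientGroup.mk'_surjective _ d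
        have h8 := DFunLike.congr_fun h6 (vv (1 : F))
        rw [MulAut.conj_apply, MulAut.one_apply] at h8
        obtain ⟨hA10, hA00, hA1⟩ := (mem_uRange_iff A).mp (show mk A ∈ _ from hA ▸ ⟨r, hr⟩)
        have h01 := lower_of_normalizes A 1 (show mk A * vv 1 * (mk A)⁻¹ = vv 1 from hA ▸ h8)
        rw [← hA, ← map_one (mk : SL₂ →* PSL₂)]
        show mk A = mk 1
        rw [mk_eq_mk, neg_eq_self, or_self]
        have h11 : A.1 0 0 = 1 := hA1.elim id fun e => by rw [e, CharTwo.neg_eq]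
        rw [Matrix.eta_fin_two A.1, hA10, h01, ← hA00, h11]
        exact Matrix.one_fin_two
      exact mul_inv_eq_one.mp hd1
    exact eq_one_of_odd_conj ((hmem.mp hq).elim fun t ht => ht ▸ uu_sq t) hq' hoφ

/-- The stabilisers of involutions in `Aut L₂(2^n)` are solvable. -/
theorem solvStab_even : SolvStab PSL₂ := by
  haveI : Fact (Nat.Prime 2) := ⟨Nat.prime_two⟩
  intro z hz hz2
  refine solvable_stabilizer_of psl_out_solvable ?_
  have hp : IsPGroup 2 (Subgroup.zpowers z) := IsPGroup.of_card (n := 1) (by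
    rw [Nat.card_zpowers, pow_one]; exact orderOf_eq_prime (by rw [pow_two]; exact hz2) hz)
  obtain ⟨P, hP⟩ := hp.exists_le_sylow
  obtain ⟨g, hg⟩ := MulAction.exists_smul_eq PSL₂ P (uSylow 2)
  have hzU : g * z * g⁻¹ ∈ (uHom : Multiplicative F →* PSL₂).range := by
    show g * z * g⁻¹ ∈ ((uSylow 2 : Sylow 2 PSL₂) : Subgroup PSL₂)
    rw [← hg, Sylow.coe_subgroup_smul]
    exact ⟨z, hP (Subgroup.mem_zpowers z), rfl⟩
  obtain ⟨t, ht⟩ := hzU
  have ht0 : Multiplicative.toAdd t ≠ 0 := fun e => hz (by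
    have h1 : t = 1 := e
    rw [h1, map_one] at ht
    simpa using ht.symm)
  let f : Subgroup.centralizer ({z} : Set PSL₂) →* (uHom : Multiplicative F →* PSL₂).range :=
    ((MulAut.conj g).toMonoidHom.comp (Subgroup.centralizer ({z} : Set PSL₂)).subtype).codRestrict _ fun x =>
      mem_uRange_of_comm ht0 (by
        show g * (x : PSL₂) * g⁻¹ * uHom t = uHom t * (g * (x : PSL₂) * g⁻¹)
        rw [ht]
        calc g * (x : PSL₂) * g⁻¹ * (g * z * g⁻¹) = g * ((x : PSL₂) * z) * g⁻¹ := by group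
          _ = g * (z * x) * g⁻¹ := by rw [Subgroup.mem_centralizer_singleton_iff.mp x.2]
          _ = _ := by group)
  haveI : Group.IsSolvable (uHom : Multiplicative F →* PSL₂).range := Group.isSolvable_of_comm (by
    rintro ⟨_, a, rfl⟩ ⟨_, b, rfl⟩
    exact Subtype.ext (((Commute.all a b).map uHom).eq))
  exact Group.isSolvable_of_isSolvable_injective (f := f) fun a b hab =>
    Subtype.ext ((MulAut.conj g).injective (congrArg Subtype.val hab :))

end Even

section Odd

variable (hq : Fintype.card F % 8 = 3 ∨ Fintype.card F % 8 = 5)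
include hq

theorem not_eight_dvd : ¬ 8 ∣ Nat.card PSL₂ := by
  intro h8
  have hcard := CfsgLib.SLCard.gcd_mul_card_PSL (F := F) (n := 2) (by norm_num)
  rw [CfsgLib.SLCard.card_SL_two, Nat.gcd_eq_left (show 2 ∣ Fintype.card F - 1 by omega)] at hcard
  obtain ⟨c, hc⟩ := h8
  rw [hc] at hcard
  set j := Fintype.card F / 8
  rcases hq with e | e
  · rw [show Fintype.card F = 8 * j + 3 by omega,
      show (8 * j + 3) ^ 2 - 1 = 8 * (8 * (j * j) + 6 * j + 1) by
        rw [Nat.sub_eq_iff_eq_add (Nat.one_le_pow _ _ (by omega))]; ring] at hcard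
    obtain ⟨k, hk⟩ : ∃ k, (8 * j + 3) * (8 * (8 * (j * j) + 6 * j + 1)) = 8 * (2 * k + 1) :=
      ⟨4 * j * (8 * (j * j) + 6 * j + 1) + (12 * (j * j) + 9 * j + 1), by ring⟩
    omega
  · rw [show Fintype.card F = 8 * j + 5 by omega,
      show (8 * j + 5) ^ 2 - 1 = 8 * (8 * (j * j) + 10 * j + 3) by
        rw [Nat.sub_eq_iff_eq_add (Nat.one_le_pow _ _ (by omega))]; ring] at hcard
    obtain ⟨k, hk⟩ : ∃ k, (8 * j + 5) * (8 * (8 * (j * j) + 10 * j + 3)) = 8 * (2 * k + 1) :=
      ⟨4 * j * (8 * (j * j) + 10 * j + 3) + (20 * (j * j) + 25 * j + 7), by ring⟩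
    omega

theorem sylow_comm (P : Sylow 2 PSL₂) : IsMulCommutative (P : Subgroup PSL₂) := by
  haveI : Fact (Nat.Prime 2) := ⟨Nat.prime_two⟩
  obtain ⟨k, hk⟩ := IsPGroup.iff_card.mp P.2
  have hk2 : k ≤ 2 := by
    by_contra hlt
    exact not_eight_dvd hq ((show 8 ∣ 2 ^ k from pow_dvd_pow 2 (show 3 ≤ k by omega)).trans
      (hk ▸ Subgroup.card_subgroup_dvd_card _))
  interval_cases k
  · haveI := (Nat.card_eq_one_iff_unique.mp hk).1
    exact ⟨⟨fun a b => Subsingleton.elim _ _⟩⟩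
  · haveI := isCyclic_of_prime_card hk
    letI := IsCyclic.commGroup (α := (P : Subgroup PSL₂))
    exact ⟨⟨mul_comm⟩⟩
  · exact ⟨⟨IsPGroup.commutative_of_card_eq_prime_sq hk⟩⟩

/-- `L₂(q)` has a good Sylow 2-subgroup. -/
theorem good_odd (h5 : 5 ≤ Fintype.card F) : ∀ P : Sylow 2 PSL₂, Good P := by
  classical
  haveI : Fact (Nat.Prime 2) := ⟨Nat.prime_two⟩
  have hF : Odd (Fintype.card F) := Nat.odd_iff.mpr (by omega)
  have h3 : 3 < Fintype.card F := by omega
  haveI := JankoReeMult.psl_simple (F := F) h3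
  obtain ⟨g, b, c, hA, -⟩ := Walter.exists_fixed_A4 (F := F) (Walter.two_ne_zero_of_mod hq)
  have hV := PSL2Klein.four_klein hA.bb hA.cc hA.comm hA.b1 hA.c1 hA.bc
  obtain ⟨P₀, hP₀⟩ := (IsPGroup.of_card (n := 2) hV.card_four :
    IsPGroup 2 (PSL2Klein.four b c hA.bb hA.cc hA.comm)).exists_le_sylow
  intro P
  refine Good.any ?_ P (T := P₀)
  obtain ⟨h4, hsq, -⟩ := JankoReeMult.sylow_klein hF h3 P₀ (sylow_comm hq P₀)
  have hPV : (P₀ : Subgroup PSL₂) = PSL2Klein.four b c hA.bb hA.cc hA.comm :=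
    (Subgroup.eq_of_le_of_card_ge hP₀ (by rw [h4, hV.card_four])).symm
  have hm : ∀ x, x ∈ (P₀ : Subgroup PSL₂) ↔ (x = 1 ∨ x = b ∨ x = c ∨ x = b * c) := fun x => by
    rw [hPV]; rfl
  have hgbc : g * (b * c) * g⁻¹ = b := by
    calc g * (b * c) * g⁻¹ = g * b * g⁻¹ * (g * c * g⁻¹) := by group
      _ = c * (b * c) := by rw [hA.gb, hA.gc]
      _ = b := by rw [hA.comm, ← mul_assoc, hA.cc, one_mul]
  refine ⟨⟨hsq, fun x hx => ?_⟩, h4.ge, ⟨g, ?_, ?_⟩,
    fun φ j hj hfix => JankoReeMult.auto_inner hF h3 P₀ (sylow_comm hq P₀) φ j hj hfix, fun h8 => ?_⟩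
  · -- the centraliser of the four-group
    obtain ⟨X, hX⟩ := QuotientGroup.mk'_surjective _ x
    obtain ⟨B, hB⟩ := QuotientGroup.mk'_surjective _ b
    obtain ⟨C, hC⟩ := QuotientGroup.mk'_surjective _ c
    have fix : ∀ (Y : SL₂), mk Y ∈ (P₀ : Subgroup PSL₂) → diagAut (SpecialLinearGroup.toGL X) (mk Y) = mk Y :=
      fun Y hY => by
        rw [diagAut_toGL, MulAut.conj_apply, show mk X = x from hX, hx _ hY, mul_inv_cancel_right]
    obtain ⟨w, hw, he⟩ := JankoReeMult.diag_of_fix (Walter.two_ne_zero_of_mod hq) B C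
      (show mk B ≠ 1 from hB ▸ hA.b1) (show mk B * mk B = 1 from hB ▸ hA.bb)
      (show mk C ≠ 1 from hC ▸ hA.c1) (show mk C * mk C = 1 from hC ▸ hA.cc)
      (show mk B ≠ mk C from by rw [show mk B = b from hB, show mk C = c from hC]; exact hA.bc)
      (show mk B * mk C = mk C * mk B from by rw [show mk B = b from hB, show mk C = c from hC]; exact hA.comm)
      (SpecialLinearGroup.toGL X) (fix B (by rw [show mk B = b from hB]; exact (hm b).mpr (by tauto)))
      (fix C (by rw [show mk C = c from hC]; exact (hm c).mpr (by tauto)))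
    rw [diagAut_toGL, show mk X = x from hX] at he
    have hinj : Function.Injective (MulAut.conj : PSL₂ →* MulAut PSL₂) := by
      rw [← MonoidHom.ker_eq_bot_iff]
      refine ((inferInstance : (MulAut.conj (G := PSL₂)).ker.Normal).eq_bot_or_eq_top).resolve_right fun h =>
        JankoReeMult.psl_nonabelian hF h3 ⟨⟨fun a d => ?_⟩⟩
      have := DFunLike.congr_fun (MonoidHom.mem_ker.mp (h ▸ Subgroup.mem_top a)) d
      rwa [MulAut.conj_apply, MulAut.one_apply, mul_inv_eq_iff_eq_mul] at this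
    rw [hinj he]
    refine (Subgroup.closure_le _).mpr ?_ hw
    rintro y (rfl | rfl)
    · rw [show mk B = b from hB]; exact (hm b).mpr (by tauto)
    · rw [show mk C = c from hC]; exact (hm c).mpr (by tauto)
  · rw [Subgroup.mem_normalizer_iff]
    intro x
    constructor
    · intro hx
      rcases (hm x).mp hx with rfl | rfl | rfl | rfl
      · simp
      · exact (hm _).mpr (by rw [hA.gb]; tauto)
      · exact (hm _).mpr (by rw [hA.gc]; tauto)
      · exact (hm _).mpr (by rw [hgbc]; tauto)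
    · intro hx
      refine (hm x).mpr ?_
      have key : ∀ y, g * x * g⁻¹ = g * y * g⁻¹ → x = y := fun y e => (MulAut.conj g).injective e
      rcases (hm _).mp hx with e | e | e | e
      · exact Or.inl (key 1 (by rw [e]; group))
      · exact Or.inr (Or.inr (Or.inr (key _ (by rw [e, hgbc]))))
      · exact Or.inr (Or.inl (key _ (by rw [e, hA.gb])))
      · exact Or.inr (Or.inr (Or.inl (key _ (by rw [e, hA.gc]))))
  · intro x hx hx1 y hy hy1
    have p1 : ∀ z, g ^ 1 * z * (g ^ 1)⁻¹ = g * z * g⁻¹ := fun z => by rw [pow_one]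
    have p2 : ∀ z, g ^ 2 * z * (g ^ 2)⁻¹ = g * (g * z * g⁻¹) * g⁻¹ := fun z => by rw [pow_two]; group
    have p0 : ∀ z, g ^ 0 * z * (g ^ 0)⁻¹ = z := fun z => by rw [pow_zero]; group
    rcases (hm x).mp hx with e | e | e | e <;> rcases (hm y).mp hy with e' | e' | e' | e' <;> rw [e, e']
    all_goals first
      | exact absurd e hx1
      | exact absurd e' hy1
      | exact ⟨0, p0 _⟩
      | (refine ⟨1, ?_⟩; rw [p1, hA.gb]; done)
      | (refine ⟨1, ?_⟩; rw [p1, hA.gc]; done)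
      | (refine ⟨1, ?_⟩; rw [p1, hgbc]; done)
      | (refine ⟨2, ?_⟩; rw [p2, hA.gb, hA.gc]; done)
      | (refine ⟨2, ?_⟩; rw [p2, hA.gc, hgbc]; done)
      | (refine ⟨2, ?_⟩; rw [p2, hgbc, hA.gb]; done)
  · omega

/-- The stabilisers of involutions in `Aut L₂(q)` are solvable. -/
theorem solvStab_odd : SolvStab PSL₂ := fun _ hz hz2 =>
  solvable_stabilizer_of psl_out_solvable (solvable_cent_of_four (not_eight_dvd hq) hz hz2)

end Odd

end CfsgLib.WalterAb
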