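import Cfsg.Agent.Lib.Walter.Ab.Dispatch

/-!
`Ω₁(S)` of order four or eight.

Blueprint: `blueprint/Walter.md`, "S0506 audit" (Eight).
-/

set_option autoImplicit false
set_option linter.unusedSectionVars false
set_option linter.style.haveILetI false

namespace CfsgLib.WalterAb

open Cfsg Subgroup CfsgLib.Comp CfsgLib.AfterFT.CoreSep
open CfsgLib.S3Simple (Closed Irred blockD mem_blockD imA mem_imA oddSolv)

universe u

variable {G : Type u} [Group G] [Finite G] {S : Sylow 2 G} {A : Subgroup G}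

/-- The Sylow subgroup of `C(a)` modulo core that is the image of `S`. -/
theorem Hyp.exists_image_sylow (h : Hyp G) (hA : Closed S A) {a : G} (ha : a ∈ A) :
    ∃ T : Sylow 2 (qq a), Closed T (imA A a) ∧
      ∀ v ∈ (T : Subgroup (qq a)), ∃ s ∈ (S : Subgroup G), ∃ hs : s ∈ cc a, ff a ⟨s, hs⟩ = v := by
  haveI : Fact (Nat.Prime 2) := ⟨Nat.prime_two⟩
  have hS : (S : Subgroup G) ≤ cc a := fun s hs => AfterFT.CoreSep.mem_cc.mpr (h.comm S hs (hA.le ha))
  obtain ⟨T₀, hT₀⟩ := hA.imA_closed ha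
  let T : Sylow 2 (qq a) := (S.subtype hS).mapSurjective (bar_surjective 2)
  refine ⟨T, hT₀.of_le ?_, ?_⟩
  · rintro _ ⟨x, hx, rfl⟩
    exact ⟨x, hA.le hx, rfl⟩
  · rintro _ ⟨⟨s, hs⟩, hsS, rfl⟩
    exact ⟨s, hsS, hs, rfl⟩

/-- An involution of that image comes from an involution of `S`. -/
theorem Hyp.lift_sq (h : Hyp G) {a s : G} (hs : s ∈ (S : Subgroup G)) (hsc : s ∈ cc a)
    (h2 : ff a ⟨s, hsc⟩ * ff a ⟨s, hsc⟩ = 1) : s * s = 1 := by
  haveI : Fact (Nat.Prime 2) := ⟨Nat.prime_two⟩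
  rw [← map_mul] at h2
  have ho : Odd (orderOf (s * s)) := odd_order_core (mem_core_of_bar h2)
  obtain ⟨k, hk⟩ := IsPGroup.iff_orderOf.mp S.2 (⟨s * s, mul_mem hs hs⟩ : (S : Subgroup G))
  rw [orderOf_mk] at hk
  rw [hk] at ho
  rcases Nat.eq_zero_or_pos k with rfl | hk0
  · rwa [pow_zero, orderOf_eq_one_iff] at hk
  · exact absurd ho (Nat.not_odd_iff_even.mpr (even_iff_two_dvd.mpr (dvd_pow_self 2 hk0.ne')))

/-- The centraliser is soluble as soon as its quotient by the core is. -/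
theorem solvable_cc {a : G} (hs : Group.IsSolvable (qq a)) : Group.IsSolvable (centralizer ({a} : Set G)) := by
  haveI := hs
  haveI : Group.IsSolvable ↥(pPrimeCore 2 ↥(cc a)) :=
    oddSolv _ (Nat.coprime_two_right.mp (card_pPrimeCore_coprime 2))
  exact Group.isSolvable_of_ker_le_range (G'' := qq a) (pPrimeCore 2 ↥(cc a)).subtype (ff a) fun x hx =>
    ⟨⟨x, (QuotientGroup.eq_one_iff x).mp hx⟩, rfl⟩

/-- Conjugate elements have centralisers of the same solubility. -/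
theorem solvable_conj {t g : G} (hs : Group.IsSolvable (centralizer ({g * t * g⁻¹} : Set G))) :
    Group.IsSolvable (centralizer ({t} : Set G)) := by
  haveI := hs
  let f : centralizer ({t} : Set G) →* centralizer ({g * t * g⁻¹} : Set G) :=
    ((MulAut.conj g).toMonoidHom.comp (centralizer ({t} : Set G)).subtype).codRestrict _ fun x => by
      rw [mem_centralizer_singleton_iff]
      show g * (x : G) * g⁻¹ * (g * t * g⁻¹) = g * t * g⁻¹ * (g * (x : G) * g⁻¹)
      calc g * (x : G) * g⁻¹ * (g * t * g⁻¹) = g * ((x : G) * t) * g⁻¹ := by group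
        _ = g * (t * x) * g⁻¹ := by rw [mem_centralizer_singleton_iff.mp x.2]
        _ = _ := by group
  exact Group.isSolvable_of_isSolvable_injective (f := f) fun a b hab =>
    Subtype.ext ((MulAut.conj g).injective (congrArg Subtype.val hab :))

/-- `Ω₁(S)` is not a four-group. -/
theorem Hyp.false_of_omega_four (h : Hyp G) (S : Sylow 2 G) (h4 : Nat.card (h.omega S) = 4) : False := by
  haveI : Fact (Nat.Prime 2) := ⟨Nat.prime_two⟩
  have hA := h.omega_closed S
  refine h.false_of_solvable fun t ht => ?_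
  obtain ⟨g, hg⟩ := exists_conj_mem S ht
  refine solvable_conj (g := g) ?_
  set a := g * t * g⁻¹ with ha0
  have hao : orderOf a = 2 := by rw [ha0, show g * t * g⁻¹ = MulAut.conj g t from rfl, MulEquiv.orderOf_eq, ht]
  have ha : a ∈ h.omega S := ⟨hg, by rw [← pow_two, ← hao, pow_orderOf_eq_one]⟩
  have ha1 : a ≠ 1 := fun e => by rw [e, orderOf_one] at hao; omega
  refine solvable_cc ((h.ctx ha1).solvable_of_no_component fun E hE => ?_)
  obtain ⟨T, hT, hTS⟩ := h.exists_image_sylow hA ha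
  obtain ⟨P, hP, hgd⟩ := (h.ctx ha1).comp_sylow T hE
  have hle : (T : Subgroup (qq a)) ⊓ E ≤ imA (h.omega S) a := by
    intro v hv
    obtain ⟨s, hs, hsc, rfl⟩ := hTS v hv.1
    obtain ⟨w, hw, e⟩ : ff a ⟨s, hsc⟩ ∈ (P : Subgroup ↥E).map E.subtype := hP.symm ▸ hv
    have h2 : ff a ⟨s, hsc⟩ * ff a ⟨s, hsc⟩ = 1 := by
      rw [← e]
      exact congrArg Subtype.val (hgd.selfCent.sq w hw)
    exact mem_imA (show s ∈ h.omega S from ⟨hs, h.lift_sq hs hsc h2⟩) hsc
  have hcard : Nat.card (imA (h.omega S) a) ≤ 4 := by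
    refine le_trans (Nat.le_of_dvd Nat.card_pos (card_map_dvd _ _)) ?_
    rw [Nat.card_congr (subgroupOfEquivOfLe (hA.le_cc ha)).toEquiv, h4]
  have he : (T : Subgroup (qq a)) ⊓ E = imA (h.omega S) a :=
    eq_of_le_of_card_ge hle (hcard.trans ((h.ctx ha1).four_le_inf T hE))
  have hac : a ∈ cc a := AfterFT.CoreSep.mem_cc.mpr rfl
  have haE : ff a ⟨a, hac⟩ ∈ E := (he.symm ▸ mem_imA ha hac : ff a ⟨a, hac⟩ ∈ (T : Subgroup (qq a)) ⊓ E).2
  refine ha1 (hA.ff_inj ha hac ((h.ctx ha1).eq_one_of_centralizes_self hE haE ?_))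
  exact ((mem_blockD hac).mp (CfsgLib.S3Simple.self_mem_blockD ha E)).2

/-- An irreducible `Ω₁(S)` of order eight is the whole of `S`, and all centralisers of involutions are
non-soluble. -/
theorem Hyp.omega_eight (h : Hyp G) (S : Sylow 2 G) (hI : Irred (h.omega S)) (h8 : Nat.card (h.omega S) = 8)
    (hblk : ∀ a ∈ h.omega S, a ≠ 1 → MinBlk (h.omega S) (zpowers a)) :
    (∀ P : Sylow 2 G, Walter.E8 (P : Subgroup G)) ∧
      ∀ t : G, orderOf t = 2 → ¬ Group.IsSolvable (centralizer ({t} : Set G)) := by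
  classical
  haveI : Fact (Nat.Prime 2) := ⟨Nat.prime_two⟩
  set A := h.omega S with hAdef
  have hA : Closed S A := h.omega_closed S
  have hcomp : ∀ a ∈ A, a ≠ 1 → ∃ E : Subgroup (qq a), IsComponent E ∧ blockD A a E = zpowers a :=
    fun a ha ha1 => (hblk a ha ha1).exists_at h hA (mem_zpowers a) ha1
  -- no involution is a square in `S`
  let Q : Subgroup G :=
    { carrier := {z | z ∈ A ∧ ∃ s ∈ (S : Subgroup G), s * s = z}
      one_mem' := ⟨one_mem _, 1, one_mem _, mul_one 1⟩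
      mul_mem' := by
        rintro x y ⟨hx, r, hr, rfl⟩ ⟨hy, s, hs, rfl⟩
        refine ⟨mul_mem hx hy, r * s, mul_mem hr hs, ?_⟩
        calc r * s * (r * s) = r * (s * r) * s := by group
          _ = r * r * (s * s) := by rw [h.comm S hs hr]; group
      inv_mem' := by
        rintro x ⟨hx, r, hr, rfl⟩
        exact ⟨inv_mem hx, r⁻¹, inv_mem hr, (_root_.mul_inv_rev r r).symm⟩ }
  have hQ : Q = ⊥ := by
    refine (hI Q (fun z hz => hz.1) fun g hg z hz => ?_).resolve_right fun e => ?_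
    · obtain ⟨hzA, r, hr, rfl⟩ := hz
      have hmA := (mem_normalizer_iff.mp hg _).mp hzA
      obtain ⟨n, hn, e⟩ := CfsgLib.TransferApps.exists_normalizer_conj_of_abelian S (h.abel S) (hA.le hzA) (hA.le hmA)
      exact ⟨hmA, n * r * n⁻¹, (mem_normalizer_iff.mp hn r).mp hr, by rw [← e]; group⟩
    obtain ⟨a, ha, ha1⟩ := A.bot_or_exists_ne_one.resolve_left hA.ne_bot
    obtain ⟨E, hE, -⟩ := hcomp a ha ha1
    have hctx := h.ctx ha1
    obtain ⟨T, hT, hTS⟩ := h.exists_image_sylow hA ha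
    obtain ⟨P, hP, hgd⟩ := hctx.comp_sylow T hE
    obtain ⟨v, hv, hv1⟩ := ((T : Subgroup (qq a)) ⊓ E).bot_or_exists_ne_one.resolve_left fun e0 => by
      have := hctx.four_le_inf T hE
      rw [e0, card_bot] at this
      omega
    obtain ⟨s, hs, hsc, hse⟩ := hTS v hv.1
    have hv2 : v * v = 1 := by
      obtain ⟨w, hw, rfl⟩ : v ∈ (P : Subgroup ↥E).map E.subtype := hP.symm ▸ hv
      exact congrArg Subtype.val (hgd.selfCent.sq w hw)
    have hsA : s ∈ A := ⟨hs, h.lift_sq hs hsc (by rw [hse]; exact hv2)⟩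
    obtain ⟨-, r, hr, hrs⟩ : s ∈ Q := e.symm ▸ hsA
    have hrc : r ∈ cc a := AfterFT.CoreSep.mem_cc.mpr (h.comm S hr (hA.le ha))
    set rb := ff a ⟨r, hrc⟩ with hrb
    have hrv : rb * rb = v := by
      rw [← hse, hrb, ← map_mul]
      exact congrArg _ (Subtype.ext hrs)
    obtain ⟨T', hT'⟩ : ∃ T' : Sylow 2 (qq a), rb ∈ (T' : Subgroup (qq a)) := by
      have hz : IsPGroup 2 (zpowers rb) := by
        have h4 : rb ^ 2 ^ 2 = 1 := by
          rw [show (2 : ℕ) ^ 2 = 2 + 2 from rfl, pow_add, pow_two, hrv, hv2]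
        obtain ⟨i, -, hi⟩ := (Nat.dvd_prime_pow Nat.prime_two).mp (orderOf_dvd_of_pow_eq_one h4)
        exact IsPGroup.of_card (n := i) (by rw [Nat.card_zpowers, hi])
      obtain ⟨T', hT'⟩ := hz.exists_le_sylow
      exact ⟨T', hT' (mem_zpowers rb)⟩
    obtain ⟨P', hP', hgd'⟩ := hctx.comp_sylow T' hE
    obtain ⟨q, hq, hqc, -⟩ := hctx.exists_inner T' hE hT'
    have hq2 : q * q = 1 := by
      obtain ⟨w, hw, rfl⟩ : q ∈ (P' : Subgroup ↥E).map E.subtype := hP'.symm ▸ hq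
      exact congrArg Subtype.val (hgd'.selfCent.sq w hw)
    have hv' : v = (q⁻¹ * rb) * (q⁻¹ * rb) := by
      rw [← hrv]
      calc rb * rb = (q * q)⁻¹ * (rb * rb) := by rw [hq2, inv_one, one_mul]
        _ = q⁻¹ * (q⁻¹ * rb) * rb := by group
        _ = q⁻¹ * (rb * q⁻¹) * rb := by
            rw [hctx.comm T' (inv_mem hq.1) hT']
        _ = _ := by group
    exact hv1 (hctx.eq_one_of_centralizes_self hE hv.2 (hv' ▸ mul_mem hqc hqc))
  have hSA : (S : Subgroup G) ≤ A := by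
    intro s hs
    refine ⟨hs, ?_⟩
    obtain ⟨k, hk⟩ := IsPGroup.iff_orderOf.mp S.2 ⟨s, hs⟩
    rw [orderOf_mk] at hk
    rcases Nat.lt_or_ge k 2 with hlt | hge
    · have h2 : s ^ 2 = 1 := orderOf_dvd_iff_pow_eq_one.mp (hk ▸ (by interval_cases k <;> norm_num : 2 ^ k ∣ 2))
      rwa [pow_two] at h2
    obtain ⟨j, rfl⟩ := Nat.exists_eq_add_of_le hge
    exfalso
    have hw : s ^ 2 ^ (j + 1) = s ^ 2 ^ j * s ^ 2 ^ j := by rw [← pow_add, pow_succ, mul_two]
    have hw1 : s ^ 2 ^ (j + 1) ∈ Q := ⟨⟨pow_mem hs _, by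
      rw [← pow_add, ← mul_two, ← pow_succ, show j + 1 + 1 = 2 + j by omega, ← hk, pow_orderOf_eq_one]⟩,
      s ^ 2 ^ j, pow_mem hs _, hw.symm⟩
    rw [hQ, mem_bot, ← orderOf_dvd_iff_pow_eq_one, hk, Nat.pow_dvd_pow_iff_le_right (by norm_num)] at hw1
    omega
  have hSE : Walter.E8 (S : Subgroup G) :=
    ⟨(le_antisymm hA.le hSA : A = (S : Subgroup G)) ▸ h8, fun x hx => (hSA hx).2⟩
  refine ⟨fun P => ?_, fun t ht hsol => ?_⟩
  · obtain ⟨g, rfl⟩ := MulAction.exists_smul_eq G S P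
    rw [Sylow.coe_subgroup_smul]
    refine ⟨?_, ?_⟩
    · rw [← hSE.1]
      exact card_map_of_injective (MulAut.conj g).injective
    · rintro _ ⟨x, hx, rfl⟩
      show MulAut.conj g x * MulAut.conj g x = 1
      rw [← map_mul, hSE.2 x hx, map_one]
  · obtain ⟨g, hg⟩ := exists_conj_mem S ht
    set a := g * t * g⁻¹ with ha0
    have hao : orderOf a = 2 := by rw [ha0, show g * t * g⁻¹ = MulAut.conj g t from rfl, MulEquiv.orderOf_eq, ht]
    have ha1 : a ≠ 1 := fun e => by rw [e, orderOf_one] at hao; omega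
    obtain ⟨E, hE, -⟩ := hcomp a (hSA hg) ha1
    have hsa : Group.IsSolvable (centralizer ({a} : Set G)) := solvable_conj (g := g⁻¹) (by
      rwa [show g⁻¹ * a * g⁻¹⁻¹ = t by rw [ha0]; group])
    haveI : Group.IsSolvable ↥(cc a) := hsa
    haveI : Group.IsSolvable (qq a) := Group.isSolvable_of_surjective (f := ff a) (bar_surjective 2)
    exact component_not_le_of_isSolvable hE (N := (⊤ : Subgroup (qq a))) inferInstance le_top

end CfsgLib.WalterAb
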