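import Cfsg.Agent.Lib.Walter.Ab.Blocks

/-!
A strongly closed four-group with an invariant complement is impossible in a minimal counterexample to S0506.

Blueprint: `blueprint/Walter.md`, "S0506 audit" (Two).
-/

set_option autoImplicit false
set_option linter.unusedSectionVars false
set_option linter.style.haveILetI false

namespace CfsgLib.WalterAb

open Cfsg Subgroup CfsgLib.Comp CfsgLib.AfterFT.CoreSep
open CfsgLib.S3Simple (Closed Blocked IsBlock blockD mem_blockD imA central_of_no_block oddSolv block_le_sub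
  card_mul_le_of_disjoint core_le_YY core_normalizes_W)
open scoped commutatorElement

universe u

variable {G : Type u} [Group G] [Finite G] {S : Sylow 2 G} {A A0 C : Subgroup G}

/-- A four-group has no block. -/
theorem Hyp.no_blocked_four (h : Hyp G) (hA : Closed S A) (h4 : Nat.card A = 4) (D : Subgroup G) :
    ¬ Blocked A D := fun hD => by
  obtain ⟨V, k, hb, -⟩ := h.exists_block hA hD
  have e := hb.card_eq hA
  rw [h4] at e
  have h1 : 2 ≤ Nat.card D := by
    haveI := (Subgroup.nontrivial_iff_ne_bot D).mpr hb.D_ne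
    exact Finite.one_lt_card
  have := hb.four_le
  nlinarith

/-- A component moved by `A` is centralised by the complement `C`. -/
theorem Hyp.complement_le_blockD (h : Hyp G) (hA0 : Closed S A0) (hA : Closed S A) (hAle : A ≤ A0)
    (h4 : Nat.card A = 4) (hCle : C ≤ A0) (hN : normalizer (A0 : Set G) ≤ normalizer (C : Set G)) (hd : A ⊓ C = ⊥)
    {b : G} (hb : b ∈ A0) (hb1 : b ≠ 1) {F : Subgroup (qq b)} (hF : IsComponent F) {x : G} (hx : x ∈ A)
    (hxb : x ∈ cc b) (hxF : ff b ⟨x, hxb⟩ ∉ centralizer (F : Set (qq b))) : C ≤ blockD A0 b F := by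
  have hnle : ¬ A ≤ blockD A0 b F := fun hAD => hxF ((mem_blockD hxb).mp (hAD hx)).2
  obtain ⟨k, hk, hkc⟩ := h.exists_block' hA0 hb hb1 hF fun e => hnle (e.symm ▸ hAle)
  have hV : partV A0 b F = A :=
    eq_of_le_of_card_ge (block_le_sub hA0 hA hAle hk hkc hnle) (h4 ▸ hk.four_le)
  intro c hc
  refine mem_D_of_fixed hA0 hk (hCle hc) (mul_inv_eq_one.mp (mem_bot.mp (hd ▸ mem_inf.mpr ⟨?_, ?_⟩)))
  · exact hV ▸ hkc c (hCle hc)
  · exact mul_mem ((mem_normalizer_iff.mp (hN hk.norm) c).mp hc) (inv_mem hc)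

/-- `|A| = 4`, `A₀ = A × C` with both factors invariant: contradiction. -/
theorem Hyp.false_of_four (h : Hyp G) {S : Sylow 2 G} {A0 A C : Subgroup G} (hA0 : Closed S A0) (hA : Closed S A)
    (hAle : A ≤ A0) (h4 : Nat.card A = 4) (hC : Closed S C) (hCle : C ≤ A0)
    (hN : normalizer (A0 : Set G) ≤ normalizer (C : Set G))
    (_hNA : normalizer (A0 : Set G) ≤ normalizer (A : Set G)) (hd : A ⊓ C = ⊥) (_hs : A ⊔ C = A0) : False := by
  classical
  haveI : Fact (Nat.Prime 2) := ⟨Nat.prime_two⟩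
  obtain ⟨A', hA'C, hA'4⟩ : ∃ A' ≤ C, Nat.card A' = 2 ^ 2 :=
    CfsgLib.Signalizer.KFunctor.exists_sub (p := 2) hC.elem le_rfl (h.four_le_card hC)
  have hA'le : A' ≤ A0 := hA'C.trans hCle
  have hA'4' : Nat.card A' = 4 := hA'4
  have hA'ne : A' ≠ ⊥ := fun e => by rw [e, card_bot] at hA'4; omega
  have hinf : A ⊓ A' = ⊥ := le_bot_iff.mp (hd ▸ inf_le_inf_left A hA'C)
  have hBle : A ⊔ A' ≤ A0 := sup_le hAle hA'le
  have hsep : AfterFT.CoreSep.Sep A A' := by
    intro b hb hb1 F hF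
    refine or_iff_not_imp_left.mpr fun hn => ?_
    push Not at hn
    obtain ⟨x, hx, hxb, hxF⟩ := hn
    intro y hy hyb
    exact ((mem_blockD hyb).mp
      (h.complement_le_blockD hA0 hA hAle h4 hCle hN hd (hBle hb) hb1 hF hx hxb hxF (hA'C hy))).2
  have P : Pair A A' :=
    { comm₁ := fun x hx y hy => hA.comm hx hy
      comm₂ := fun x hx y hy => hC.comm (hA'C hx) (hA'C hy)
      comm := fun x hx y hy => hA0.comm (hAle hx) (hA'le hy)
      sq₁ := fun x hx => hA.sq hx
      sq₂ := fun x hx => hC.sq (hA'C hx)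
      four := h4
      sep := hsep }
  have Q : Pair A' A :=
    { comm₁ := fun x hx y hy => hC.comm (hA'C hx) (hA'C hy)
      comm₂ := fun x hx y hy => hA.comm hx hy
      comm := fun x hx y hy => hA0.comm (hA'le hx) (hAle hy)
      sq₁ := fun x hx => hC.sq (hA'C hx)
      sq₂ := fun x hx => hA.sq hx
      four := hA'4'
      sep := fun b hb hb1 F hF => (hsep b (sup_comm A A' ▸ hb) hb1 F hF).symm }
  have hQ : ∀ {b}, b ∈ A ⊔ A' → b ∈ A' ⊔ A := fun hb' => sup_comm A A' ▸ hb'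
  set θ : G → Subgroup G := fun b => YY A b ⊓ YY A' b with hθ
  have hθO : ∀ b ∈ A ⊔ A', θ b ≤ centralizerPPrimeCore 2 b := fun b hb' => inf_le_left.trans (YY_le P hb')
  have hcard : 2 ^ 3 ≤ Nat.card ↥(A ⊔ A') := by
    have := card_mul_le_of_disjoint (le_sup_left : A ≤ A ⊔ A') le_sup_right hinf
    rw [h4, hA'4'] at this
    norm_num
    omega
  have key := Cfsg.Agent.S0217.result (p := 2) (A ⊔ A') (fun a ha b hb' => P.commA ha hb')
    (fun a ha => by rw [pow_two]; exact P.sqA ha) hcard θ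
    (fun b hb' _ => (hθO b hb').trans (Subgroup.map_subtype_le _))
    (fun b hb' _ hd' => Nat.not_odd_iff_even.mpr (even_iff_two_dvd.mpr hd') (odd_of_le (hθO b hb') (odd_card_core b)))
    (fun b hb' _ g hg x hx => ⟨(mem_normalizer_iff.mp (YY_invariant P hb' hg) x).mp hx.1,
      (mem_normalizer_iff.mp (YY_invariant Q (hQ hb') (hQ hg)) x).mp hx.2⟩)
    (fun b hb' _ => oddSolv _ (odd_of_le (hθO b hb') (odd_card_core b)))
    (fun a ha _ b hb' hb'1 x hx => ?_)
  swap
  · obtain ⟨⟨hx1, hx2⟩, hxb⟩ := hx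
    have hcore : x ∈ centralizerPPrimeCore 2 b := by
      refine mem_core_of_centralizes (P.mem_cc ha hb') (P.sqA ha) (YY_le P ha hx1) hxb fun F hF => ?_
      rcases hsep b hb' hb'1 F hF with h' | h'
      · exact YY_centralizes oddSolv P ha hb' hF h' hx1 hxb
      · exact YY_centralizes oddSolv Q (hQ ha) (hQ hb') hF h' hx2 hxb
    exact ⟨YY_balance oddSolv P ha hb' hx1 hcore, YY_balance oddSolv Q (hQ ha) (hQ hb') hx2 hcore⟩
  set W := ⨆ b : {b : G // b ∈ A ⊔ A' ∧ b ≠ 1}, θ (b : G) with hWdef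
  have hWodd : Odd (Nat.card W) := Nat.odd_iff.mpr (Nat.two_dvd_ne_zero.mp key.1)
  have hθW : ∀ b ∈ A ⊔ A', b ≠ 1 → θ b ≤ W := fun b hb' hb'1 =>
    le_iSup (fun b : {b : G // b ∈ A ⊔ A' ∧ b ≠ 1} => θ (b : G)) ⟨b, hb', hb'1⟩
  have hWB : A ⊔ A' ≤ normalizer (W : Set G) := fun g hg => mem_normalizer_of_maps fun x hx => by
    have hle' : W ≤ W.comap (MulAut.conj g).toMonoidHom := iSup_le fun b y hy =>
      hθW b b.2.1 b.2.2 ⟨(mem_normalizer_iff.mp (YY_invariant P b.2.1 hg) y).mp hy.1,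
        (mem_normalizer_iff.mp (YY_invariant Q (hQ b.2.1) (hQ hg)) y).mp hy.2⟩
    exact hle' hx
  -- the proper subgroup
  set K := A ⊔ ⨆ a : {a : G // a ∈ A ∧ a ≠ 1}, centralizerPPrimeCore 2 (a : G) with hK
  have hKne : K ≠ ⊥ := fun e => hA.ne_bot (le_bot_iff.mp (e ▸ le_sup_left))
  have hKO : ∀ a ∈ A, a ≠ 1 → centralizerPPrimeCore 2 a ≤ K := fun a ha ha1 => le_trans
    (le_iSup (fun a : {a : G // a ∈ A ∧ a ≠ 1} => centralizerPPrimeCore 2 (a : G)) ⟨a, ha, ha1⟩) le_sup_right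
  have hKtop : K ≠ ⊤ := by
    by_cases hall : ∀ a ∈ A, a ≠ 1 → ⁅centralizerPPrimeCore 2 a, A'⁆ = ⊥
    · intro e
      obtain ⟨t, ht, ht1⟩ := A'.bot_or_exists_ne_one.resolve_left hA'ne
      refine h.cc_ne_top ht1 (top_le_iff.mp (e ▸ sup_le (fun x hx => ?_) (iSup_le fun a x hx => ?_)))
      · exact AfterFT.CoreSep.mem_cc.mpr (hA0.comm (hAle hx) (hA'le ht))
      · exact AfterFT.CoreSep.mem_cc.mpr
          (comm_of_commutator_eq_bot (hall a a.2.1 a.2.2) hx ht)
    · push Not at hall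
      obtain ⟨a, ha, ha1, hne'⟩ := hall
      have hW1 : W ≠ ⊥ := fun e => hne' (le_bot_iff.mp (e ▸
        (le_inf ((commutator_le_of_le_normalizer (le_sup_right.trans
            (P.le_normalizer_core (Subgroup.mem_sup_left ha)))).trans (core_le_YY P ha))
          le_sup_left).trans (hθW a (Subgroup.mem_sup_left ha) ha1)))
      intro e
      refine h.normalizer_ne_top hW1 (hA.ne_top_of_odd hWodd) (top_le_iff.mp (e ▸ sup_le ?_ ?_))
      · exact le_sup_left.trans hWB
      · exact iSup_le fun a => core_normalizes_W P Q hWodd hWB (fun b hb' hb'1 => key.2 b hb' hb'1) a.2.1 a.2.2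
  refine h.false_of_le hA (h.normalizer_ne_top hKne hKtop) fun a ha ha1 x hx => ?_
  obtain ⟨o, ho, n, hn, rfl⟩ := h.cc_le_of_central hA ha ha1
    (fun F hF => central_of_no_block (h.no_blocked_four hA h4) ha ha1 hF) hx
  refine mul_mem (Subgroup.le_normalizer (hKO a ha ha1 ho)) (mem_normalizer_of_maps fun y hy => ?_)
  have hle' : K ≤ K.comap (MulAut.conj n).toMonoidHom := by
    refine sup_le (fun b hb' => Subgroup.mem_sup_left ((mem_normalizer_iff.mp hn.1 b).mp hb'))
      (iSup_le fun b y hy => hKO _ ((mem_normalizer_iff.mp hn.1 _).mp b.2.1)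
        (fun e => b.2.2 (conj_eq_one_iff.mp e)) ?_)
    exact CfsgLib.SolvSF.conj_mem_centralizerPPrimeCore n (b : G) hy
  exact hle' hy

end CfsgLib.WalterAb
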