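import Cfsg.Agent.Lib.Walter.Ab.Red
import Cfsg.Agent.Lib.Walter.Ab.Two
import Cfsg.Agent.Lib.Walter.Ab.Eight
import Cfsg.Agent.Lib.InvariantComplement
import Cfsg.Agent.S0343

/-!
The simple groups with abelian Sylow 2-subgroups, from Walter's induction statement.

Blueprint: `blueprint/Walter.md`, "S0506 audit" (Assembly).
-/

set_option autoImplicit false
set_option linter.unusedSectionVars false
set_option linter.style.haveILetI false

namespace CfsgLib.WalterAb

open Cfsg Subgroup CfsgLib.Comp CfsgLib.AfterFT.CoreSep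
open CfsgLib.S3Simple (Closed Irred)

universe u

variable {G : Type u} [Group G] [Finite G]

/-- An invariant subgroup of a strongly closed one has a strongly closed invariant complement. -/
theorem Hyp.exists_compl (h : Hyp G) {S : Sylow 2 G} {A0 A : Subgroup G} (hA0 : Closed S A0) (hA : A ≤ A0)
    (hN : normalizer (A0 : Set G) ≤ normalizer (A : Set G)) :
    ∃ C ≤ A0, A ⊓ C = ⊥ ∧ A ⊔ C = A0 ∧ normalizer (A0 : Set G) ≤ normalizer (C : Set G) := by
  classical
  haveI : Fact (Nat.Prime 2) := ⟨Nat.prime_two⟩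
  letI : CommGroup A0 :=
    { (inferInstance : Group A0) with mul_comm := fun a b => Subtype.ext (hA0.comm a.2 b.2) }
  let φ := A0.normalizerMonoidHom
  have hcop : (Nat.card φ.range).Coprime (Nat.card A0) := by
    obtain ⟨n, hn⟩ := IsPGroup.iff_card.mp hA0.isPGroup
    rw [hn, ← index_ker, normalizerMonoidHom_ker]
    exact Nat.Coprime.pow_right n (Nat.coprime_two_right.mpr (h.odd_relIndex hA0))
  have hU : ∀ (a : φ.range), ∀ u ∈ A.subgroupOf A0, φ.range.subtype a u ∈ A.subgroupOf A0 := by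
    rintro ⟨_, n, rfl⟩ u hu
    exact (mem_normalizer_iff.mp (hN n.2) _).mp hu
  obtain ⟨K, hK, hK'⟩ := CfsgLib.exists_complement_of_exponent (E := A0) (p := 2)
    (fun x => Subtype.ext (by rw [pow_two]; exact hA0.sq x.2)) (A.subgroupOf A0)
  obtain ⟨W, hW, hW1, hW2⟩ := CfsgLib.exists_invariant_complement φ.range.subtype hcop hU hK hK'
  refine ⟨W.map A0.subtype, map_subtype_le W, ?_, ?_, fun g hg => mem_normalizer_of_maps ?_⟩
  · rw [eq_bot_iff]
    rintro x ⟨hxA, w, hw, rfl⟩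
    have hmem : w ∈ A.subgroupOf A0 ⊓ W := ⟨hxA, hw⟩
    rw [hW1, mem_bot] at hmem
    rw [mem_bot, hmem, map_one]
  · refine le_antisymm (sup_le hA (map_subtype_le W)) fun x hx => ?_
    have hx' : x ∈ (A.subgroupOf A0 ⊔ W).map A0.subtype := by
      rw [hW2]; exact ⟨⟨x, hx⟩, mem_top _, rfl⟩
    rw [Subgroup.map_sup, subgroupOf_map_subtype] at hx'
    have hle : A ⊓ A0 ⊔ W.map A0.subtype ≤ A ⊔ W.map A0.subtype := sup_le_sup_right inf_le_left _
    exact hle hx'
  · rintro _ ⟨w, hw, rfl⟩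
    exact ⟨_, hW ⟨φ ⟨g, hg⟩, ⟨⟨g, hg⟩, rfl⟩⟩ w hw, rfl⟩

theorem four_or_eight {n : ℕ} (h : 4 ≤ 2 ^ n) : 2 ^ n = 4 ∨ 8 ≤ 2 ^ n := by
  rcases n with - | - | - | n
  · norm_num at h
  · norm_num at h
  · exact Or.inl rfl
  · exact Or.inr (Nat.pow_le_pow_right (by norm_num) (by omega) : 2 ^ 3 ≤ 2 ^ (n + 1 + 1 + 1))

/-- There is no minimal counterexample. -/
theorem Hyp.false_of_P (h : Hyp G) (hP : Walter.P G) : False := by
  haveI : Fact (Nat.Prime 2) := ⟨Nat.prime_two⟩
  let S : Sylow 2 G := default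
  have h48 : ∀ {B : Subgroup G}, Closed S B → Nat.card B = 4 ∨ 8 ≤ Nat.card B := fun {B} hB => by
    obtain ⟨n, hn⟩ := IsPGroup.iff_card.mp hB.isPGroup
    rw [hn]
    exact four_or_eight (hn ▸ h.four_le_card hB)
  have hA0 := h.omega_closed S
  obtain ⟨A, hAle, hA, hI, hNA⟩ := hA0.exists_irred le_rfl hA0.ne_bot le_rfl
  by_cases he : A = h.omega S
  · subst he
    rcases h48 hA0 with h4 | h8
    · exact h.false_of_omega_four S h4
    obtain ⟨hc, hblk⟩ := h.eight_of_irred hA0 hI h8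
    obtain ⟨hE, hns⟩ := h.omega_eight S hI hc hblk
    exact h.not_listed (Or.inr ⟨hE, fun t ht => hP h.simple S (hE S) t ht (hns t ht)⟩)
  obtain ⟨C, hCle, hd, hs, hNC⟩ := h.exists_compl hA0 hAle hNA
  have hC1 : C ≠ ⊥ := fun e => he (by rw [← hs, e, sup_bot_eq])
  have hC : Closed S C := by
    refine ⟨hCle.trans hA0.le, CfsgLib.Signalizer.ea_le hA0.elem hCle, hC1, hCle.trans hA0.le, ?_⟩
    intro x hx g hg
    obtain ⟨n, hn, e⟩ := hA0.exists_normalizer_conj (hA0.le (hCle hx)) hg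
    rw [← e]
    exact (mem_normalizer_iff.mp (hNC hn) x).mp hx
  rcases h48 hA with h4 | h8
  · exact h.false_of_four hA0 hA hAle h4 hC hCle hNC hNA hd hs
  obtain ⟨hc, hblk⟩ := h.eight_of_irred hA hI h8
  rcases h48 hC with h4' | h8'
  · exact h.false_of_four hA0 hC hCle h4' hA hAle hNA hNC (inf_comm A C ▸ hd) (sup_comm A C ▸ hs)
  · exact h.false_of_split ⟨hA0, hA, hAle, hCle, hd, hs, hNC⟩ hc hblk h8'

/-- The simple groups with abelian Sylow 2-subgroups, from Walter's induction statement. -/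
theorem listed_of_P (hP : ∀ (X : Type u) [Group X] [Finite X], Walter.P X) :
    ∀ (G : Type u) [Group G] [Finite G], IsSimpleGroup G → ¬ IsMulCommutative G →
      (∀ P : Sylow 2 G, IsMulCommutative (P : Subgroup G)) → Listed G := by
  intro G _ _
  induction hn : Nat.card G using Nat.strong_induction_on generalizing G with
  | _ n ih =>
    intro hs hna hab
    haveI : Fact (Nat.Prime 2) := ⟨Nat.prime_two⟩
    by_contra hnl
    refine Hyp.false_of_P (G := G) ⟨hs, hna, hab, fun H hH K hK N _ hsK hnaK => ?_, hnl⟩ (hP G)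
    have hlt : Nat.card (↥K ⧸ N) < n := by
      have h1 : Nat.card (↥K ⧸ N) ≤ Nat.card ↥K :=
        Nat.card_le_card_of_surjective _ (QuotientGroup.mk'_surjective N)
      have h2 : Nat.card ↥K ≤ Nat.card ↥H := Nat.card_le_card_of_injective _ K.subtype_injective
      have h3 : Nat.card ↥H < Nat.card G := by
        refine lt_of_le_of_ne (Nat.card_le_card_of_injective _ H.subtype_injective) fun e => hH ?_
        exact Subgroup.eq_top_of_card_eq H e
      omega
    exact ih _ hlt (↥K ⧸ N) rfl hsK hnaK (abel_quotient (abel_subgroup (abel_subgroup hab H) K) N)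

/-- The list by orders. -/
theorem Listed.orders [IsSimpleGroup G] (hl : Listed G) :
    (∃ a : ℕ, 2 ≤ a ∧ ∃ (F : Type) (_ : Field F) (_ : Fintype F), Fintype.card F = 2 ^ a ∧
        Nonempty (G ≃* Matrix.ProjectiveSpecialLinearGroup (Fin 2) F)) ∨
      (∃ (F : Type) (_ : Field F) (_ : Fintype F), (Fintype.card F % 8 = 3 ∨ Fintype.card F % 8 = 5) ∧
        Nonempty (G ≃* Matrix.ProjectiveSpecialLinearGroup (Fin 2) F)) ∨ Cfsg.IsRee G ∨ Cfsg.IsJ1 G := by
  haveI : Fact (Nat.Prime 2) := ⟨Nat.prime_two⟩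
  rcases hl with ⟨F, i1, i2, ⟨hq, -⟩ | ⟨n, hn, hc⟩, e⟩ | hJ
  · exact Or.inr (Or.inl ⟨F, i1, i2, hq, e⟩)
  · exact Or.inl ⟨n, hn, F, i1, i2, hc, e⟩
  · have hab : ∀ P : Sylow 2 G, ∀ a b : P, a * b = b * a := fun P a b => by
      have hsq : ∀ x : P, x * x = 1 := fun x => Subtype.ext ((hJ.1 P).2 x x.2)
      calc a * b = (a * b)⁻¹ := eq_inv_of_mul_eq_one_left (hsq _)
        _ = b⁻¹ * a⁻¹ := _root_.mul_inv_rev a b
        _ = b * a := by rw [inv_eq_of_mul_eq_one_left (hsq a), inv_eq_of_mul_eq_one_left (hsq b)]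
    let S : Sylow 2 G := default
    have h2 : 2 ∣ Nat.card G :=
      (show 2 ∣ Nat.card (S : Subgroup G) by rw [(hJ.1 S).1]; norm_num).trans (card_subgroup_dvd_card _)
    obtain ⟨t, ht⟩ := exists_prime_orderOf_dvd_card' 2 h2
    obtain ⟨F, i1, i2, hq, hC⟩ := hJ.2 t ht
    have h3 : 3 ≤ Fintype.card F := by
      rcases hq with e | ⟨m, -, e⟩
      · omega
      · exact e ▸ Nat.le_self_pow (by omega) 3
    rcases Cfsg.Agent.S0343.result hab h3 t ht hC with ⟨m, hm, -, hcard⟩ | ⟨-, hj⟩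
    · exact Or.inr (Or.inr (Or.inl ⟨inferInstance, m, hm, hcard⟩))
    · exact Or.inr (Or.inr (Or.inr hj))

end CfsgLib.WalterAb
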