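import Cfsg.Agent.Lib.Walter.Ab.Facts
import Cfsg.Agent.Lib.S3Simple.Basic
import Cfsg.Agent.Lib.S3Simple.Component

/-!
Components of a group with trivial core and abelian Sylow 2-subgroups, relative to a strongly closed elementary
subgroup.

Blueprint: `blueprint/Walter.md`, "S0506 audit" (Ctx).
-/

set_option autoImplicit false
set_option linter.unusedSectionVars false
set_option linter.style.haveILetI false

namespace CfsgLib.WalterAb

open Cfsg Subgroup CfsgLib.Comp
open CfsgLib.S3Simple (Closed component_isSimple component_not_comm mem_normalizer_of_map_eq)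

universe u

/-- Trivial core, abelian Sylow 2-subgroups and listed composition factors. -/
structure Ctx (M : Type u) [Group M] [Finite M] : Prop where
  core : pPrimeCore 2 M = ⊥
  abel : ∀ P : Sylow 2 M, IsMulCommutative (P : Subgroup M)
  listed : IsCompositionKGroupWith Listed M

variable {M : Type u} [Group M] [Finite M] {T : Sylow 2 M} {A E F : Subgroup M}

theorem Ctx.comm (hM : Ctx M) (T : Sylow 2 M) {x y : M} (hx : x ∈ (T : Subgroup M))
    (hy : y ∈ (T : Subgroup M)) : x * y = y * x :=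
  congrArg Subtype.val ((hM.abel T).1.comm ⟨x, hx⟩ ⟨y, hy⟩)

/-- An element of an abelian Sylow subgroup that is central in a perfect group is trivial. -/
theorem central_sylow_trivial {X : Type u} [Group X] [Finite X] (hX : commutator X = ⊤) {p : ℕ} [Fact p.Prime]
    (R : Sylow p X) (hR : IsMulCommutative (R : Subgroup X)) {z : X} (hz : z ∈ center X)
    (hzR : z ∈ (R : Subgroup X)) : z = 1 := by
  letI : CommGroup (R : Subgroup X) := { (inferInstance : Group (R : Subgroup X)) with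
    mul_comm := fun a b => hR.1.comm a b }
  let v : X →* (R : Subgroup X) := MonoidHom.transfer (MonoidHom.id (R : Subgroup X))
  have hv : v z = (⟨z, hzR⟩ : (R : Subgroup X)) ^ (R : Subgroup X).index := by
    refine (MonoidHom.transfer_eq_pow _ z fun k g₀ _ => ?_).trans (Subtype.ext (by simp))
    rw [mul_assoc, ← mem_center_iff.mp (pow_mem hz k) g₀, inv_mul_cancel_left]
  have h0 : v z = 1 := by
    have hs : commutator X ≤ v.ker := Abelianization.commutator_subset_ker v
    rw [hX] at hs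
    exact hs (mem_top z)
  rw [h0] at hv
  obtain ⟨k, hk⟩ := IsPGroup.iff_orderOf.mp R.2 ⟨z, hzR⟩
  have h1 := orderOf_dvd_of_pow_eq_one hv.symm
  rw [hk] at h1
  rcases Nat.eq_zero_or_pos k with rfl | hk0
  · rw [pow_zero, orderOf_eq_one_iff] at hk
    exact congrArg Subtype.val hk
  · exact absurd ((dvd_pow_self p hk0.ne').trans h1) R.not_dvd_index

theorem component_perfect (hE : IsComponent E) : commutator ↥E = ⊤ := by
  refine map_injective E.subtype_injective ?_
  rw [commutator_def, map_commutator, ← MonoidHom.range_eq_map, range_subtype]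
  exact isComponent_commutator_self hE

/-- The components are simple. -/
theorem Ctx.center_eq_bot (hM : Ctx M) (hE : IsComponent E) : center ↥E = ⊥ := by
  haveI : Fact (Nat.Prime 2) := ⟨Nat.prime_two⟩
  obtain ⟨T⟩ : Nonempty (Sylow 2 M) := inferInstance
  obtain ⟨P, hP⟩ := CfsgLib.CharPLocal.exists_sylow_subnormal T hE.1
  have hPc : IsMulCommutative (P : Subgroup ↥E) := ⟨⟨fun a b => Subtype.ext (Subtype.ext
    (hM.comm T (hP ▸ mem_map_of_mem E.subtype a.2 : (a : M) ∈ (T : Subgroup M) ⊓ E).1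
      (hP ▸ mem_map_of_mem E.subtype b.2 : (b : M) ∈ (T : Subgroup M) ⊓ E).1))⟩⟩
  have hZ : (center ↥E).map E.subtype ≤ (T : Subgroup M) := by
    haveI : Group.IsNilpotent ((center ↥E).map E.subtype : Subgroup M) := nilpotent_of_comm (by
      rintro _ ⟨a, ha, rfl⟩ _ ⟨b, -, rfl⟩
      exact congrArg Subtype.val ((mem_center_iff.mp ha b).symm))
    have hsn : ((center ↥E).map E.subtype : Subgroup M).IsSubnormal :=
      (inferInstance : (center ↥E).Normal).isSubnormal.trans' hE.1
    have h := isSubnormal_nilpotent_le_fitting hsn inferInstance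
    rw [fitting_eq_pCore Nat.prime_two hM.core] at h
    exact h.trans (CfsgLib.AfterFT.CoreSep.pCore_two_le_sylow T)
  refine (eq_bot_iff_forall _).mpr fun z hz => ?_
  obtain ⟨y, hy, e⟩ : (z : M) ∈ (P : Subgroup ↥E).map E.subtype := by
    rw [hP]
    exact ⟨hZ (mem_map_of_mem E.subtype hz), z.2⟩
  exact central_sylow_trivial (component_perfect hE) P hPc hz ((E.subtype_injective e) ▸ hy)

theorem Ctx.simple (hM : Ctx M) (hE : IsComponent E) : IsSimpleGroup ↥E := by
  haveI := component_isSimple hE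
  exact ((QuotientGroup.quotientMulEquivOfEq (hM.center_eq_bot hE)).trans
    QuotientGroup.quotientBot).symm.isSimpleGroup

theorem Ctx.comp_listed (hM : Ctx M) (hE : IsComponent E) : Listed ↥E :=
  listed_congr _ _ ⟨(QuotientGroup.quotientMulEquivOfEq (hM.center_eq_bot hE)).trans QuotientGroup.quotientBot⟩
    (hM.listed E hE.1 (center ↥E) (component_isSimple hE) (component_not_comm hE))

theorem Ctx.eq_one_of_centralizes_self (hM : Ctx M) (hE : IsComponent E) {x : M} (hx : x ∈ E)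
    (hc : x ∈ centralizer (E : Set M)) : x = 1 := by
  have h : (⟨x, hx⟩ : ↥E) ∈ center ↥E := mem_center_iff.mpr fun e => Subtype.ext (hc e e.2)
  rw [hM.center_eq_bot hE, mem_bot] at h
  exact congrArg Subtype.val h

/-- The Sylow subgroup of a component inside `T` is good. -/
theorem Ctx.comp_sylow (hM : Ctx M) (T : Sylow 2 M) (hE : IsComponent E) :
    ∃ P : Sylow 2 ↥E, (P : Subgroup ↥E).map E.subtype = (T : Subgroup M) ⊓ E ∧ Good P := by
  haveI : Fact (Nat.Prime 2) := ⟨Nat.prime_two⟩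
  haveI := hM.simple hE
  obtain ⟨P, hP⟩ := CfsgLib.CharPLocal.exists_sylow_subnormal T hE.1
  exact ⟨P, hP, (hM.comp_listed hE).good P⟩

theorem Ctx.four_le_inf (hM : Ctx M) (T : Sylow 2 M) (hE : IsComponent E) :
    4 ≤ Nat.card ↥((T : Subgroup M) ⊓ E) := by
  obtain ⟨P, hP, hg⟩ := hM.comp_sylow T hE
  rw [← hP, card_map_of_injective E.subtype_injective]
  exact hg.four

/-- The Sylow subgroup normalises every component. -/
theorem Ctx.sylow_normalizes (hM : Ctx M) (T : Sylow 2 M) (hE : IsComponent E) :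
    (T : Subgroup M) ≤ normalizer (E : Set M) := by
  intro x hx
  have hF : IsComponent (E.map (MulAut.conj x).toMonoidHom) := isComponent_map_equiv (MulAut.conj x) hE
  refine mem_normalizer_of_map_eq ((components_eq_or_commute hF hE).resolve_right fun h0 => ?_)
  have h4 := hM.four_le_inf T hE
  have hb : (T : Subgroup M) ⊓ E = ⊥ := by
    refine (eq_bot_iff_forall _).mpr fun y hy => hM.eq_one_of_centralizes_self hE hy.2 fun e he => ?_
    have hyF : y ∈ E.map (MulAut.conj x).toMonoidHom :=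
      ⟨y, hy.2, (mul_inv_eq_iff_eq_mul.mpr (hM.comm T hx hy.1) : x * y * x⁻¹ = y)⟩
    exact (comm_of_commutator_eq_bot h0 hyF he).symm
  rw [hb, card_bot] at h4
  omega

/-- An element of `T` is an element of `T ∩ E` times one centralising `E`. -/
theorem Ctx.exists_inner (hM : Ctx M) (T : Sylow 2 M) (hE : IsComponent E) {t : M}
    (ht : t ∈ (T : Subgroup M)) :
    ∃ q ∈ (T : Subgroup M) ⊓ E, q⁻¹ * t ∈ centralizer (E : Set M) ∧ (t * t = 1 → q * q = 1) := by
  haveI : Fact (Nat.Prime 2) := ⟨Nat.prime_two⟩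
  obtain ⟨P, hP, hg⟩ := hM.comp_sylow T hE
  set φ := E.normalizerMonoidHom ⟨t, hM.sylow_normalizes T hE ht⟩ with hφ
  obtain ⟨k, hk⟩ := T.2 ⟨t, ht⟩
  have hφk : φ ^ 2 ^ k = 1 := by
    rw [hφ, ← map_pow, show (⟨t, hM.sylow_normalizes T hE ht⟩ : normalizer (E : Set M)) ^ 2 ^ k = 1 from
      Subtype.ext (congrArg Subtype.val hk :), map_one]
  have hfix : ∀ y ∈ (P : Subgroup ↥E), φ y = y := fun y hy => by
    refine Subtype.ext ?_
    show t * (y : M) * t⁻¹ = y
    rw [mul_inv_eq_iff_eq_mul]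
    exact hM.comm T ht (hP ▸ mem_map_of_mem E.subtype hy : (y : M) ∈ (T : Subgroup M) ⊓ E).1
  obtain ⟨q, hq, hφq⟩ := hg.inner φ k hφk hfix
  refine ⟨q, hP ▸ mem_map_of_mem E.subtype hq, fun e he => ?_, fun _ => congrArg Subtype.val (hg.selfCent.sq q hq)⟩
  have h1 : t * e * t⁻¹ = (q : M) * e * (q : M)⁻¹ :=
    congrArg Subtype.val (DFunLike.congr_fun hφq (⟨e, he⟩ : ↥E))
  calc e * ((q : M)⁻¹ * t) = (q : M)⁻¹ * ((q : M) * e * (q : M)⁻¹) * t := by group
    _ = (q : M)⁻¹ * (t * e * t⁻¹) * t := by rw [h1]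
    _ = (q : M)⁻¹ * t * e := by group

/-- The data of a component not centralised by `A`. -/
structure CompBlock (T : Sylow 2 M) (A E : Subgroup M) (k : M) : Prop where
  k_mem : k ∈ E
  k_normT : k ∈ normalizer ((T : Subgroup M) : Set M)
  k_norm : k ∈ normalizer (A : Set M)
  V_le : (T : Subgroup M) ⊓ E ≤ A
  disjoint : A ⊓ centralizer (E : Set M) ⊓ ((T : Subgroup M) ⊓ E) = ⊥
  sup : A ⊓ centralizer (E : Set M) ⊔ (T : Subgroup M) ⊓ E = A
  inv : ∀ v ∈ (T : Subgroup M) ⊓ E, k * v * k⁻¹ ∈ (T : Subgroup M) ⊓ E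
  trans : ∀ v ∈ (T : Subgroup M) ⊓ E, v ≠ 1 → ∀ w ∈ (T : Subgroup M) ⊓ E, w ≠ 1 →
    ∃ i : ℕ, k ^ i * v * (k ^ i)⁻¹ = w
  comm_V : ∀ a ∈ A, k * a * k⁻¹ * a⁻¹ ∈ (T : Subgroup M) ⊓ E
  four_le : 4 ≤ Nat.card ↥((T : Subgroup M) ⊓ E)

theorem CompBlock.split (hM : Ctx M) (hA : Closed T A) {k : M} (hb : CompBlock T A E k) {a : M} (ha : a ∈ A) :
    ∃ d ∈ A ⊓ centralizer (E : Set M), ∃ v ∈ (T : Subgroup M) ⊓ E, d * v = a := by
  have h : a ∈ A ⊓ centralizer (E : Set M) ⊔ (T : Subgroup M) ⊓ E := by rwa [hb.sup]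
  have hN : (T : Subgroup M) ⊓ E ≤ normalizer ((A ⊓ centralizer (E : Set M) : Subgroup M) : Set M) := fun v hv =>
    mem_normalizer_of_maps fun d hd => by
      rw [hM.comm T hv.1 (hA.le hd.1), mul_inv_cancel_right]
      exact hd
  have h' : a ∈ ((A ⊓ centralizer (E : Set M) ⊔ (T : Subgroup M) ⊓ E : Subgroup M) : Set M) := h
  rw [coe_mul_of_right_le_normalizer_left _ _ hN] at h'
  exact h'

/-- A component not centralised by `A` has its Sylow subgroup in `A`, with a transitive element. -/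
theorem Ctx.exists_compBlock (hM : Ctx M) (hA : Closed T A) (hE : IsComponent E)
    (hne : ¬ A ≤ centralizer (E : Set M)) : ∃ k, CompBlock T A E k := by
  classical
  haveI : Fact (Nat.Prime 2) := ⟨Nat.prime_two⟩
  obtain ⟨P, hP, hg⟩ := hM.comp_sylow T hE
  obtain ⟨k₀, hk₀, htr₀⟩ := hg.trans
  set V := (T : Subgroup M) ⊓ E with hVdef
  set k : M := (k₀ : M) with hkdef
  have hkV : ∀ v ∈ V, k * v * k⁻¹ ∈ V := by
    intro v hv
    obtain ⟨y, hy, rfl⟩ : v ∈ (P : Subgroup ↥E).map E.subtype := hP.symm ▸ hv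
    exact hP ▸ mem_map_of_mem E.subtype ((mem_normalizer_iff.mp hk₀ y).mp hy)
  have htr : ∀ v ∈ V, v ≠ 1 → ∀ w ∈ V, w ≠ 1 → ∃ i : ℕ, k ^ i * v * (k ^ i)⁻¹ = w := by
    intro v hv hv1 w hw hw1
    obtain ⟨y, hy, rfl⟩ : v ∈ (P : Subgroup ↥E).map E.subtype := hP.symm ▸ hv
    obtain ⟨z, hz, rfl⟩ : w ∈ (P : Subgroup ↥E).map E.subtype := hP.symm ▸ hw
    obtain ⟨i, hi⟩ := htr₀ y hy (fun e => hv1 (by rw [e]; rfl)) z hz (fun e => hw1 (by rw [e]; rfl))
    exact ⟨i, (congrArg Subtype.val hi :)⟩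
  have hconj : ∀ t ∈ (T : Subgroup M), ∀ q ∈ V, q⁻¹ * t ∈ centralizer (E : Set M) →
      k * t * k⁻¹ = k * q * k⁻¹ * (q⁻¹ * t) := by
    intro t _ q _ hc
    have h1 := hc k⁻¹ (inv_mem k₀.2)
    calc k * t * k⁻¹ = k * q * (q⁻¹ * t * k⁻¹) := by group
      _ = k * q * (k⁻¹ * (q⁻¹ * t)) := by rw [h1]
      _ = _ := by group
  have hkT : ∀ t ∈ (T : Subgroup M), k * t * k⁻¹ ∈ (T : Subgroup M) := by
    intro t ht
    obtain ⟨q, hq, hc, -⟩ := hM.exists_inner T hE ht
    rw [hconj t ht q hq hc]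
    exact mul_mem (hkV q hq).1 (mul_mem (inv_mem hq.1) ht)
  have hkA : ∀ a ∈ A, k * a * k⁻¹ ∈ A := fun a ha => hA.closed.2 a ha k (hkT a (hA.le ha))
  obtain ⟨a, ha, hac⟩ := SetLike.not_le_iff_exists.mp hne
  obtain ⟨q, hq, hc, hq2⟩ := hM.exists_inner T hE (hA.le ha)
  have hq1 : q ≠ 1 := fun e => hac (by simpa [e] using hc)
  obtain ⟨v, hv, hv1, hvA⟩ : ∃ v ∈ V, v ≠ 1 ∧ v ∈ A := by
    refine ⟨k * a * k⁻¹ * a⁻¹, ?_, ?_, mul_mem (hkA a ha) (inv_mem ha)⟩
    · rw [hconj a (hA.le ha) q hq hc,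
        show k * q * k⁻¹ * (q⁻¹ * a) * a⁻¹ = k * q * k⁻¹ * q⁻¹ by group]
      exact mul_mem (hkV q hq) (inv_mem hq)
    · intro e
      rw [hconj a (hA.le ha) q hq hc, show k * q * k⁻¹ * (q⁻¹ * a) * a⁻¹ = k * q * k⁻¹ * q⁻¹ by group,
        mul_inv_eq_one] at e
      have hci : ∀ i : ℕ, k ^ i * q * (k ^ i)⁻¹ = q := fun i => by
        rw [((show Commute k q from mul_inv_eq_iff_eq_mul.mp e).pow_left i).eq, mul_inv_cancel_right]
      have h4 : 4 ≤ Nat.card V := hM.four_le_inf T hE
      obtain ⟨w, hw, hw1, hwq⟩ : ∃ w ∈ V, w ≠ 1 ∧ w ≠ q := by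
        by_contra! hcon
        have : Nat.card V ≤ Nat.card Bool := by
          refine Nat.card_le_card_of_injective (fun z : V => decide ((z : M) = 1)) fun p r hpr => Subtype.ext ?_
          have h' := decide_eq_decide.mp hpr
          by_cases hp : (p : M) = 1
          · rw [hp, h'.mp hp]
          · rw [hcon p p.2 hp, hcon r r.2 fun hr => hp (h'.mpr hr)]
        rw [Nat.card_eq_fintype_card (α := Bool), Fintype.card_bool] at this
        omega
      obtain ⟨i, hi⟩ := htr q hq hq1 w hw hw1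
      exact hwq (hi.symm.trans (hci i))
  have hVA : V ≤ A := fun w hw => by
    by_cases hw1 : w = 1
    · rw [hw1]; exact one_mem A
    obtain ⟨i, rfl⟩ := htr v hv hv1 w hw hw1
    exact (mem_normalizer_iff.mp (pow_mem (mem_normalizer_of_maps hkA) i) v).mp hvA
  refine ⟨k, k₀.2, mem_normalizer_of_maps hkT, mem_normalizer_of_maps hkA, hVA, ?_, ?_, hkV, htr, ?_,
    hM.four_le_inf T hE⟩
  · exact (eq_bot_iff_forall _).mpr fun y hy => hM.eq_one_of_centralizes_self hE hy.2.2 hy.1.2
  · refine le_antisymm (sup_le inf_le_left hVA) fun b hb => ?_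
    obtain ⟨p, hp, hpc, -⟩ := hM.exists_inner T hE (hA.le hb)
    have hd : p⁻¹ * b ∈ A ⊓ centralizer (E : Set M) := ⟨A.mul_mem (A.inv_mem (hVA hp)) hb, hpc⟩
    have hm : p⁻¹ * b * p ∈ A ⊓ centralizer (E : Set M) ⊔ V := Subgroup.mul_mem_sup hd hp
    rwa [hA.comm (mul_mem (inv_mem (hVA hp)) hb) (hVA hp), mul_inv_cancel_left] at hm
  · intro b hb
    obtain ⟨p, hp, hpc, -⟩ := hM.exists_inner T hE (hA.le hb)
    rw [hconj b (hA.le hb) p hp hpc, show k * p * k⁻¹ * (p⁻¹ * b) * b⁻¹ = k * p * k⁻¹ * p⁻¹ by group]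
    exact mul_mem (hkV p hp) (inv_mem hp)

/-- A component not centralised by `A` is determined by its centraliser in `A`. -/
theorem Ctx.component_unique (hM : Ctx M) (hA : Closed T A) (hE : IsComponent E) (hF : IsComponent F)
    (hne : ¬ A ≤ centralizer (E : Set M))
    (h : A ⊓ centralizer (E : Set M) = A ⊓ centralizer (F : Set M)) : E = F := by
  refine (components_eq_or_commute hE hF).resolve_right fun hbot => ?_
  obtain ⟨k, hb⟩ := hM.exists_compBlock hA hE hne
  have hle : (T : Subgroup M) ⊓ E ≤ A ⊓ centralizer (E : Set M) := by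
    rw [h]
    exact fun v hv => ⟨hb.V_le hv, fun e he => (comm_of_commutator_eq_bot hbot hv.2 he).symm⟩
  have h4 := hb.four_le
  rw [le_bot_iff.mp (hb.disjoint ▸ le_inf hle le_rfl : (T : Subgroup M) ⊓ E ≤ ⊥), card_bot] at h4
  omega

/-- An element normalising `A` and fixing the centraliser of a component in `A` normalises the component and moves
the elements of `A` by elements of the component. -/
theorem Ctx.fix_moves (hM : Ctx M) (hA : Closed T A) (hE : IsComponent E)
    (hne : ¬ A ≤ centralizer (E : Set M)) {x : M} (hx : x ∈ normalizer (A : Set M))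
    (hfix : ∀ d ∈ A ⊓ centralizer (E : Set M), x * d = d * x) :
    x ∈ normalizer (E : Set M) ∧ ∀ a ∈ A, x * a * x⁻¹ * a⁻¹ ∈ A ⊓ E := by
  obtain ⟨k, hb⟩ := hM.exists_compBlock hA hE hne
  have hE' : IsComponent (E.map (MulAut.conj x).toMonoidHom) := isComponent_map_equiv (MulAut.conj x) hE
  have hN : x ∈ normalizer (E : Set M) := by
    refine mem_normalizer_of_map_eq (hM.component_unique hA hE hE' hne ?_).symm
    ext a
    constructor
    · intro ha
      refine ⟨ha.1, ?_⟩
      rintro _ ⟨e, he, rfl⟩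
      show x * e * x⁻¹ * a = a * (x * e * x⁻¹)
      have h1 : x⁻¹ * a * x = a := by rw [mul_assoc, ← hfix a ha, inv_mul_cancel_left]
      calc x * e * x⁻¹ * a = x * (e * (x⁻¹ * a * x)) * x⁻¹ := by group
        _ = x * ((x⁻¹ * a * x) * e) * x⁻¹ := by rw [h1, ha.2 e he]
        _ = a * (x * e * x⁻¹) := by group
    · rintro ⟨ha, hac⟩
      have hb' : x⁻¹ * a * x ∈ A ⊓ centralizer (E : Set M) := by
        refine ⟨(mem_normalizer_iff''.mp hx a).mp ha, fun e he => ?_⟩
        have h1 := hac (x * e * x⁻¹) ⟨e, he, rfl⟩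
        calc e * (x⁻¹ * a * x) = x⁻¹ * (x * e * x⁻¹ * a) * x := by group
          _ = x⁻¹ * (a * (x * e * x⁻¹)) * x := by rw [h1]
          _ = x⁻¹ * a * x * e := by group
      have h2 := hfix _ hb'
      rw [← mul_assoc, ← mul_assoc, mul_inv_cancel, one_mul] at h2
      have h3 : a = x⁻¹ * a * x := mul_right_cancel h2
      rw [h3]
      exact hb'
  refine ⟨hN, fun a ha => ⟨A.mul_mem ((mem_normalizer_iff.mp hx a).mp ha) (A.inv_mem ha), ?_⟩⟩
  obtain ⟨d, hd, v, hv, rfl⟩ := hb.split hM hA ha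
  have e1 : x * (d * v) * x⁻¹ * (d * v)⁻¹ = x * v * x⁻¹ * v⁻¹ := by
    have h1 : x * (d * v) * x⁻¹ = d * (x * v * x⁻¹) := by
      rw [← mul_assoc x, hfix d hd]; group
    have h2 := hA.comm hd.1 (mul_mem ((mem_normalizer_iff.mp hx v).mp (hb.V_le hv)) (inv_mem (hb.V_le hv)))
    calc x * (d * v) * x⁻¹ * (d * v)⁻¹ = d * (x * v * x⁻¹ * v⁻¹) * d⁻¹ := by rw [h1]; group
      _ = x * v * x⁻¹ * v⁻¹ := by rw [h2, mul_inv_cancel_right]
  rw [e1]
  exact E.mul_mem ((mem_normalizer_iff.mp hN v).mp hv.2) (E.inv_mem hv.2)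

/-- An element of `A` is a product of an element of the layer lying in `A` and one centralising the components. -/
theorem Ctx.exists_adjust (hM : Ctx M) (hA : Closed T A) {a : M} (ha : a ∈ A) :
    ∃ u, u ∈ A ∧ u ∈ layer M ∧ ∀ E : Subgroup M, IsComponent E → a * u ∈ centralizer (E : Set M) := by
  classical
  haveI := Fintype.ofFinite (Subgroup M)
  suffices h : ∀ s : Finset (Subgroup M), (∀ E ∈ s, IsComponent E) →
      ∃ u, u ∈ A ∧ u ∈ layer M ∧ ∀ E ∈ s, a * u ∈ centralizer (E : Set M) by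
    obtain ⟨u, hu, hl, hc⟩ := h (Finset.univ.filter IsComponent) fun E hE => (Finset.mem_filter.mp hE).2
    exact ⟨u, hu, hl, fun E hE => hc E (Finset.mem_filter.mpr ⟨Finset.mem_univ _, hE⟩)⟩
  intro s
  induction s using Finset.induction_on with
  | empty => exact fun _ => ⟨1, one_mem _, one_mem _, fun E hE => absurd hE (Finset.notMem_empty E)⟩
  | @insert E s hEs ih =>
    intro hs
    obtain ⟨u, hu, hl, hc⟩ := ih fun F hF => hs F (Finset.mem_insert_of_mem hF)
    have hE := hs E (Finset.mem_insert_self _ _)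
    by_cases hcent : a * u ∈ centralizer (E : Set M)
    · exact ⟨u, hu, hl, fun F hF => (Finset.mem_insert.mp hF).elim (fun e => e ▸ hcent) (hc F)⟩
    obtain ⟨k, hb⟩ := hM.exists_compBlock hA hE fun hle => hcent (hle (mul_mem ha hu))
    obtain ⟨d, hd, v, hv, he⟩ := hb.split hM hA (mul_mem ha hu)
    refine ⟨u * v⁻¹, mul_mem hu (inv_mem (hb.V_le hv)), mul_mem hl (inv_mem (le_layer hE hv.2)), ?_⟩
    intro F hF
    rcases Finset.mem_insert.mp hF with rfl | hFs
    · rw [← mul_assoc, ← he, mul_inv_cancel_right]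
      exact hd.2
    · have hEF : ⁅E, F⁆ = ⊥ := (components_eq_or_commute hE (hs F hF)).resolve_left fun e => hEs (e ▸ hFs)
      rw [← mul_assoc]
      refine mul_mem (hc F hFs) (inv_mem fun f hf => ?_)
      exact (comm_of_commutator_eq_bot hEF hv.2 hf).symm

/-- What lies in `T` and centralises every component lies in `O₂`. -/
theorem Ctx.mem_pCore_of_centralizes (hM : Ctx M) {t : M} (ht : t ∈ (T : Subgroup M))
    (hc : ∀ E : Subgroup M, IsComponent E → t ∈ centralizer (E : Set M)) : t ∈ pCore 2 M := by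
  haveI : Fact (Nat.Prime 2) := ⟨Nat.prime_two⟩
  have hgf : generalizedFittingSubgroup M ≤ centralizer ({t} : Set M) := by
    refine sup_le (sSup_le fun E hE e he => ?_) fun q hq => ?_
    · exact mem_centralizer_singleton_iff.mpr (hc E hE e he)
    · rw [fitting_eq_pCore Nat.prime_two hM.core] at hq
      exact mem_centralizer_singleton_iff.mpr (hM.comm T (CfsgLib.AfterFT.CoreSep.pCore_two_le_sylow T hq) ht)
  have hmem : t ∈ centralizer (generalizedFittingSubgroup M : Set M) := fun y hy =>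
    mem_centralizer_singleton_iff.mp (hgf hy)
  haveI : (centralizer (generalizedFittingSubgroup M : Set M)).Normal := normal_centralizer
  have hZ : centralizer (generalizedFittingSubgroup M : Set M) ≤ fittingSubgroup M :=
    le_fittingSubgroup (nilpotent_of_comm fun a ha b hb => hb a (centralizer_generalizedFitting_le ha))
  have h := hZ hmem
  rwa [fitting_eq_pCore Nat.prime_two hM.core] at h

/-- `A` lies in the generalised Fitting subgroup. -/
theorem Ctx.closed_le_gfit (hM : Ctx M) (hA : Closed T A) : A ≤ generalizedFittingSubgroup M := by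
  intro a ha
  obtain ⟨u, hu, hl, hc⟩ := hM.exists_adjust hA ha
  have h2 : a * u ∈ generalizedFittingSubgroup M :=
    CfsgLib.AfterFT.CoreSep.pCore_two_le_gfit hM.core (hM.mem_pCore_of_centralizes (hA.le (mul_mem ha hu)) hc)
  have h3 := mul_mem h2 (inv_mem (layer_le_generalized hl))
  rwa [mul_inv_cancel_right] at h3

/-- The whole group is the layer times the normaliser of `A`. -/
theorem Ctx.layer_sup_normalizer (hM : Ctx M) (hA : Closed T A) : layer M ⊔ normalizer (A : Set M) = ⊤ := by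
  haveI : Fact (Nat.Prime 2) := ⟨Nat.prime_two⟩
  set F := generalizedFittingSubgroup M with hF
  haveI hFn : F.Normal := inferInstance
  obtain ⟨P, hP⟩ := CfsgLib.CharPLocal.exists_sylow_subnormal T hFn.isSubnormal
  have hAF := hM.closed_le_gfit hA
  have hN : normalizer (((P : Subgroup ↥F).map F.subtype : Subgroup M) : Set M) ≤ normalizer (A : Set M) :=
    fun n hn => mem_normalizer_of_maps fun a ha => by
      have h1 : a ∈ (P : Subgroup ↥F).map F.subtype := by rw [hP]; exact ⟨hA.le ha, hAF ha⟩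
      have h2 := (mem_normalizer_iff.mp hn a).mp h1
      rw [hP] at h2
      exact hA.closed.2 a ha n h2.1
  rw [eq_top_iff]
  refine (Sylow.normalizer_sup_eq_top P).ge.trans (sup_le (le_trans hN le_sup_right) (sup_le le_sup_left ?_))
  rw [fitting_eq_pCore Nat.prime_two hM.core]
  exact ((CfsgLib.AfterFT.CoreSep.pCore_two_le_sylow T).trans hA.le_normalizer).trans le_sup_right

/-- Without components the group is solvable. -/
theorem Ctx.solvable_of_no_component (hM : Ctx M) (hno : ∀ E : Subgroup M, ¬ IsComponent E) :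
    Group.IsSolvable M := by
  haveI : Fact (Nat.Prime 2) := ⟨Nat.prime_two⟩
  obtain ⟨T⟩ : Nonempty (Sylow 2 M) := inferInstance
  have heq : pCore 2 M = (T : Subgroup M) := le_antisymm (CfsgLib.AfterFT.CoreSep.pCore_two_le_sylow T)
    fun t ht => hM.mem_pCore_of_centralizes ht fun E hE => absurd hE (hno E)
  haveI hn : (pCore 2 M).Normal := Subgroup.sSup_normal _ fun _ h => h.1
  haveI := (isPGroup_pCore (G := M) 2).isNilpotent
  haveI : Group.IsSolvable ↥(pCore 2 M) := inferInstance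
  haveI : Group.IsSolvable (M ⧸ pCore 2 M) := Cfsg.Agent.S0205.result (by
    rw [← Subgroup.index_eq_card, heq]
    exact Nat.odd_iff.mpr (Nat.two_dvd_ne_zero.mp T.not_dvd_index))
  exact Group.isSolvable_of_ker_le_range (pCore 2 M).subtype (QuotientGroup.mk' (pCore 2 M)) fun x hx =>
    ⟨⟨x, (QuotientGroup.eq_one_iff x).mp hx⟩, rfl⟩

end CfsgLib.WalterAb
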