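import Cfsg.Agent.Lib.Walter.Ab.Setup
import Cfsg.Agent.Lib.S3Simple.Two
import Cfsg.Agent.Lib.S3Simple.Many

/-!
The blocks of a strongly closed elementary subgroup of a minimal counterexample to S0506, and how far they lift.

Blueprint: `blueprint/Walter.md`, "S0506 audit" (Blocks).
-/

set_option autoImplicit false
set_option linter.unusedSectionVars false
set_option linter.style.haveILetI false

namespace CfsgLib.WalterAb

open Cfsg Subgroup CfsgLib.Comp CfsgLib.AfterFT.CoreSep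
open scoped commutatorElement
open CfsgLib.S3Simple (Closed Blocked IsBlock blockD mem_blockD blockD_le self_mem_blockD not_le_centralizer imA
  mem_imA oddSolv res res_ker_odd res_range exists_pcomp_preimage pcomp_map_le_pLayer exists_perfect_map
  perfect_le_of_sup)

universe u

variable {G : Type u} [Group G] [Finite G] {S : Sylow 2 G} {A D D' : Subgroup G}

/-- The largest perfect subgroup. -/
def pres (R : Subgroup G) : Subgroup G := sSup {P | P ≤ R ∧ ⁅P, P⁆ = P}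

theorem pres_le (R : Subgroup G) : pres R ≤ R := sSup_le fun _ hP => hP.1

theorem le_pres {R P : Subgroup G} (h : P ≤ R) (hP : ⁅P, P⁆ = P) : P ≤ pres R := le_sSup ⟨h, hP⟩

theorem pres_perfect (R : Subgroup G) : ⁅pres R, pres R⁆ = pres R := by
  refine le_antisymm (commutator_le_self _) (sSup_le fun P hP => ?_)
  calc P = ⁅P, P⁆ := hP.2.symm
    _ ≤ _ := commutator_mono (le_sSup hP) (le_sSup hP)

theorem conj_mem_pres {R : Subgroup G} {g : G} (hg : ∀ x ∈ R, g * x * g⁻¹ ∈ R) {x : G} (hx : x ∈ pres R) :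
    g * x * g⁻¹ ∈ pres R := by
  have hle : pres R ≤ (pres R).comap (MulAut.conj g).toMonoidHom := sSup_le fun P hP => by
    rw [← map_le_iff_le_comap]
    refine le_pres ?_ (by rw [← map_commutator, hP.2])
    rintro _ ⟨y, hy, rfl⟩
    exact hg y (hP.1 hy)
  exact hle hx

/-- A perfect subgroup of a type, as a perfect group. -/
theorem perfect_top {M : Type u} [Group M] {X : Subgroup M} (hX : ⁅X, X⁆ = X) : commutator X = ⊤ := by
  refine map_injective X.subtype_injective ?_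
  rw [commutator_def, map_commutator, ← MonoidHom.range_eq_map, range_subtype, hX]

/-- The preimage in `C(D)` of a perfect subgroup centralised by `D` covers it by a perfect subgroup. -/
theorem exists_cover' (hA : Closed S A) {a : G} (ha : a ∈ A) {E : Subgroup (qq a)} (hE : ⁅E, E⁆ = E)
    (hDA : D ≤ A) (hD : ∀ x ∈ D, ∀ hx : x ∈ cc a, ff a ⟨x, hx⟩ ∈ centralizer (E : Set (qq a))) :
    ∃ P : Subgroup G, ⁅P, P⁆ = P ∧ P ≤ centralizer (D : Set G) ∧ P ≤ cc a ∧
      (P.subgroupOf (cc a)).map (ff a) = E := by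
  haveI : Fact (Nat.Prime 2) := ⟨Nat.prime_two⟩
  have hDc : D ≤ cc a := fun x hx => hA.mem_cc ha (hDA hx)
  have hDp : IsPGroup 2 (D.subgroupOf (cc a)) :=
    (hA.isPGroup.to_le hDA).of_equiv (subgroupOfEquivOfLe hDc).symm
  set R : Subgroup ↥(cc a) := centralizer (D.subgroupOf (cc a) : Set ↥(cc a)) ⊓ E.comap (ff a) with hR
  have hRE : R.map (ff a) = E := by
    refine le_antisymm ((map_mono inf_le_right).trans (map_comap_le _ _)) fun z hz => ?_
    have hzc : z ∈ centralizer (((D.subgroupOf (cc a)).map (ff a) : Subgroup (qq a)) : Set (qq a)) := by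
      rintro _ ⟨x, hx, rfl⟩
      exact ((hD (x : G) hx x.2) z hz).symm
    obtain ⟨x, hx, rfl⟩ := (bar_centralizer_two hDp).symm.le hzc
    exact ⟨x, ⟨hx, hz⟩, rfl⟩
  obtain ⟨P, hPR, hPP, hPm⟩ := exists_perfect_map (ff a) R (by rw [hRE]; exact hE)
  refine ⟨P.map (cc a).subtype, by rw [← map_commutator, hPP], ?_, map_subtype_le _, ?_⟩
  · rintro _ ⟨x, hx, rfl⟩ t ht
    exact congrArg Subtype.val ((hPR hx).1 ⟨t, hDc ht⟩ ht)
  · rw [subgroupOf, comap_map_eq_self_of_injective (cc a).subtype_injective, hPm, hRE]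

/-- The preimage in `C(D)` of a component covers it by a perfect subgroup. -/
theorem exists_cover (hA : Closed S A) {a : G} (ha : a ∈ A) {E : Subgroup (qq a)} (hE : IsComponent E)
    (hDA : D ≤ A) (hD : ∀ x ∈ D, ∀ hx : x ∈ cc a, ff a ⟨x, hx⟩ ∈ centralizer (E : Set (qq a))) :
    ∃ P : Subgroup G, ⁅P, P⁆ = P ∧ P ≤ centralizer (D : Set G) ∧ P ≤ cc a ∧
      (P.subgroupOf (cc a)).map (ff a) = E :=
  exists_cover' hA ha (isComponent_commutator_self hE) hDA hD

/-- The part of `A` over a component. -/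
def partV (A : Subgroup G) (a : G) (E : Subgroup (qq a)) : Subgroup G :=
  A ⊓ (E.comap (ff a)).map (cc a).subtype

theorem mem_partV (hA : Closed S A) {a x : G} (ha : a ∈ A) (hx : x ∈ A) {E : Subgroup (qq a)} :
    x ∈ partV A a E ↔ ff a ⟨x, hA.mem_cc ha hx⟩ ∈ E := by
  constructor
  · rintro ⟨-, y, hy, e⟩
    have : y = ⟨x, hA.mem_cc ha hx⟩ := Subtype.ext e
    exact this ▸ hy
  · intro h
    exact ⟨hx, ⟨x, hA.mem_cc ha hx⟩, h, rfl⟩

/-- A component at `a` not centralised by `A`: the decomposition `A = C_A(E) × V`, with `V` the part of `A` over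
`E`, and its element `k`. -/
theorem Hyp.exists_block' (h : Hyp G) (hA : Closed S A) {a : G} (ha : a ∈ A) (ha1 : a ≠ 1) {E : Subgroup (qq a)}
    (hE : IsComponent E) (hne : blockD A a E ≠ A) :
    ∃ k, IsBlock A (blockD A a E) (partV A a E) k ∧ ∀ x ∈ A, k * x * k⁻¹ * x⁻¹ ∈ partV A a E := by
  haveI : Fact (Nat.Prime 2) := ⟨Nat.prime_two⟩
  obtain ⟨T, hT⟩ := hA.imA_closed ha
  obtain ⟨kb, hb⟩ := (h.ctx ha1).exists_compBlock hT hE (not_le_centralizer hA ha hne)
  obtain ⟨w, hw⟩ := bar_surjective 2 kb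
  obtain ⟨w', hw', hwe⟩ := exists_centralizing_lift
    (hA.isPGroup.of_equiv (subgroupOfEquivOfLe (hA.le_cc ha)).symm) w (by rw [hw]; exact hb.k_norm)
  rw [hw] at hwe
  set k : G := (w' : G) with hk
  set V := partV A a E with hV
  have hmemV : ∀ {x : G} (hx : x ∈ A),
      x ∈ V ↔ ff a ⟨x, hA.mem_cc ha hx⟩ ∈ (T : Subgroup (qq a)) ⊓ E :=
    fun hx => (mem_partV hA ha hx).trans ⟨fun h' => ⟨hT.le (mem_imA hx _), h'⟩, fun h' => h'.2⟩
  have hkA : ∀ x ∈ A, k * x * k⁻¹ ∈ A := fun x hx =>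
    (mem_normalizer_iff.mp hw' ⟨x, hA.mem_cc ha hx⟩).mp hx
  have hkbar : ∀ {x : G} (hx : x ∈ A), ff a ⟨k * x * k⁻¹, hA.mem_cc ha (hkA x hx)⟩ =
      kb * ff a ⟨x, hA.mem_cc ha hx⟩ * kb⁻¹ := by
    intro x hx
    rw [← hwe, ← map_inv, ← map_mul, ← map_mul]
    rfl
  have hinj : ∀ {x y : G} (hx : x ∈ A) (hy : y ∈ A),
      ff a ⟨x, hA.mem_cc ha hx⟩ = ff a ⟨y, hA.mem_cc ha hy⟩ → x = y := by
    intro x y hx hy hxy
    refine inv_mul_eq_one.mp (hA.ff_inj (mul_mem (inv_mem hx) hy) (hA.mem_cc ha (mul_mem (inv_mem hx) hy)) ?_)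
    rw [show (⟨x⁻¹ * y, hA.mem_cc ha (mul_mem (inv_mem hx) hy)⟩ : ↥(cc a)) =
      (⟨x, hA.mem_cc ha hx⟩ : ↥(cc a))⁻¹ * ⟨y, hA.mem_cc ha hy⟩ from rfl, map_mul, map_inv, hxy, inv_mul_cancel]
  have hVb : ∀ v ∈ (T : Subgroup (qq a)) ⊓ E,
      ∃ x, ∃ hx : x ∈ A, x ∈ V ∧ ff a ⟨x, hA.mem_cc ha hx⟩ = v := by
    intro v hv
    obtain ⟨y, hy, hye⟩ := hb.V_le hv
    exact ⟨y, hy, (hmemV hy).mpr (hye ▸ hv), hye⟩
  have hDb : imA A a ⊓ centralizer (E : Set (qq a)) = imA (blockD A a E) a := by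
    ext y
    constructor
    · rintro ⟨⟨x, hx, rfl⟩, hy⟩
      exact ⟨x, (mem_blockD x.2).mpr ⟨hx, hy⟩, rfl⟩
    · rintro ⟨x, hx, rfl⟩
      exact ⟨⟨x, blockD_le a E hx, rfl⟩, ((mem_blockD x.2).mp hx).2⟩
  refine ⟨k, ⟨blockD_le a E, inf_le_left, ?_, ?_, fun e => ha1 (mem_bot.mp (e ▸ self_mem_blockD ha E)),
    ?_, mem_normalizer_of_maps hkA, ?_, ?_, ?_⟩, ?_⟩
  · rw [eq_bot_iff]
    rintro x ⟨hxD, hxV⟩
    have hxA := blockD_le a E hxD
    have h1 : ff a ⟨x, hA.mem_cc ha hxA⟩ ∈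
        imA A a ⊓ centralizer (E : Set (qq a)) ⊓ ((T : Subgroup (qq a)) ⊓ E) :=
      ⟨⟨mem_imA hxA _, ((mem_blockD _).mp hxD).2⟩, (hmemV hxA).mp hxV⟩
    rw [hb.disjoint, mem_bot] at h1
    exact mem_bot.mpr (hA.ff_inj hxA _ h1)
  · refine le_antisymm (sup_le (blockD_le a E) inf_le_left) fun x hx => ?_
    obtain ⟨db, hdb, vb, hvb, he⟩ := hb.split (h.ctx ha1) hT (mem_imA hx (hA.mem_cc ha hx))
    rw [hDb] at hdb
    obtain ⟨d, hd, rfl⟩ := hdb
    obtain ⟨v, hvA, hv, rfl⟩ := hVb vb hvb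
    have hdA : (d : G) ∈ A := blockD_le a E hd
    have hxe : x = (d : G) * v := hinj hx (mul_mem hdA hvA) (by
      rw [← he, ← map_mul]
      rfl)
    rw [hxe]
    exact Subgroup.mul_mem_sup hd hv
  · refine hb.four_le.trans ?_
    refine Nat.card_le_card_of_injective (fun v : ↥((T : Subgroup (qq a)) ⊓ E) =>
      (⟨(hVb v v.2).choose, (hVb v v.2).choose_spec.choose_spec.1⟩ : V)) fun p q hpq => Subtype.ext ?_
    have h1 := (hVb p p.2).choose_spec.choose_spec.2
    have h2 := (hVb q q.2).choose_spec.choose_spec.2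
    rw [← h1, ← h2]
    congr 2
    exact congrArg Subtype.val hpq
  · intro d hd
    have hdA := blockD_le a E hd
    have h1 : ff a ⟨k * d * k⁻¹, hA.mem_cc ha (hkA d hdA)⟩ = ff a ⟨d, hA.mem_cc ha hdA⟩ := by
      rw [hkbar hdA, ((mem_blockD (hA.mem_cc ha hdA)).mp hd).2 kb hb.k_mem, mul_inv_cancel_right]
    exact mul_inv_eq_iff_eq_mul.mp (hinj (hkA d hdA) hdA h1)
  · intro v hv
    refine (hmemV (hkA v hv.1)).mpr ?_
    rw [hkbar hv.1]
    exact hb.inv _ ((hmemV hv.1).mp hv)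
  · intro v hv hv1 x hx hx1
    obtain ⟨i, hi⟩ := hb.trans _ ((hmemV hv.1).mp hv) (fun e => hv1 (hA.ff_inj hv.1 _ e)) _ ((hmemV hx.1).mp hx)
      fun e => hx1 (hA.ff_inj hx.1 _ e)
    have hkN : k ∈ normalizer (A : Set G) := mem_normalizer_of_maps hkA
    have hiA : k ^ i * v * (k ^ i)⁻¹ ∈ A := (mem_normalizer_iff.mp (pow_mem hkN i) v).mp hv.1
    refine ⟨i, hinj hiA hx.1 ?_⟩
    rw [← hi, ← hwe, ← map_pow, ← map_inv, ← map_mul, ← map_mul]
    rfl
  · intro x hx
    have hm : k * x * k⁻¹ * x⁻¹ ∈ A := mul_mem (hkA x hx) (inv_mem hx)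
    refine (hmemV hm).mpr ?_
    have := hb.comm_V _ (mem_imA hx (hA.mem_cc ha hx))
    rw [← hwe, ← map_inv, ← map_inv, ← map_mul, ← map_mul, ← map_mul] at this
    exact this

/-- The decomposition of a block. -/
theorem Hyp.exists_block (h : Hyp G) (hA : Closed S A) (hD : Blocked A D) :
    ∃ V k, IsBlock A D V k ∧ ∀ x ∈ A, k * x * k⁻¹ * x⁻¹ ∈ V := by
  have hne := hD.1
  obtain ⟨a, ha, ha1, E, hE, rfl⟩ := hD.2
  exact ⟨_, h.exists_block' hA ha ha1 hE hne⟩

/-- The fixed points of the element of a block are the `D`-part. -/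
theorem mem_D_of_fixed (hA : Closed S A) {V : Subgroup G} {k x : G} (hk : IsBlock A D V k) (hx : x ∈ A)
    (hf : k * x * k⁻¹ = x) : x ∈ D := by
  haveI : Fact (Nat.Prime 2) := ⟨Nat.prime_two⟩
  obtain ⟨d, hd, v, hv, rfl⟩ := CfsgLib.Signalizer.mem_sup_of_ea hA.elem hk.D_le hk.V_le
    (show x ∈ D ⊔ V from hk.sup.symm ▸ hx)
  have h1 : k * (d * v) * k⁻¹ = d * (k * v * k⁻¹) := by rw [← mul_assoc k, hk.cent d hd]; group
  rw [h1] at hf
  rw [hk.eq_one_of_fixed hv (mul_left_cancel hf), mul_one]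
  exact hd

/-- A component with a block is determined by it. -/
theorem Hyp.component_eq (h : Hyp G) (hA : Closed S A) {d : G} (hd : d ∈ A) (hd1 : d ≠ 1)
    {E E' : Subgroup (qq d)} (hE : IsComponent E) (hE' : IsComponent E') (hne : blockD A d E ≠ A)
    (he : blockD A d E = blockD A d E') : E = E' := by
  obtain ⟨T, hT⟩ := hA.imA_closed hd
  refine (h.ctx hd1).component_unique hT hE hE' (not_le_centralizer hA hd hne) ?_
  ext y
  constructor <;> rintro ⟨⟨x, hx, rfl⟩, hy⟩ <;> refine ⟨⟨x, hx, rfl⟩, ?_⟩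
  · exact ((mem_blockD x.2).mp (he ▸ (mem_blockD x.2).mpr ⟨hx, hy⟩)).2
  · exact ((mem_blockD x.2).mp (he.symm ▸ (mem_blockD x.2).mpr ⟨hx, hy⟩)).2

/-- `A` normalises the preimage of a component. -/
theorem Hyp.conj_mem_comp (h : Hyp G) (hA : Closed S A) {a : G} (ha : a ∈ A) (ha1 : a ≠ 1)
    {E : Subgroup (qq a)} (hE : IsComponent E) {y : G} (hy : y ∈ A) :
    ff a ⟨y, hA.mem_cc ha hy⟩ ∈ normalizer (E : Set (qq a)) := by
  obtain ⟨T, hT⟩ := hA.imA_closed ha
  exact (h.ctx ha1).sylow_normalizes T hE (hT.le (mem_imA hy _))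

set_option maxHeartbeats 1000000 in
/-- A perfect subgroup of `C(D)` over a component at `a` maps into the layer at each element of `D` (balance). -/
theorem Hyp.image_le_layer (h : Hyp G) (hA : Closed S A) {a : G} (ha : a ∈ A) {E : Subgroup (qq a)}
    (hE : IsComponent E) {d : G} (hd : d ∈ blockD A a E) (hd1 : d ≠ 1) {P : Subgroup G} (hP : ⁅P, P⁆ = P)
    (hPD : P ≤ centralizer (blockD A a E : Set G)) (hPE : (P.subgroupOf (cc a)).map (ff a) ≤ E) :
    (P.subgroupOf (cc d)).map (ff d) ≤ layer (qq d) := by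
  classical
  haveI : Fact (Nat.Prime 2) := ⟨Nat.prime_two⟩
  have hdA := blockD_le a E hd
  have hda : d ∈ cc a := hA.mem_cc ha hdA
  have had : a ∈ cc d := hA.mem_cc hdA ha
  have hPa : P ≤ cc a := fun x hx => AfterFT.CoreSep.mem_cc.mpr (hPD hx a (self_mem_blockD ha E)).symm
  have hPd : P ≤ cc d := fun x hx => AfterFT.CoreSep.mem_cc.mpr (hPD hx d hd).symm
  have hctx := h.ctx (a := d) hd1
  set X := (P.subgroupOf (cc d)).map (ff d) with hXdef
  have hXperf : ⁅X, X⁆ = X := by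
    rw [hXdef, ← map_commutator]
    refine congrArg (fun Q : Subgroup ↥(cc d) => Q.map (ff d)) (map_injective (cc d).subtype_injective ?_)
    rw [map_commutator, map_subgroupOf_eq_of_le hPd, hP]
  let f : ↥(cc a ⊓ cc d) →* qq a := res a d
  let g : ↥(cc a ⊓ cc d) →* qq d := (ff d).comp (inclusion inf_le_right)
  have hgker : Odd (Nat.card g.ker) := by
    refine Odd.of_dvd_nat (Nat.coprime_two_right.mp (card_pPrimeCore_coprime (G := ↥(cc d)) 2)) ?_
    rw [← card_map_of_injective (inclusion_injective (inf_le_right : cc a ⊓ cc d ≤ cc d))]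
    refine card_dvd_of_le ?_
    rintro _ ⟨x, hx, rfl⟩
    exact (QuotientGroup.eq_one_iff _).mp hx
  have hgr : g.range = centralizer ({ff d ⟨a, had⟩} : Set (qq d)) := by
    rw [← res_range had (hA.sq ha)]
    ext y
    constructor
    · rintro ⟨⟨x, hxa, hxd⟩, rfl⟩
      exact ⟨⟨x, hxd, hxa⟩, rfl⟩
    · rintro ⟨⟨x, hxd, hxa⟩, rfl⟩
      exact ⟨⟨x, hxa, hxd⟩, rfl⟩
  have hEf : E ≤ f.range := by
    rw [res_range hda (hA.sq hdA)]
    intro e he
    rw [mem_centralizer_singleton_iff]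
    exact ((mem_blockD hda).mp hd).2 e he
  let f' : ↥(cc a ⊓ cc d) →* ↥f.range := f.rangeRestrict
  have hf'ker : Odd (Nat.card f'.ker) := by
    rw [MonoidHom.ker_rangeRestrict]; exact res_ker_odd a d
  obtain ⟨K, hK, hKf⟩ :=
    exists_pcomp_preimage f.rangeRestrict_surjective hf'ker (isComponent_subgroupOf hE hEf)
  let g' : ↥(cc a ⊓ cc d) →* ↥g.range := g.rangeRestrict
  have hg'ker : Odd (Nat.card g'.ker) := by
    rw [MonoidHom.ker_rangeRestrict]; exact hgker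
  have hKg : K.map g ≤ layer (qq d) := by
    have hX' : IsPComponent 2 (K.map g') :=
      isPComponent_map_surjective g' g.rangeRestrict_surjective (CfsgLib.S3Simple.odd_kernel_le g' hg'ker) hK
    rw [← AfterFT.pLayer_two_eq_layer oddSolv hctx.core]
    refine le_trans ?_ (pLayer_balance_two_centralizer (zpowers (ff d ⟨a, had⟩)) (zpowers_two (by
      rw [← map_mul, show (⟨a, had⟩ : ↥(cc d)) * ⟨a, had⟩ = 1 from Subtype.ext (hA.sq ha), map_one])))
    have e : g.range = centralizer ((zpowers (ff d ⟨a, had⟩) : Subgroup (qq d)) : Set (qq d)) := by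
      rw [hgr, CfsgLib.CharPLocal.centralizer_zpowers]
    refine le_trans (le_of_eq ?_) (pcomp_map_le_pLayer e hX')
    rw [map_map, MonoidHom.subtype_comp_rangeRestrict]
  set N : Subgroup (qq d) := f'.ker.map g with hN
  haveI : Group.IsSolvable N := oddSolv _ (hf'ker.of_dvd_nat (card_map_dvd _ _))
  refine perfect_le_of_sup hXperf ?_ (fun _ _ => by rw [normalizer_eq_top]; exact mem_top _) (X := layer (qq d))
    (N := N)
  rintro _ ⟨y, hy, rfl⟩
  have hyC : (y : G) ∈ cc a ⊓ cc d := ⟨hPa hy, y.2⟩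
  have hfy : f' ⟨y, hyC⟩ ∈ K.map f' := by
    rw [hKf]
    exact hPE ⟨⟨(y : G), hPa hy⟩, hy, rfl⟩
  obtain ⟨k, hk, hke⟩ := hfy
  have hker : k⁻¹ * ⟨y, hyC⟩ ∈ f'.ker := by
    rw [MonoidHom.mem_ker, map_mul, map_inv, hke, inv_mul_cancel]
  have := Subgroup.mul_mem_sup (hKg (mem_map_of_mem g hk)) (mem_map_of_mem g hker)
  rwa [← map_mul, mul_inv_cancel_left] at this


set_option maxHeartbeats 1000000 in
/-- A block is seen from each element of `D`, or a smaller one with a component of Janko–Ree type is. -/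
theorem Hyp.lift (h : Hyp G) (hA : Closed S A) {a : G} (ha : a ∈ A) (ha1 : a ≠ 1) {E : Subgroup (qq a)}
    (hE : IsComponent E) (hne : blockD A a E ≠ A) {d : G} (hd : d ∈ blockD A a E) (hd1 : d ≠ 1) :
    (∃ E' : Subgroup (qq d), IsComponent E' ∧ blockD A d E' = blockD A a E ∧
      ∀ P : Subgroup G, ⁅P, P⁆ = P → P ≤ centralizer (blockD A a E : Set G) →
        (P.subgroupOf (cc a)).map (ff a) ≤ E → (P.subgroupOf (cc d)).map (ff d) ≤ E') ∨
    (∃ F : Subgroup (qq d), IsComponent F ∧ blockD A d F < blockD A a E ∧ IsJR ↥F) := by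
  classical
  haveI : Fact (Nat.Prime 2) := ⟨Nat.prime_two⟩
  set D := blockD A a E with hDdef
  have hdA := blockD_le a E hd
  have hda : d ∈ cc a := hA.mem_cc ha hdA
  have had : a ∈ cc d := hA.mem_cc hdA ha
  have hCa : centralizer (D : Set G) ≤ cc a := fun x hx =>
    AfterFT.CoreSep.mem_cc.mpr (hx a (self_mem_blockD ha E)).symm
  have hCd : centralizer (D : Set G) ≤ cc d := fun x hx => AfterFT.CoreSep.mem_cc.mpr (hx d hd).symm
  set R : Subgroup G := centralizer (D : Set G) ⊓ (E.comap (ff a)).map (cc a).subtype with hRdef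
  set P := pres R with hPdef
  have hPa : P ≤ cc a := (pres_le R).trans (inf_le_left.trans hCa)
  have hPd : P ≤ cc d := (pres_le R).trans (inf_le_left.trans hCd)
  have hPD : ∀ x ∈ P, x ∈ centralizer (D : Set G) := fun x hx => (pres_le R hx).1
  have hsub : ∀ Q : Subgroup G, ⁅Q, Q⁆ = Q → Q ≤ centralizer (D : Set G) →
      (Q.subgroupOf (cc a)).map (ff a) ≤ E → Q ≤ P := fun Q hQ hQD hQE =>
    le_pres (le_inf hQD fun x hx =>
      ⟨⟨x, hCa (hQD hx)⟩, hQE ⟨⟨x, hCa (hQD hx)⟩, hx, rfl⟩, rfl⟩) hQ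
  -- `P` maps onto `E`
  have hPE : (P.subgroupOf (cc a)).map (ff a) = E := by
    refine le_antisymm ?_ ?_
    · rintro _ ⟨x, hx, rfl⟩
      obtain ⟨y, hy, e⟩ := (pres_le R hx).2
      have : y = x := Subtype.ext e
      exact this ▸ hy
    · obtain ⟨Q, hQ, hQD, -, hQE⟩ := exists_cover hA ha hE (blockD_le a E)
        fun x hx hxc => ((mem_blockD hxc).mp hx).2
      rw [← hQE]
      exact map_mono (comap_mono (hsub Q hQ hQD hQE.le))
  -- its image at `d` lies in the layer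
  set X := (P.subgroupOf (cc d)).map (ff d) with hXdef
  have hXperf : ⁅X, X⁆ = X := by
    rw [hXdef, ← map_commutator]
    refine congrArg (fun Q : Subgroup ↥(cc d) => Q.map (ff d)) (map_injective (cc d).subtype_injective ?_)
    rw [map_commutator, map_subgroupOf_eq_of_le hPd, hPdef, pres_perfect]
  have hctx := h.ctx (a := d) hd1
  have hXlayer : X ≤ layer (qq d) :=
    h.image_le_layer hA ha hE hd hd1 (pres_perfect R) hPD hPE.le
  obtain ⟨T, hT⟩ := hA.imA_closed hdA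
  have hXnorm : ∀ F : Subgroup (qq d), IsComponent F → X ≤ normalizer (F : Set (qq d)) := fun F hF =>
    hXlayer.trans (Comp.layer_le_normalizer_component hF)
  -- on every component that `X` moves, the centraliser in `A` is at most `D`
  have hDF : ∀ F : Subgroup (qq d), IsComponent F → ¬ X ≤ centralizer (F : Set (qq d)) →
      blockD A d F ≤ D := by
    intro F hF hXF y hy
    have hyA := blockD_le d F hy
    have hyF := ((mem_blockD (hA.mem_cc hdA hyA)).mp hy).2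
    have hyR : ∀ z ∈ R, y * z * y⁻¹ ∈ R := by
      intro z hz
      refine ⟨fun t ht => ?_, ?_⟩
      · have e : y * t = t * y := hA.comm hyA (blockD_le a E ht)
        have e' : y⁻¹ * t = t * y⁻¹ := hA.comm (inv_mem hyA) (blockD_le a E ht)
        calc t * (y * z * y⁻¹) = t * y * z * y⁻¹ := by group
          _ = y * (t * z) * y⁻¹ := by rw [← e]; group
          _ = y * (z * t) * y⁻¹ := by rw [hz.1 t ht]
          _ = y * z * (t * y⁻¹) := by group
          _ = y * z * (y⁻¹ * t) := by rw [e']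
          _ = y * z * y⁻¹ * t := by group
      · obtain ⟨z', hz', rfl⟩ := hz.2
        refine ⟨⟨y, hA.mem_cc ha hyA⟩ * z' * ⟨y, hA.mem_cc ha hyA⟩⁻¹, ?_, rfl⟩
        rw [SetLike.mem_coe, mem_comap, map_mul, map_mul, map_inv]
        exact (mem_normalizer_iff.mp (h.conj_mem_comp hA ha ha1 hE hyA) _).mp hz'
    have hyP : ∀ x ∈ P, y * x * y⁻¹ ∈ P := fun x hx => conj_mem_pres hyR hx
    set P1 : Subgroup G := P ⊓ ((centralizer (F : Set (qq d))).comap (ff d)).map (cc d).subtype with hP1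
    have hP1mem : ∀ x (hx : x ∈ P), ff d ⟨x, hPd hx⟩ ∈ centralizer (F : Set (qq d)) → x ∈ P1 :=
      fun x hx hc => ⟨hx, ⟨x, hPd hx⟩, hc, rfl⟩
    have hcomm : ∀ x ∈ P, ⁅x, y⁆ ∈ P1 := by
      intro x hx
      have hcP : ⁅x, y⁆ ∈ P := by
        rw [commutatorElement_def, show x * y * x⁻¹ * y⁻¹ = x * (y * x⁻¹ * y⁻¹) by group]
        exact mul_mem hx (hyP _ (inv_mem hx))
      refine hP1mem _ hcP ?_
      rw [show (⟨⁅x, y⁆, hPd hcP⟩ : ↥(cc d)) = ⁅(⟨x, hPd hx⟩ : ↥(cc d)), (⟨y, hA.mem_cc hdA hyA⟩ : ↥(cc d))⁆ from Subtype.ext rfl,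
        map_commutatorElement]
      exact comm_mem_centralizer (hXnorm F hF ⟨⟨x, hPd hx⟩, hx, rfl⟩) hyF
    have hP1n : ∀ g ∈ P, ∀ x ∈ P1, g * x * g⁻¹ ∈ P1 := by
      rintro g hg x ⟨hx, w, hw, rfl⟩
      have hm : g * (cc d).subtype w * g⁻¹ ∈ P := P.mul_mem (P.mul_mem hg hx) (P.inv_mem hg)
      refine hP1mem _ hm ?_
      rw [show (⟨g * (cc d).subtype w * g⁻¹, hPd hm⟩ : ↥(cc d)) = (⟨g, hPd hg⟩ : ↥(cc d)) * w * (⟨g, hPd hg⟩ : ↥(cc d))⁻¹ from Subtype.ext rfl,
        map_mul, map_mul, map_inv]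
      exact conj_mem_centralizer (hXnorm F hF ⟨⟨g, hPd hg⟩, hg, rfl⟩) hw
    haveI := (h.ctx ha1).simple hE
    set I := (P1.subgroupOf (cc a)).map (ff a) with hIdef
    have hIE : I ≤ E := hPE ▸ map_mono (comap_mono inf_le_left)
    haveI : (I.subgroupOf E).Normal := (normal_subgroupOf_iff hIE).mpr (by
      intro i e hi he
      obtain ⟨x, hx, rfl⟩ := hi
      obtain ⟨g, hg, rfl⟩ := hPE.ge he
      exact ⟨g * x * g⁻¹, hP1n g hg x hx, by rw [map_mul, map_mul, map_inv]⟩)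
    refine (mem_blockD (hA.mem_cc ha hyA)).mpr ⟨hyA, fun e he => ?_⟩
    rcases IsSimpleGroup.eq_bot_or_eq_top_of_normal (I.subgroupOf E) inferInstance with hb | ht
    · obtain ⟨x, hx, rfl⟩ := hPE.ge he
      have hcc : ⁅(x : G), y⁆ ∈ cc a := hPa (hcomm x hx).1
      have h1 : ff a ⟨⁅(x : G), y⁆, hcc⟩ ∈ I := ⟨⟨_, hcc⟩, hcomm x hx, rfl⟩
      have h2 : (⟨_, hIE h1⟩ : ↥E) ∈ I.subgroupOf E := h1
      rw [hb, mem_bot] at h2
      have h3 : ff a ⟨⁅(x : G), y⁆, hcc⟩ = 1 := congrArg Subtype.val h2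
      rw [show (⟨⁅(x : G), y⁆, hcc⟩ : ↥(cc a)) = ⁅x, (⟨y, hA.mem_cc ha hyA⟩ : ↥(cc a))⁆ from Subtype.ext rfl,
        map_commutatorElement, commutatorElement_eq_one_iff_mul_comm] at h3
      exact h3
    · exfalso
      refine hXF ?_
      set N := centralizerPPrimeCore 2 a ⊓ P with hN
      haveI : Group.IsSolvable N := oddSolv _ (odd_of_le inf_le_left (odd_card_core a))
      have hPle : P ≤ P1 := by
        refine perfect_le_of_sup (hPdef ▸ pres_perfect R) (fun x hx => ?_) ?_ (N := N)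
        · have hxE : ff a ⟨x, hPa hx⟩ ∈ E := hPE.le ⟨⟨x, hPa hx⟩, hx, rfl⟩
          have h1 : (⟨_, hxE⟩ : ↥E) ∈ I.subgroupOf E := ht ▸ mem_top _
          obtain ⟨z, hz, hze⟩ := h1
          have hk : z⁻¹ * ⟨x, hPa hx⟩ ∈ pPrimeCore 2 ↥(cc a) := QuotientGroup.eq.mp hze
          have hzP : (z : G) ∈ P := (show (z : G) ∈ P1 from hz).1
          have hkN : (z : G)⁻¹ * x ∈ N :=
            Subgroup.mem_inf.mpr ⟨⟨_, hk, rfl⟩, P.mul_mem (P.inv_mem hzP) hx⟩
          have := Subgroup.mul_mem_sup (show (z : G) ∈ P1 from hz) hkN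
          rwa [mul_inv_cancel_left] at this
        · exact fun g hg => mem_normalizer_of_maps (hP1n g hg.2)
      rintro _ ⟨x, hx, rfl⟩
      obtain ⟨w, hw, e⟩ := (hPle hx).2
      have : w = x := Subtype.ext e
      exact this ▸ hw
  -- a component moved by `X` on which `D` is not trivial is of Janko–Ree type
  by_cases hjr : ∀ F : Subgroup (qq d), IsComponent F → ¬ X ≤ centralizer (F : Set (qq d)) → D ≤ blockD A d F
  swap
  · push Not at hjr
    obtain ⟨F, hF, hXF, hnle⟩ := hjr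
    refine Or.inr ⟨F, hF, lt_of_le_not_ge (hDF F hF hXF) hnle, ?_⟩
    obtain ⟨y, hy, hyF⟩ := SetLike.not_le_iff_exists.mp hnle
    have hyA := blockD_le a E hy
    have hyc : y ∈ cc d := hA.mem_cc hdA hyA
    haveI := hctx.simple hF
    obtain ⟨PF, hPF, hg⟩ := hctx.comp_sylow T hF
    obtain ⟨q, hq, hqc, -⟩ := hctx.exists_inner T hF (hT.le (mem_imA hyA hyc))
    let ψ : X →* MulAut ↥F := F.normalizerMonoidHom.comp (inclusion (hXnorm F hF))
    let W : Subgroup ↥F :=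
      { carrier := {w | w ∈ (PF : Subgroup ↥F) ∧ ∀ x, ψ x w = w}
        one_mem' := ⟨one_mem _, fun x => map_one _⟩
        mul_mem' := fun {u v} hu hv => ⟨mul_mem hu.1 hv.1, fun x => by rw [map_mul, hu.2, hv.2]⟩
        inv_mem' := fun {u} hu => ⟨inv_mem hu.1, fun x => by rw [map_inv, hu.2]⟩ }
    obtain ⟨q', hq', hqq⟩ : q ∈ (PF : Subgroup ↥F).map F.subtype := hPF.symm ▸ hq
    have hW : W ≠ ⊥ := by
      intro e
      have hmem : q' ∈ W := ⟨hq', fun x => Subtype.ext (show (x : qq d) * (q' : qq d) * (x : qq d)⁻¹ = q' from ?_)⟩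
      · rw [e, mem_bot] at hmem
        have hq1 : q = 1 := by rw [← hqq, hmem]; rfl
        rw [hq1, inv_one, one_mul] at hqc
        exact hyF ((mem_blockD hyc).mpr ⟨hyA, hqc⟩)
      · obtain ⟨x, hx⟩ := x
        obtain ⟨x₀, hx₀, rfl⟩ := id hx
        set xb := ff d x₀ with hxb
        set yb := ff d ⟨y, hyc⟩ with hyb
        have hxy : xb * yb = yb * xb := by
          rw [hxb, hyb, ← map_mul, ← map_mul]
          exact congrArg _ (Subtype.ext (hPD _ hx₀ y hy).symm)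
        have hqF : (q' : qq d) ∈ F := q'.2
        have hxN := hXnorm F hF hx
        have h1 : xb * q' * xb⁻¹ ∈ F := (mem_normalizer_iff.mp hxN _).mp hqF
        have hqc' : (q' : qq d)⁻¹ * yb ∈ centralizer (F : Set (qq d)) := by
          rw [show (q' : qq d) = q from hqq]
          exact hqc
        have hc2 : (xb * q' * xb⁻¹)⁻¹ * yb ∈ centralizer (F : Set (qq d)) := by
          rw [show (xb * (q' : qq d) * xb⁻¹)⁻¹ * yb = xb * ((q' : qq d)⁻¹ * yb) * xb⁻¹ * (xb * yb⁻¹ * xb⁻¹ * yb) by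
            group, show xb * yb⁻¹ * xb⁻¹ * yb = 1 by
              rw [(Commute.inv_right (show Commute xb yb from hxy)).eq]; group, mul_one]
          exact conj_mem_centralizer hxN hqc'
        have h3 : ((q' : qq d)⁻¹ * yb) * ((xb * q' * xb⁻¹)⁻¹ * yb)⁻¹ ∈ centralizer (F : Set (qq d)) :=
          mul_mem hqc' (inv_mem hc2)
        rw [show (q' : qq d)⁻¹ * yb * ((xb * q' * xb⁻¹)⁻¹ * yb)⁻¹ = (q' : qq d)⁻¹ * (xb * q' * xb⁻¹) by group] at h3
        have h4 := hctx.eq_one_of_centralizes_self hF (mul_mem (inv_mem hqF) h1) h3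
        exact (inv_mul_eq_one.mp h4).symm
    rcases (hctx.comp_listed hF).perfect_fix (W := W) (T := PF) (fun w hw => hw.1) hW (perfect_top hXperf) ψ
        (fun x w hw => hw.2 x) with hψ | ⟨-, hJ⟩
    · refine absurd (fun x hx => ?_) hXF
      intro e he
      have := congrArg Subtype.val (DFunLike.congr_fun (DFunLike.congr_fun hψ ⟨x, hx⟩) (⟨e, he⟩ : ↥F))
      exact (mul_inv_eq_iff_eq_mul.mp this).symm
    · exact hJ
  -- otherwise there is exactly one component moved by `X`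
  obtain ⟨F, hF, hXF⟩ : ∃ F : Subgroup (qq d), IsComponent F ∧ ¬ X ≤ centralizer (F : Set (qq d)) := by
    by_contra! hall
    have hXc : X ≤ centralizer (layer (qq d) : Set (qq d)) := by
      rw [le_centralizer_iff]
      exact sSup_le fun F hF => le_centralizer_iff.mp (hall F hF)
    have hXb : X = ⊥ := by
      rw [← hXperf, commutator_eq_bot_iff_le_centralizer]
      exact fun x hx z hz => hXc hx z (hXlayer hz)
    have hPO : ∀ x ∈ P, x ∈ centralizerPPrimeCore 2 d := fun x hx => mem_core_of_bar (w := ⟨x, hPd hx⟩)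
      (mem_bot.mp (hXb ▸ ⟨⟨x, hPd hx⟩, hx, rfl⟩))
    have hodd : Odd (Nat.card P) := odd_of_le hPO (odd_card_core d)
    refine component_not_le_of_isSolvable hE (oddSolv _ (hodd.of_dvd_nat ?_)) (le_of_eq hPE.symm)
    exact (card_map_dvd _ _).trans (dvd_of_eq (Nat.card_congr (subgroupOfEquivOfLe hPa).toEquiv))
  have hFD : ∀ F' : Subgroup (qq d), IsComponent F' → ¬ X ≤ centralizer (F' : Set (qq d)) →
      blockD A d F' = D := fun F' hF' hX' => le_antisymm (hDF F' hF' hX') (hjr F' hF' hX')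
  have hother : ∀ F' : Subgroup (qq d), IsComponent F' → F' ≠ F → X ≤ centralizer (F' : Set (qq d)) :=
    fun F' hF' hne' => by_contra fun hX' => hne' (h.component_eq hA hdA hd1 hF' hF (by rw [hFD F' hF' hX']; exact hne)
      ((hFD F' hF' hX').trans (hFD F hF hXF).symm))
  have hXF' : X ≤ F := by
    set L1 : Subgroup (qq d) := sSup {F' | IsComponent F' ∧ F' ≠ F} with hL1
    have hL1c : L1 ≤ centralizer (F : Set (qq d)) := sSup_le fun F' hF' =>
      commutator_eq_bot_iff_le_centralizer.mp ((components_eq_or_commute hF'.1 hF).resolve_left hF'.2)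
    have hXc : X ≤ centralizer (L1 : Set (qq d)) := by
      rw [le_centralizer_iff]
      exact sSup_le fun F' hF' => le_centralizer_iff.mp (hother F' hF'.1 hF'.2)
    have hN : L1 ≤ normalizer (F : Set (qq d)) := hL1c.trans (centralizer_le_normalizer' F)
    haveI : Group.IsSolvable ↥(L1 ⊓ centralizer (L1 : Set (qq d))) :=
      Group.isSolvable_of_comm fun p q => Subtype.ext (q.2.2 p p.2.1)
    refine perfect_le_of_sup hXperf (fun x hx => ?_) (inf_le_left.trans hN) (N := L1 ⊓ centralizer (L1 : Set (qq d)))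
    have hle : layer (qq d) ≤ F ⊔ L1 := sSup_le fun F' hF' => by
      by_cases e : F' = F
      · rw [e]; exact le_sup_left
      · exact le_sup_of_le_right (le_sSup (show F' ∈ {F' | IsComponent F' ∧ F' ≠ F} from ⟨hF', e⟩))
    have hx' : x ∈ F ⊔ L1 := hle (hXlayer hx)
    rw [← SetLike.mem_coe, coe_mul_of_right_le_normalizer_left _ _ hN] at hx'
    obtain ⟨f, hf, l, hl, rfl⟩ := hx'
    refine Subgroup.mul_mem_sup hf ⟨hl, fun m hm => ?_⟩
    have e1 : m * (f * l) = f * l * m := hXc hx m hm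
    have e2 : f * m = m * f := hL1c hm f hf
    refine mul_left_cancel (a := f) ?_
    calc f * (m * l) = f * m * l := (mul_assoc f m l).symm
      _ = m * (f * l) := by rw [e2, mul_assoc]
      _ = f * (l * m) := by rw [e1, mul_assoc]
  refine Or.inl ⟨F, hF, hFD F hF hXF, fun Q hQ hQD hQE => ?_⟩
  exact (map_mono (comap_mono (hsub Q hQ hQD hQE))).trans hXF'

/-- A block minimal for inclusion. -/
def MinBlk (A D : Subgroup G) : Prop := Blocked A D ∧ ∀ D', Blocked A D' → D' ≤ D → D' = D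

theorem exists_min_le (hD : Blocked A D) : ∃ D' ≤ D, MinBlk A D' := by
  obtain ⟨D', hD', hmin⟩ := (Set.toFinite {D' | Blocked A D' ∧ D' ≤ D}).exists_minimal ⟨D, hD, le_rfl⟩
  exact ⟨D', hD'.2, hD'.1, fun D'' hb hle =>
    le_antisymm hle (hmin (show Blocked A D'' ∧ D'' ≤ D from ⟨hb, hle.trans hD'.2⟩) hle)⟩

theorem MinBlk.conj (hA : Closed S A) (hD : MinBlk A D) {g : G} (hg : g ∈ normalizer (A : Set G)) :
    MinBlk A (D.map (MulAut.conj g).toMonoidHom) := by
  refine ⟨hD.1.conj hA hg, fun D' hD' hle => ?_⟩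
  have h1 := hD.2 _ (hD'.conj hA (inv_mem hg)) (by
    rintro _ ⟨x, hx, rfl⟩
    obtain ⟨y, hy, rfl⟩ := hle hx
    simpa [mul_assoc] using hy)
  rw [← h1]
  ext x
  simp [mul_assoc]

/-- A minimal block is seen from each of its elements, with the perfect subgroups over its component. -/
theorem MinBlk.lift (h : Hyp G) (hA : Closed S A) (hD : MinBlk A D) {a : G} (ha : a ∈ A) (ha1 : a ≠ 1)
    {E : Subgroup (qq a)} (hE : IsComponent E) (hb : blockD A a E = D) {d : G} (hd : d ∈ D) (hd1 : d ≠ 1) :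
    ∃ E' : Subgroup (qq d), IsComponent E' ∧ blockD A d E' = D ∧
      ∀ P : Subgroup G, ⁅P, P⁆ = P → P ≤ centralizer (D : Set G) →
        (P.subgroupOf (cc a)).map (ff a) ≤ E → (P.subgroupOf (cc d)).map (ff d) ≤ E' := by
  subst hb
  rcases h.lift hA ha ha1 hE hD.1.1 hd hd1 with hl | ⟨F, hF, hlt, -⟩
  · exact hl
  · refine absurd (hD.2 _ ⟨fun e => ?_, d, blockD_le a E hd, hd1, F, hF, rfl⟩ hlt.le) hlt.ne
    exact lt_irrefl _ (hlt.trans_le ((blockD_le a E).trans e.ge))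

/-- A minimal block has a component at each of its elements. -/
theorem MinBlk.exists_at (h : Hyp G) (hA : Closed S A) (hD : MinBlk A D) {d : G} (hd : d ∈ D) (hd1 : d ≠ 1) :
    ∃ E : Subgroup (qq d), IsComponent E ∧ blockD A d E = D := by
  obtain ⟨a, ha, ha1, E, hE, hb⟩ := hD.1.2
  obtain ⟨E', hE', hb', -⟩ := hD.lift h hA ha ha1 hE hb hd hd1
  exact ⟨E', hE', hb'⟩

/-- An element normalising `A` and centralising the `D`-part of one component at `d` moves the elements of `A` by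
elements centralising every other one. -/
theorem Hyp.move_mem (h : Hyp G) (hA : Closed S A) {d : G} (hd : d ∈ A) (hd1 : d ≠ 1) {E E' : Subgroup (qq d)}
    (hE : IsComponent E) (hE' : IsComponent E') (hne : blockD A d E' ≠ A) (hEE : E ≠ E') {x : G}
    (hx : x ∈ normalizer (A : Set G)) (hxD : ∀ t ∈ blockD A d E', x * t = t * x) {b : G} (hb : b ∈ A) :
    x * b * x⁻¹ * b⁻¹ ∈ blockD A d E := by
  obtain ⟨T, hT⟩ := hA.imA_closed hd
  have hxc : x ∈ cc d := AfterFT.CoreSep.mem_cc.mpr (hxD d (self_mem_blockD hd E'))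
  have hxN : ff d ⟨x, hxc⟩ ∈ normalizer (imA A d : Set (qq d)) := by
    refine mem_normalizer_of_maps ?_
    rintro _ ⟨y, hy, rfl⟩
    exact ⟨⟨x, hxc⟩ * y * ⟨x, hxc⟩⁻¹, (mem_normalizer_iff.mp hx (y : G)).mp hy,
      by rw [map_mul, map_mul, map_inv]⟩
  obtain ⟨-, hmv⟩ := (h.ctx hd1).fix_moves hT hE' (not_le_centralizer hA hd hne) hxN (by
    rintro _ ⟨⟨y, hy, rfl⟩, hyc⟩
    rw [← map_mul, ← map_mul]
    exact congrArg _ (Subtype.ext (hxD y ((mem_blockD y.2).mpr ⟨hy, hyc⟩))))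
  have hm : x * b * x⁻¹ * b⁻¹ ∈ A := mul_mem ((mem_normalizer_iff.mp hx b).mp hb) (inv_mem hb)
  refine (mem_blockD (hA.mem_cc hd hm)).mpr ⟨hm, fun e he => ?_⟩
  have h1 := (hmv _ (mem_imA hb (hA.mem_cc hd hb))).2
  rw [← map_inv, ← map_inv, ← map_mul, ← map_mul, ← map_mul] at h1
  exact comm_of_commutator_eq_bot ((components_eq_or_commute hE hE').resolve_left hEE) he h1

/-- Two components at the same element: the `V`-part of one lies in the `D`-part of the other. -/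
theorem Hyp.le_of_common (h : Hyp G) (hA : Closed S A) {d : G} (hd : d ∈ A) (hd1 : d ≠ 1)
    {E E' : Subgroup (qq d)} (hE : IsComponent E) (hE' : IsComponent E') (hEE : E ≠ E')
    (hne : blockD A d E' ≠ A) {W : Subgroup G} {k : G} (hk : IsBlock A (blockD A d E') W k) :
    W ≤ blockD A d E := by
  intro v hv
  obtain ⟨y, hy, rfl⟩ := hk.exists_moved hA hv
  exact h.move_mem hA hd hd1 hE hE' hne hEE hk.norm hk.cent (hk.V_le hy)

/-- Two minimal blocks that meet: the `V`-part of one lies in the other. -/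
theorem Hyp.le_of_meet (h : Hyp G) (hA : Closed S A) (hD : MinBlk A D) (hD' : MinBlk A D') (hne : D ≠ D')
    (hmeet : D ⊓ D' ≠ ⊥) {W : Subgroup G} {k : G} (hk : IsBlock A D' W k) : W ≤ D := by
  obtain ⟨d, hd, hd1⟩ := (D ⊓ D').bot_or_exists_ne_one.resolve_left hmeet
  obtain ⟨E, hE, hb⟩ := hD.exists_at h hA hd.1 hd1
  obtain ⟨E', hE', hb'⟩ := hD'.exists_at h hA hd.2 hd1
  subst hb' hb
  exact h.le_of_common hA (blockD_le d E hd.1) hd1 hE hE' (fun e => hne (by rw [e])) hD'.1.1 hk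

/-- `C(a)` lies in every subgroup containing `O(C(a))`, the part of `N(A)` centralising `a` and lifts of the
components. -/
theorem Hyp.cc_le (h : Hyp G) (hA : Closed S A) {a : G} (ha : a ∈ A) (ha1 : a ≠ 1) {M : Subgroup G}
    (hO : centralizerPPrimeCore 2 a ≤ M) (hN : normalizer (A : Set G) ⊓ cc a ≤ M)
    (hE : ∀ E : Subgroup (qq a), IsComponent E → E ≤ (M.subgroupOf (cc a)).map (ff a)) : cc a ≤ M := by
  haveI : Fact (Nat.Prime 2) := ⟨Nat.prime_two⟩
  obtain ⟨T, hT⟩ := hA.imA_closed ha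
  have htop : (M.subgroupOf (cc a)).map (ff a) = ⊤ := by
    rw [eq_top_iff, ← (h.ctx ha1).layer_sup_normalizer hT]
    refine sup_le (sSup_le fun E hE' => hE E hE') fun y hy => ?_
    obtain ⟨w, rfl⟩ := bar_surjective 2 y
    obtain ⟨w', hw', hwe⟩ := exists_centralizing_lift
      (hA.isPGroup.of_equiv (subgroupOfEquivOfLe (hA.le_cc ha)).symm) w hy
    refine ⟨w', hN ⟨mem_normalizer_of_maps fun x hx => ?_, w'.2⟩, hwe⟩
    exact (mem_normalizer_iff.mp hw' ⟨x, hA.mem_cc ha hx⟩).mp hx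
  intro x hx
  obtain ⟨y, hy, hye⟩ : ff a ⟨x, hx⟩ ∈ (M.subgroupOf (cc a)).map (ff a) := htop ▸ mem_top _
  have h1 : y⁻¹ * ⟨x, hx⟩ ∈ pPrimeCore 2 ↥(cc a) := QuotientGroup.eq.mp hye
  have h2 : ((y⁻¹ * ⟨x, hx⟩ : ↥(cc a)) : G) ∈ M := hO ⟨_, h1, rfl⟩
  have := mul_mem (show (y : G) ∈ M from hy) h2
  simpa using this

/-- When `A` centralises every component of `C(a)` modulo core, `C(a) = O(C(a)) (N(A) ∩ C(a))`. -/
theorem Hyp.cc_le_of_central (h : Hyp G) (hA : Closed S A) {a : G} (ha : a ∈ A) (ha1 : a ≠ 1)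
    (hc : ∀ E : Subgroup (qq a), IsComponent E → imA A a ≤ centralizer (E : Set (qq a)))
    {x : G} (hx : x ∈ cc a) :
    ∃ o ∈ centralizerPPrimeCore 2 a, ∃ n ∈ normalizer (A : Set G) ⊓ cc a, o * n = x := by
  haveI : Fact (Nat.Prime 2) := ⟨Nat.prime_two⟩
  obtain ⟨T, hT⟩ := hA.imA_closed ha
  have hAQ : imA A a ≤ pCore 2 (qq a) := fun y hy =>
    (h.ctx ha1).mem_pCore_of_centralizes (hT.le hy) fun E hE => hc E hE hy
  have hnorm : ff a ⟨x, hx⟩ ∈ normalizer (imA A a : Set (qq a)) := mem_normalizer_of_maps fun y hy =>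
    hT.closed.2 y hy _ ((CfsgLib.AfterFT.CoreSep.pCore_two_le_sylow T)
      ((Subgroup.sSup_normal _ (fun _ h => h.1) : (pCore 2 (qq a)).Normal).conj_mem y (hAQ hy) _))
  obtain ⟨w', hw', hwe⟩ := exists_centralizing_lift
    (hA.isPGroup.of_equiv (subgroupOfEquivOfLe (hA.le_cc ha)).symm) ⟨x, hx⟩ hnorm
  have h1 : (⟨x, hx⟩ : ↥(cc a)) * w'⁻¹ ∈ pPrimeCore 2 ↥(cc a) := by
    rw [← QuotientGroup.eq_one_iff, ← QuotientGroup.mk'_apply, map_mul, map_inv]
    exact mul_inv_eq_one.mpr hwe.symm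
  refine ⟨_, ⟨_, h1, rfl⟩, (w' : G), ⟨mem_normalizer_of_maps fun y hy =>
    (mem_normalizer_iff.mp hw' ⟨y, hA.mem_cc ha hy⟩).mp hy, w'.2⟩, ?_⟩
  show x * (w' : G)⁻¹ * w' = x
  group

end CfsgLib.WalterAb
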