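import Cfsg.Agent.Lib.Walter.Ab.Many
import Cfsg.Agent.Lib.S3Simple.LinearCases
import Cfsg.Agent.Lib.S3Simple.NoBlock

/-!
An irreducible strongly closed subgroup of order at least eight has order eight and seven blocks.

Blueprint: `blueprint/Walter.md`, "S0506 audit" (Dispatch).
-/

set_option autoImplicit false
set_option linter.unusedSectionVars false
set_option linter.style.haveILetI false

namespace CfsgLib.WalterAb

open Cfsg Subgroup CfsgLib.Comp CfsgLib.AfterFT.CoreSep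
open CfsgLib.S3Simple (Closed Blocked IsBlock Irred Family blockD mem_blockD blockD_le imA mem_imA oddSolv
  card_mul_le_of_disjoint LinearBlock linearBlock_eight_aut)

universe u

variable {G : Type u} [Group G] [Finite G] {S : Sylow 2 G} {A : Subgroup G}

open scoped Pointwise in
/-- Two blocks of the same size meeting trivially: only `|A| = 8`, every line a block. -/
theorem family_cases {q : ℕ} {𝔇 : Set (Subgroup G)} {V : Subgroup G → Subgroup G} (hel : IsElementaryAbelian 2 A)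
    (hirr : Irred A) (hodd : Odd ((centralizer (A : Set G)).relIndex (normalizer (A : Set G))))
    (hF : Family A q 𝔇 V) :
    (∀ D ∈ 𝔇, q < Nat.card D) ∨
      (Nat.card A = 8 ∧ ∀ a ∈ A, a ≠ 1 → Subgroup.zpowers a ∈ 𝔇) := by
  classical
  refine or_iff_not_imp_left.mpr fun hsmall => ?_
  push Not at hsmall
  obtain ⟨D, hD, hDq⟩ := hsmall
  obtain ⟨k, hk, hq⟩ := hF.block D hD
  let N := Subgroup.normalizer (A : Set G)
  letI : CommGroup A := { (inferInstance : Group A) with mul_comm := hel.1.is_comm.comm }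
  let ρ : N →* MulAut A := A.normalizerMonoidHom
  let X : Subgroup (MulAut A) := ρ.range
  have hρ : ∀ (n : N) (a : A), ((ρ.rangeRestrict n • a : A) : G) = (n : G) * a * (n : G)⁻¹ := fun _ _ => rfl
  have himage : ∀ (n : N) (W : Subgroup A),
      (ρ.rangeRestrict n • W).map A.subtype = (W.map A.subtype).map (MulAut.conj (n : G)).toMonoidHom := by
    intro n W
    ext x
    simp only [Subgroup.mem_map, Subgroup.mem_smul_pointwise_iff_exists]
    constructor
    · rintro ⟨_, ⟨w, hw, rfl⟩, rfl⟩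
      exact ⟨w, ⟨w, hw, rfl⟩, rfl⟩
    · rintro ⟨_, ⟨w, hw, rfl⟩, rfl⟩
      exact ⟨_, ⟨w, hw, rfl⟩, rfl⟩
  have hsurj : ∀ g : X, ∃ n : N, ρ.rangeRestrict n = g := MonoidHom.rangeRestrict_surjective ρ
  have hirr' : ∀ W : Subgroup A, (∀ g : X, g • W = W) → W = ⊥ ∨ W = ⊤ := by
    intro W hW
    rcases hirr (W.map A.subtype) (Subgroup.map_subtype_le W) (fun g hg b hb => by
      have h := himage ⟨g, hg⟩ W
      rw [hW] at h
      rw [h]
      exact ⟨b, hb, rfl⟩) with h | h
    · exact Or.inl ((Subgroup.map_eq_bot_iff_of_injective W A.subtype_injective).mp h)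
    · refine Or.inr ((Subgroup.eq_top_iff' W).mpr fun a => ?_)
      obtain ⟨w, hw, he⟩ : (a : G) ∈ W.map A.subtype := h.symm ▸ a.2
      rwa [← Subtype.ext he]
  have hXodd : Odd (Nat.card X) := by
    rw [← Subgroup.index_ker]
    show Odd (A.normalizerMonoidHom.ker.index)
    rw [A.normalizerMonoidHom_ker]
    exact hodd
  have hS3 : ∀ (K : Subgroup X) (φ : K →* Equiv.Perm (Fin 3)), ¬ Function.Surjective φ := by
    intro K φ hφ
    have h6 : 2 ∣ Nat.card (Equiv.Perm (Fin 3)) := by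
      rw [Nat.card_perm, Nat.card_fin]; decide
    exact Nat.not_odd_iff_even.mpr (even_iff_two_dvd.mpr
      ((h6.trans (Subgroup.card_dvd_of_surjective φ hφ)).trans (Subgroup.card_subgroup_dvd_card K))) hXodd
  have htwo : ∀ K : Subgroup X, K.index ≠ 2 := fun K hK =>
    Nat.not_odd_iff_even.mpr (even_iff_two_dvd.mpr (hK ▸ Subgroup.index_dvd_card K)) hXodd
  -- the block on `A`
  let κ : X := ρ.rangeRestrict ⟨k, hk.norm⟩
  have hpow : ∀ (i : ℕ) (a : A), ((κ ^ i • a : A) : G) = k ^ i * a * (k ^ i)⁻¹ := fun i a => by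
    show ((ρ.rangeRestrict ⟨k, hk.norm⟩ ^ i • a : A) : G) = _
    rw [← map_pow, hρ]
    rfl
  have hcard : ∀ W : Subgroup G, W ≤ A → Nat.card (W.subgroupOf A) = Nat.card W := fun W hW =>
    Nat.card_congr (Subgroup.subgroupOfEquivOfLe hW).toEquiv
  have hdD : ∀ n : N, (ρ.rangeRestrict n • D.subgroupOf A).map A.subtype =
      D.map (MulAut.conj (n : G)).toMonoidHom := fun n => by
    rw [himage, Subgroup.map_subgroupOf_eq_of_le hk.D_le]
  have H : LinearBlock X (D.subgroupOf A) ((V D).subgroupOf A) κ :=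
    { sq := fun a => Subtype.ext (by
        rw [Subgroup.coe_mul, Subgroup.coe_one, ← pow_two]
        exact hel.2 _ a.2)
      inf := fun x hx hxV => Subtype.ext (by
        have : (x : G) ∈ D ⊓ V D := ⟨hx, hxV⟩
        rw [hk.disjoint] at this
        exact this)
      sup := by rw [← Subgroup.subgroupOf_sup hk.D_le hk.V_le, hk.sup, Subgroup.subgroupOf_self]
      ne := fun e => hk.D_ne (by
        rw [← Subgroup.map_subgroupOf_eq_of_le hk.D_le, e, Subgroup.map_bot])
      four := by rw [hcard _ hk.V_le]; exact hk.four_le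
      le := by rw [hcard _ hk.D_le, hcard _ hk.V_le, hq]; exact hDq
      fixD := fun d hd => Subtype.ext (by
        rw [hρ]
        show k * (d : G) * k⁻¹ = d
        exact (hk.cent (d : G) hd).symm ▸ mul_inv_cancel_right _ _)
      memV := fun v hv => by
        show ((κ • v : A) : G) ∈ V D
        rw [hρ]
        exact hk.inv _ hv
      tr := fun v hv hv1 w hw hw1 => by
        obtain ⟨i, hi⟩ := hk.trans v hv (fun e => hv1 (Subtype.ext e)) w hw fun e => hw1 (Subtype.ext e)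
        exact ⟨i, Subtype.ext ((hpow i v).trans hi)⟩
      meet := fun g hg x hx hxD => by
        obtain ⟨n, rfl⟩ := hsurj g
        by_contra hx1
        set D' := D.map (MulAut.conj (n : G)).toMonoidHom with hD'def
        have hD' : D' ∈ 𝔇 := hF.conj D hD n n.2
        have hne : D' ≠ D := fun e => hg (Subgroup.map_injective A.subtype_injective
          ((hdD n).trans (e.trans (Subgroup.map_subgroupOf_eq_of_le hk.D_le).symm)))
        have hxD' : (x : G) ∈ D' := (hdD n).le ⟨x, hx, rfl⟩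
        obtain ⟨h1, h2, h3⟩ := hF.meet D hD D' hD' hne.symm fun e => hx1 (Subtype.ext (by
          have h : (x : G) ∈ D ⊓ D' := ⟨hxD, hxD'⟩
          rw [e] at h
          exact h))
        obtain ⟨k', -, hq'⟩ := hF.block D' hD'
        have e1 : V D' = D := Subgroup.eq_of_le_of_card_ge h1 (by rw [hq']; exact hDq)
        have e2 : V D = D' := Subgroup.eq_of_le_of_card_ge h2 (by rw [hq, hF.card_eq hD' hD]; exact hDq)
        rw [e1, e2] at h3
        refine hx1 (Subtype.ext ?_)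
        have h : (x : G) ∈ D' ⊓ D := ⟨hxD', hxD⟩
        rw [h3] at h
        exact h }
  obtain ⟨hD2, hA8, -, htr⟩ := linearBlock_eight_aut X hirr' hS3 htwo H
  rw [hcard _ hk.D_le] at hD2
  refine ⟨hA8, ?_⟩
  · intro a ha ha1
    obtain ⟨d, hd, hd1⟩ : ∃ d ∈ D, d ≠ 1 := D.bot_or_exists_ne_one.resolve_left hk.D_ne
    obtain ⟨g, hg⟩ := htr ⟨d, hk.D_le hd⟩ ⟨a, ha⟩ (fun e => hd1 (congrArg Subtype.val e))
      fun e => ha1 (congrArg Subtype.val e)
    obtain ⟨n, rfl⟩ := hsurj g
    have he : (n : G) * d * (n : G)⁻¹ = a := congrArg Subtype.val hg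
    have hm : D.map (MulAut.conj (n : G)).toMonoidHom = Subgroup.zpowers a := by
      refine (Subgroup.eq_of_le_of_card_ge (Subgroup.zpowers_le.mpr (Subgroup.mem_map.mpr ⟨d, hd, he⟩)) ?_).symm
      rw [Subgroup.card_map_of_injective (MulAut.conj (n : G)).injective, hD2, Nat.card_zpowers,
        orderOf_eq_prime (hel.2 a ha) ha1]
    exact hm ▸ hF.conj D hD n n.2

/-- The criterion: no component is moved by `A` and the cores generate a subgroup of odd order. -/
theorem Hyp.false_of_central (h : Hyp G) (hA : Closed S A)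
    (hc : ∀ a ∈ A, a ≠ 1 → ∀ E : Subgroup (qq a), IsComponent E → imA A a ≤ centralizer (E : Set (qq a)))
    (hW : Odd (Nat.card ↥(⨆ a : {a : G // a ∈ A ∧ a ≠ 1}, centralizerPPrimeCore 2 (a : G)))) : False := by
  haveI : Fact (Nat.Prime 2) := ⟨Nat.prime_two⟩
  set W : Subgroup G := ⨆ a : {a : G // a ∈ A ∧ a ≠ 1}, centralizerPPrimeCore 2 (a : G) with hWdef
  have hle : ∀ a ∈ A, a ≠ 1 → centralizerPPrimeCore 2 a ≤ W := fun a ha ha1 =>
    le_iSup (fun a : {a : G // a ∈ A ∧ a ≠ 1} => centralizerPPrimeCore 2 (a : G)) ⟨a, ha, ha1⟩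
  by_cases hW1 : W = ⊥
  · refine h.false_of_le hA (h.normalizer_ne_top hA.ne_bot fun e => h.nonabelian ⟨⟨fun x y =>
      hA.comm (e ▸ mem_top x) (e ▸ mem_top y)⟩⟩) fun a ha ha1 x hx => ?_
    obtain ⟨o, ho, n, hn, rfl⟩ := h.cc_le_of_central hA ha ha1 (hc a ha ha1) hx
    obtain rfl : o = 1 := mem_bot.mp (hW1 ▸ hle a ha ha1 ho)
    rw [one_mul]
    exact hn.1
  · have hN : ∀ n ∈ normalizer (A : Set G), n ∈ normalizer (W : Set G) := fun n hn => by
      refine mem_normalizer_of_maps fun x hx => ?_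
      have hmap : W.map (MulAut.conj n).toMonoidHom ≤ W := by
        rw [hWdef, Subgroup.map_iSup, iSup_le_iff]
        rintro ⟨a, ha, ha1⟩
        rw [CfsgLib.SolvSF.map_centralizerPPrimeCore']
        exact hle _ ((mem_normalizer_iff.mp hn a).mp ha) fun e => ha1 (by simpa using e)
      exact hmap ⟨x, hx, rfl⟩
    refine h.false_of_le hA (h.normalizer_ne_top hW1 (ne_top_of_odd hA hW)) fun a ha ha1 x hx => ?_
    obtain ⟨o, ho, n, hn, rfl⟩ := h.cc_le_of_central hA ha ha1 (hc a ha ha1) hx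
    exact mul_mem (Subgroup.le_normalizer (hle a ha ha1 ho)) (hN n hn.1)

/-- There is a block when `|A| ≥ 8`. -/
theorem Hyp.exists_blocked (h : Hyp G) (hA : Closed S A) (h8 : 8 ≤ Nat.card A) : ∃ D, Blocked A D := by
  haveI : Fact (Nat.Prime 2) := ⟨Nat.prime_two⟩
  by_contra hno
  push Not at hno
  have hc : ∀ a ∈ A, a ≠ 1 → ∀ E : Subgroup (qq a), IsComponent E → imA A a ≤ centralizer (E : Set (qq a)) :=
    fun a ha ha1 E hE => CfsgLib.S3Simple.central_of_no_block hno ha ha1 hE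
  refine h.false_of_central hA hc ?_
  have key := (Cfsg.Agent.S0217.result (p := 2) A (fun a ha b hb => hA.comm ha hb)
    (fun a ha => by rw [pow_two]; exact hA.sq ha) (by norm_num; exact h8) (fun a => centralizerPPrimeCore 2 a)
    (fun a _ _ => map_subtype_le _)
    (fun a _ _ hd => Nat.not_odd_iff_even.mpr (even_iff_two_dvd.mpr hd) (odd_card_core a))
    (fun a ha _ b hb x hx => (mem_normalizer_iff.mp (cc_le_normalizer_core a (hA.mem_cc ha hb)) x).mp hx)
    (fun a _ _ => oddSolv _ (odd_card_core a))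
    (fun a ha _ b hb hb1 w hw => ?_)).1
  · rwa [Nat.odd_iff, ← Nat.two_dvd_ne_zero]
  · exact mem_core_of_centralizes (hA.mem_cc hb ha) (hA.sq ha) hw.1 hw.2 fun E hE =>
      CfsgLib.S3Simple.core_centralizes_component (hA.mem_cc hb ha) (hA.sq ha) hw.1 hw.2 hE
        (hc b hb hb1 E hE (mem_imA ha _))

/-- An irreducible strongly closed subgroup of order at least eight has order eight, every line a minimal block. -/
theorem Hyp.eight_of_irred (h : Hyp G) (hA : Closed S A) (hI : Irred A) (h8 : 8 ≤ Nat.card A) :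
    Nat.card A = 8 ∧ ∀ a ∈ A, a ≠ 1 → MinBlk A (zpowers a) := by
  classical
  haveI : Fact (Nat.Prime 2) := ⟨Nat.prime_two⟩
  obtain ⟨D1, hD1⟩ := h.exists_blocked hA h8
  have hex : ∃ n, ∃ D, Blocked A D ∧ Nat.card D = n := ⟨_, D1, hD1, rfl⟩
  obtain ⟨D0, hD0, hn⟩ := Nat.find_spec hex
  have hmin : ∀ D, Blocked A D → Nat.card D0 ≤ Nat.card D := fun D hD =>
    hn ▸ Nat.find_min' hex ⟨D, hD, rfl⟩
  set O : Set (Subgroup G) := {D' | ∃ g ∈ normalizer (A : Set G), D0.map (MulAut.conj g).toMonoidHom = D'}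
  have hO : ∀ D ∈ O, MinBlk A D := by
    rintro _ ⟨g, hg, rfl⟩
    refine ⟨hD0.conj hA hg, fun D' hD' hle => eq_of_le_of_card_ge hle ?_⟩
    rw [card_map_of_injective (MulAut.conj g).injective]
    exact hmin D' hD'
  have hD0O : D0 ∈ O := ⟨1, one_mem _, by ext x; simp⟩
  have hex' : ∀ D, Blocked A D → ∃ V k, IsBlock A D V k := fun D hD => by
    obtain ⟨V, k, hk, -⟩ := h.exists_block hA hD
    exact ⟨V, k, hk⟩
  let V : Subgroup G → Subgroup G := fun D => if hb : Blocked A D then (hex' D hb).choose else ⊥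
  have hV : ∀ D ∈ O, ∃ k, IsBlock A D (V D) k := fun D hD => by
    simp only [V, dif_pos (hO D hD).1]
    exact (hex' D (hO D hD).1).choose_spec
  set q := Nat.card (V D0) with hqdef
  obtain ⟨k0, hk0⟩ := hV D0 hD0O
  have hAq : Nat.card A = Nat.card D0 * q := hk0.card_eq hA
  have hq : ∀ D ∈ O, Nat.card (V D) = q := by
    intro D hD
    obtain ⟨k', hk'⟩ := hV D hD
    obtain ⟨g, -, rfl⟩ := hD
    have e := hk'.card_eq hA
    rw [hAq, card_map_of_injective (MulAut.conj g).injective] at e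
    exact (Nat.eq_of_mul_eq_mul_left Nat.card_pos e).symm
  have hV0 : ∀ D ∈ O, ∀ D' ∈ O, D ≠ D' → D ⊓ D' ≠ ⊥ → V D' ≤ D := fun D hD D' hD' hne hm => by
    obtain ⟨k', hk'⟩ := hV D' hD'
    exact h.le_of_meet hA (hO D hD) (hO D' hD') hne hm hk'
  have hconj : ∀ D ∈ O, ∀ g ∈ normalizer (A : Set G), D.map (MulAut.conj g).toMonoidHom ∈ O := by
    rintro _ ⟨g, hg, rfl⟩ g' hg'
    refine ⟨g' * g, mul_mem hg' hg, ?_⟩
    ext x
    simp [Subgroup.mem_map, mul_assoc]
  have hF : Family A q O V :=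
    { nonempty := ⟨D0, hD0O⟩
      block := fun D hD => (hV D hD).imp fun _ hk => ⟨hk, hq D hD⟩
      conj := hconj
      transitive := by
        rintro _ ⟨g, hg, rfl⟩ _ ⟨g', hg', rfl⟩
        refine ⟨g' * g⁻¹, mul_mem hg' (inv_mem hg), ?_⟩
        ext x
        simp [Subgroup.mem_map, mul_assoc]
      meet := fun D hD D' hD' hne hm => by
        have h1 := hV0 D hD D' hD' hne hm
        have h2 := hV0 D' hD' D hD hne.symm (by rwa [inf_comm])
        obtain ⟨k, hk⟩ := hV D hD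
        exact ⟨h1, h2, (eq_bot_iff_forall _).mpr fun x hx => mem_bot.mp (hk.disjoint.le ⟨h1 hx.2, hx.1⟩)⟩ }
  rcases family_cases hA.elem hI (h.odd_relIndex hA) hF with hlarge | ⟨hc, hall⟩
  swap
  · exact ⟨hc, fun a ha ha1 => hO _ (hall a ha ha1)⟩
  exfalso
  have hgt : ∀ D, Blocked A D → q < Nat.card D := fun D hD => (hlarge D0 hD0O).trans_le (hmin D hD)
  have hmeet : ∀ D D', Blocked A D → Blocked A D' → D ⊓ D' ≠ ⊥ := by
    intro D D' hD hD' he0
    have h1 := card_mul_le_of_disjoint hD.le hD'.le he0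
    rw [hAq] at h1
    have h2 := hmin D hD
    have h3 := hgt D' hD'
    have : 0 < Nat.card D0 := Nat.card_pos
    nlinarith
  have hinv : ∀ B : Subgroup G, B ≤ A → (∀ g ∈ normalizer (A : Set G), B.map (MulAut.conj g).toMonoidHom = B) →
      B = ⊥ ∨ B = A := fun B hB hBg => hI B hB fun g hg b hb => (hBg g hg).le ⟨b, hb, rfl⟩
  obtain ⟨D', hD'O, hD'ne⟩ : ∃ D' ∈ O, D' ≠ D0 := by
    by_contra! hcon
    rcases hinv D0 hD0.le fun g hg => hcon _ (hconj D0 hD0O g hg) with h1 | h1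
    · exact hD0.ne_bot h1
    · exact hD0.1 h1
  obtain ⟨D₂, hD₂O, h02, h12⟩ : ∃ D₂ ∈ O, D₂ ≠ D0 ∧ D₂ ≠ D' := by
    by_contra! hcon
    have htwo : ∀ D ∈ O, D = D0 ∨ D = D' := fun D hD => or_iff_not_imp_left.mpr (hcon D hD)
    rcases hinv (D0 ⊓ D') (inf_le_left.trans hD0.le) fun g hg => by
      rw [Subgroup.map_inf _ _ _ (MulAut.conj g).injective]
      rcases htwo _ (hconj D0 hD0O g hg) with h1 | h1 <;> rcases htwo _ (hconj D' hD'O g hg) with h2 | h2
      · exact absurd (map_injective (MulAut.conj g).injective (h2.trans h1.symm)) hD'ne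
      · rw [h1, h2]
      · rw [h1, h2, inf_comm]
      · exact absurd (map_injective (MulAut.conj g).injective (h2.trans h1.symm)) hD'ne with h1 | h1
    · exact hmeet D0 D' hD0 (hO D' hD'O).1 h1
    · exact hD0.1 (le_antisymm hD0.le (h1 ▸ inf_le_left))
  have hm : ∀ D ∈ O, ∀ E ∈ O, D ⊓ E ≠ ⊥ := fun D hD E hE => hmeet D E (hO D hD).1 (hO E hE).1
  obtain ⟨k', hk'⟩ := hV D' hD'O
  have hsq : q * q ≤ Nat.card D0 := by
    have h1 := hV0 D0 hD0O D' hD'O hD'ne.symm (hm _ hD0O _ hD'O)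
    have h2 := hV0 D0 hD0O D₂ hD₂O h02.symm (hm _ hD0O _ hD₂O)
    have h3 := hV0 D' hD'O D₂ hD₂O h12.symm (hm _ hD'O _ hD₂O)
    have h4 := card_mul_le_of_disjoint h1 h2 ((eq_bot_iff_forall _).mpr fun x hx =>
      mem_bot.mp (hk'.disjoint.le ⟨h3 hx.2, hx.1⟩))
    rwa [hq D' hD'O, hq D₂ hD₂O] at h4
  have hq4 : 4 ≤ q := hk0.four_le
  refine h.false_of_many hA ?_ (fun D hD => ?_) hmeet ⟨D0, hD0⟩
  · have := hlarge D0 hD0O
    nlinarith
  · have := hmin D hD
    nlinarith

end CfsgLib.WalterAb
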