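import Cfsg.Agent.Lib.Bender.GoodAll
import Cfsg.Agent.Lib.Bender.ConsSimple
import Cfsg.Agent.S0223

/-!
The centralisers of the involutions of a Sylow subgroup generate, unless one of them normalises it.

Blueprint: `blueprint/Walter.md`, "S0506 audit" (Facts).
-/

set_option autoImplicit false
set_option linter.unusedSectionVars false
set_option linter.style.haveILetI false

namespace CfsgLib.WalterAb

open Subgroup MulAction Cfsg CfsgLib.Bender

universe u

variable {G : Type u} [Group G] [Finite G] [IsSimpleGroup G]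

/-- In a simple group a strongly embedded subgroup holding a Sylow subgroup with a four-group normalises it. -/
theorem sylow_normal_of_stronglyEmbedded {H : Subgroup G} (hH : IsStronglyEmbedded H) (S : Sylow 2 G)
    (hSH : (S : Subgroup G) ≤ H) (h4 : HasFour G) : ∀ h ∈ H, ∀ x ∈ (S : Subgroup G), h * x * h⁻¹ ∈ (S : Subgroup G) := by
  haveI : Fact (Nat.Prime 2) := ⟨Nat.prime_two⟩
  haveI := CfsgLib.Bender.faithful (normalCore_eq_bot hH)
  obtain ⟨t, Q, hR, hQ2⟩ := Assembly.goodAll G (G ⧸ H) (Assembly.oneFix hH h4) ((1 : G) : G ⧸ H)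
  have hst : stabilizer G ((1 : G) : G ⧸ H) = H := MulAction.stabilizer_quotient H
  set D := stabilizer G ((1 : G) : G ⧸ H) ⊓ stabilizer G (t • ((1 : G) : G ⧸ H))
  have hQn : ∀ h ∈ H, ∀ x ∈ Q, h * x * h⁻¹ ∈ Q := fun h hh => hR.conj_mem h (hst.ge hh)
  have hDH : D ≤ H := inf_le_left.trans hst.le
  have hle : (S : Subgroup G) ≤ Q := by
    intro x hx
    have hxH : x ∈ Q ⊔ D := by rw [hR.sup_eq, hst]; exact hSH hx
    have hDn : D ≤ normalizer (Q : Set G) := fun d hd => by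
      rw [mem_normalizer_iff]
      refine fun y => ⟨hQn d (hDH hd) y, fun hy => ?_⟩
      have := hQn d⁻¹ (inv_mem (hDH hd)) _ hy
      rwa [show d⁻¹ * (d * y * d⁻¹) * d⁻¹⁻¹ = y by group] at this
    rw [← SetLike.mem_coe, coe_mul_of_right_le_normalizer_left _ _ hDn] at hxH
    obtain ⟨q, hq, d, hd, e⟩ := hxH
    haveI hN : (Q.subgroupOf H).Normal := ⟨fun y hy g => hQn g g.2 y hy⟩
    set π := QuotientGroup.mk' (Q.subgroupOf H)
    have hqH : q ∈ H := hst.le (hR.le hq)
    have e1 : π ⟨x, hSH hx⟩ = π ⟨d, hDH hd⟩ := by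
      have hπq : π ⟨q, hqH⟩ = 1 := (QuotientGroup.eq_one_iff _).mpr hq
      rw [show (⟨x, hSH hx⟩ : H) = ⟨q, hqH⟩ * ⟨d, hDH hd⟩ from Subtype.ext e.symm, map_mul, hπq, one_mul]
    obtain ⟨k, hk⟩ := S.2 ⟨x, hx⟩
    have h1 : π ⟨x, hSH hx⟩ ^ 2 ^ k = 1 := by
      rw [← map_pow, show (⟨x, hSH hx⟩ : H) ^ 2 ^ k = 1 from Subtype.ext (congrArg Subtype.val hk :), map_one]
    have h2 : π ⟨x, hSH hx⟩ ^ Nat.card D = 1 := by
      rw [e1, ← map_pow, show (⟨d, hDH hd⟩ : H) ^ Nat.card D = 1 from Subtype.ext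
        (congrArg Subtype.val (pow_card_eq_one' (x := (⟨d, hd⟩ : D))) :), map_one]
    have h3 := pow_gcd_eq_one.mpr ⟨h1, h2⟩
    rw [Nat.Coprime.gcd_eq_one ((Nat.coprime_two_left.mpr hR.odd_card).pow_left k), pow_one] at h3
    exact (QuotientGroup.eq_one_iff (N := Q.subgroupOf H) (⟨x, hSH hx⟩ : H)).mp h3
  intro h hh x hx
  exact (S.3 hQ2 hle).le (hQn h hh x (hle hx))

/-- The centralisers of the involutions of `S` generate `G`, if the normaliser of `S` is transitive on them and one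
of them does not normalise `S`. -/
theorem gen_of_not_closed (S : Sylow 2 G) (h4 : 4 ≤ Nat.card (S : Subgroup G))
    (hsq : ∀ x ∈ (S : Subgroup G), x * x = 1)
    (htr : ∀ a ∈ (S : Subgroup G), ∀ b ∈ (S : Subgroup G), a ≠ 1 → b ≠ 1 →
      ∃ n ∈ normalizer ((S : Subgroup G) : Set G), n * a * n⁻¹ = b) {u : G} (hu : u ∈ (S : Subgroup G)) (hu1 : u ≠ 1)
    (hncl : ¬ ∀ c ∈ centralizer ({u} : Set G), ∀ x ∈ (S : Subgroup G), c * x * c⁻¹ ∈ (S : Subgroup G))
    {M : Subgroup G} (hM : ∀ v ∈ (S : Subgroup G), v ≠ 1 → centralizer ({v} : Set G) ≤ M) : M = ⊤ := by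
  classical
  haveI : Fact (Nat.Prime 2) := ⟨Nat.prime_two⟩
  set L := ⨆ v : {v : G // v ∈ (S : Subgroup G) ∧ v ≠ 1}, centralizer ({v.1} : Set G) with hL
  have hcL : ∀ v ∈ (S : Subgroup G), v ≠ 1 → centralizer ({v} : Set G) ≤ L := fun v hv hv1 =>
    le_iSup (fun v : {v : G // v ∈ (S : Subgroup G) ∧ v ≠ 1} => centralizer ({v.1} : Set G)) ⟨v, hv, hv1⟩
  suffices h : L = ⊤ from top_unique (h ▸ iSup_le fun v => hM v.1 v.2.1 v.2.2)
  set H := normalizer (L : Set G) with hHdef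
  have hLH : L ≤ H := le_normalizer
  by_cases hHt : H = ⊤
  · haveI : L.Normal := normalizer_eq_top_iff.mp hHt
    refine (IsSimpleGroup.eq_bot_or_eq_top_of_normal L inferInstance).resolve_left fun e => hu1 ?_
    exact mem_bot.mp (e ▸ hcL u hu hu1 (mem_centralizer_singleton_iff.mpr rfl))
  exfalso
  have hcomm : ∀ a ∈ (S : Subgroup G), ∀ b ∈ (S : Subgroup G), a * b = b * a := fun a ha b hb =>
    calc a * b = a * (a * b * (a * b)) * b := by rw [hsq _ (mul_mem ha hb), mul_one]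
      _ = a * a * (b * a) * (b * b) := by group
      _ = b * a := by rw [hsq a ha, hsq b hb, one_mul, mul_one]
  have hSH : (S : Subgroup G) ≤ H := fun x hx =>
    hLH (hcL u hu hu1 (mem_centralizer_singleton_iff.mpr (hcomm x hx u hu)))
  have hNH : normalizer ((S : Subgroup G) : Set G) ≤ H := by
    have key : ∀ n ∈ normalizer ((S : Subgroup G) : Set G), L.map (MulAut.conj n).toMonoidHom ≤ L := by
      intro n hn
      rw [hL, Subgroup.map_iSup]
      refine iSup_le fun v => ?_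
      rintro _ ⟨c, hc, rfl⟩
      refine hcL (n * v.1 * n⁻¹) ((mem_normalizer_iff.mp hn v.1).mp v.2.1)
        (fun e => v.2.2 (conj_eq_one_iff.mp e)) (mem_centralizer_singleton_iff.mpr ?_)
      show n * c * n⁻¹ * (n * v.1 * n⁻¹) = n * v.1 * n⁻¹ * (n * c * n⁻¹)
      calc n * c * n⁻¹ * (n * v.1 * n⁻¹) = n * (c * v.1) * n⁻¹ := by group
        _ = n * (v.1 * c) * n⁻¹ := by rw [mem_centralizer_singleton_iff.mp hc]
        _ = _ := by group
    intro n hn
    rw [hHdef, mem_normalizer_iff_map_conj_eq]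
    exact eq_of_le_of_card_ge (key n hn) (card_map_of_injective (MulAut.conj n).injective).ge
  have hcent : ∀ s ∈ H, orderOf s = 2 → centralizer ({s} : Set G) ≤ H ∧ ∃ m ∈ H, m * u * m⁻¹ = s := by
    intro s hs hso
    obtain ⟨Q, hQ⟩ := (IsPGroup.of_card (n := 1) (G := ↥(zpowers (⟨s, hs⟩ : ↥H)))
      (by rw [Nat.card_zpowers, orderOf_mk, hso, pow_one])).exists_le_sylow
    obtain ⟨c, hc⟩ := exists_smul_eq ↥H (S.subtype hSH) Q
    have h' := hQ (mem_zpowers _)
    rw [← hc, Sylow.coe_subgroup_smul] at h'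
    obtain ⟨x, hx, hxs⟩ := h'
    have hxs' : (c : G) * x * (c : G)⁻¹ = s := congrArg Subtype.val hxs
    have hx1 : (x : G) ≠ 1 := fun e => by
      rw [e, mul_one, mul_inv_cancel] at hxs'
      rw [← hxs', orderOf_one] at hso
      omega
    obtain ⟨n, hn, hnx⟩ := htr u hu x hx hu1 hx1
    have hm : (c : G) * n ∈ H := mul_mem c.2 (hNH hn)
    have he : (c : G) * n * u * ((c : G) * n)⁻¹ = s := by rw [← hxs', ← hnx]; group
    refine ⟨fun g hg => ?_, _, hm, he⟩
    have h1 : ((c : G) * n)⁻¹ * g * ((c : G) * n) ∈ H := hLH (hcL u hu hu1 (mem_centralizer_singleton_iff.mpr (by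
      have e2 := mem_centralizer_singleton_iff.mp hg
      rw [← he] at e2
      calc ((c : G) * n)⁻¹ * g * ((c : G) * n) * u
          = ((c : G) * n)⁻¹ * (g * ((c : G) * n * u * ((c : G) * n)⁻¹)) * ((c : G) * n) := by group
        _ = u * (((c : G) * n)⁻¹ * g * ((c : G) * n)) := by rw [e2]; group)))
    have h2 := mul_mem (mul_mem hm h1) (inv_mem hm)
    rwa [show (c : G) * n * (((c : G) * n)⁻¹ * g * ((c : G) * n)) * ((c : G) * n)⁻¹ = g by group] at h2
  have heven : Even (Nat.card H) := even_iff_two_dvd.mpr ((dvd_of_eq (orderOf_eq_prime (by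
    rw [pow_two]; exact hsq u hu) hu1).symm).trans (orderOf_dvd_natCard H (hSH hu)))
  have hSE : IsStronglyEmbedded H := by
    refine (Cfsg.Agent.S0223.result H hHt heven).mpr ⟨fun s hs hso => (hcent s hs hso).1,
      fun s hs r hr hso hro _ => ?_⟩
    obtain ⟨m, hm, e⟩ := (hcent s hs hso).2
    obtain ⟨m', hm', e'⟩ := (hcent r hr hro).2
    exact ⟨m' * m⁻¹, mul_mem hm' (inv_mem hm), by rw [← e, ← e']; group⟩
  refine hncl fun c hc => sylow_normal_of_stronglyEmbedded hSE S hSH ?_ c (hLH (hcL u hu hu1 hc))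
  obtain ⟨w, hw, hwne⟩ : ∃ w ∈ (S : Subgroup G), w ∉ zpowers u := by
    by_contra! hh
    have := card_le_of_le (show (S : Subgroup G) ≤ zpowers u from hh)
    rw [Nat.card_zpowers, orderOf_eq_prime (by rw [pow_two]; exact hsq u hu) hu1] at this
    omega
  exact ⟨u, w, hu1, fun e => hwne (e ▸ one_mem _), fun e => hwne (e ▸ mem_zpowers u), hsq u hu, hsq w hw,
    hcomm u hu w hw⟩

end CfsgLib.WalterAb
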