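import Cfsg.Agent.Lib.Walter.Ab.Rigid

/-!
The properties of a member of the list that the reduction of S0506 uses, and their transport.

Blueprint: `blueprint/Walter.md`, "S0506 audit" (Facts).
-/

set_option autoImplicit false
set_option linter.unusedSectionVars false
set_option linter.style.haveILetI false

namespace CfsgLib.WalterAb

open Subgroup

universe u v

variable {K : Type u} [Group K] [Finite K] {K' : Type v} [Group K'] [Finite K']

/-- The local properties of a listed simple group at a Sylow 2-subgroup. -/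
structure Good (T : Sylow 2 K) : Prop where
  selfCent : SelfCent T
  four : 4 ≤ Nat.card (T : Subgroup K)
  trans : ∃ k ∈ normalizer ((T : Subgroup K) : Set K), ∀ x ∈ (T : Subgroup K), x ≠ 1 →
    ∀ y ∈ (T : Subgroup K), y ≠ 1 → ∃ i : ℕ, k ^ i * x * (k ^ i)⁻¹ = y
  inner : ∀ (φ : MulAut K) (j : ℕ), φ ^ (2 ^ j) = 1 → (∀ x ∈ (T : Subgroup K), φ x = x) →
    ∃ q ∈ (T : Subgroup K), φ = MulAut.conj q
  core : 8 ≤ Nat.card (T : Subgroup K) → ∀ u ∈ (T : Subgroup K), u ≠ 1 → ∀ Y : Subgroup (MulAut K),
    Odd (Nat.card Y) → (∀ φ ∈ Y, φ u = u) →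
    (∀ c, c * u = u * c → ∀ φ ∈ Y, MulAut.conj c * φ * (MulAut.conj c)⁻¹ ∈ Y) → Y = ⊥

/-- The automorphisms fixing an involution form a solvable group. -/
def SolvStab (K : Type u) [Group K] : Prop :=
  ∀ z : K, z ≠ 1 → z * z = 1 → Group.IsSolvable (MulAction.stabilizer (MulAut K) z)

theorem congr_conj (e : K ≃* K') (q : K) : MulAut.congr e (MulAut.conj q) = MulAut.conj (e q) := by
  ext y
  simp [MulAut.congr]

theorem congr_apply_map (e : K ≃* K') (φ : MulAut K) (x : K) : MulAut.congr e φ (e x) = e (φ x) := by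
  simp [MulAut.congr]

/-- Transport along an isomorphism carrying one Sylow subgroup to the other. -/
theorem Good.map {T : Sylow 2 K} {T' : Sylow 2 K'} (h : Good T) (e : K ≃* K')
    (hT : (T : Subgroup K).map e.toMonoidHom = (T' : Subgroup K')) : Good T' := by
  have mem : ∀ x, e x ∈ (T' : Subgroup K') ↔ x ∈ (T : Subgroup K) := fun x => by
    rw [← hT, mem_map_equiv, MulEquiv.symm_apply_apply]
  have mem' : ∀ y, y ∈ (T' : Subgroup K') ↔ e.symm y ∈ (T : Subgroup K) := fun y => by
    rw [← mem, MulEquiv.apply_symm_apply]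
  refine ⟨⟨fun y hy => e.symm.injective ?_, fun y hy => (mem' y).mpr (h.selfCent.self _ fun x hx => ?_)⟩, ?_, ?_, ?_, ?_⟩
  · rw [map_mul, map_one]
    exact h.selfCent.sq _ ((mem' y).mp hy)
  · refine e.injective ?_
    rw [map_mul, map_mul, MulEquiv.apply_symm_apply]
    exact hy _ ((mem x).mpr hx)
  · rw [← hT, card_map_of_injective e.injective]
    exact h.four
  · obtain ⟨k, hk, htr⟩ := h.trans
    refine ⟨e k, ?_, fun y hy hy1 z hz hz1 => ?_⟩
    · rw [mem_normalizer_iff]
      intro y
      rw [mem' y, mem' (e k * y * (e k)⁻¹), map_mul, map_mul, map_inv, MulEquiv.symm_apply_apply]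
      exact mem_normalizer_iff.mp hk _
    · obtain ⟨i, hi⟩ := htr _ ((mem' y).mp hy) (fun e1 => hy1 (by simpa using congrArg e e1)) _ ((mem' z).mp hz)
        fun e1 => hz1 (by simpa using congrArg e e1)
      refine ⟨i, e.symm.injective ?_⟩
      rw [map_mul, map_mul, map_inv, map_pow, MulEquiv.symm_apply_apply, hi]
  · intro φ j hj hfix
    obtain ⟨q, hq, hφ⟩ := h.inner ((MulAut.congr e).symm φ) j
      (by rw [← map_pow, hj, map_one]) fun x hx => e.injective (by
        rw [← congr_apply_map, MulEquiv.apply_symm_apply, hfix _ ((mem x).mpr hx)])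
    exact ⟨e q, (mem q).mpr hq, by rw [← congr_conj, ← hφ, MulEquiv.apply_symm_apply]⟩
  · intro h8 u hu hu1 Y ho hfix hnorm
    rw [← hT, card_map_of_injective e.injective] at h8
    have h0 := h.core h8 (e.symm u) ((mem' u).mp hu) (fun e1 => hu1 (by simpa using congrArg e e1))
      (Y.map (MulAut.congr e).symm.toMonoidHom)
      (by rw [card_map_of_injective (MulAut.congr e).symm.injective]; exact ho)
      (fun φ hφ => by
        rw [mem_map_equiv, MulEquiv.symm_symm] at hφ
        refine e.injective ?_
        rw [← congr_apply_map, MulEquiv.apply_symm_apply, hfix _ hφ])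
      (fun c hc φ hφ => by
        rw [mem_map_equiv, MulEquiv.symm_symm] at hφ ⊢
        rw [map_mul, map_mul, map_inv, congr_conj]
        refine hnorm _ ?_ _ hφ
        refine e.symm.injective ?_
        rw [map_mul, map_mul, MulEquiv.symm_apply_apply]
        exact hc)
    exact (map_eq_bot_iff_of_injective Y (MulAut.congr e).symm.injective).mp h0

/-- Transport of the solvability of the stabilisers. -/
theorem SolvStab.map (h : SolvStab K) (e : K ≃* K') : SolvStab K' := by
  intro z hz hz2
  haveI := h (e.symm z) (fun e1 => hz (by simpa using congrArg e e1)) (by rw [← map_mul, hz2, map_one])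
  let g : MulAction.stabilizer (MulAut K') z →* MulAction.stabilizer (MulAut K) (e.symm z) :=
    ((MulAut.congr e).symm.toMonoidHom.comp (MulAction.stabilizer (MulAut K') z).subtype).codRestrict _ fun φ => by
      rw [MulAction.mem_stabilizer_iff, MulAut.smul_def]
      show (MulAut.congr e).symm (φ : MulAut K') (e.symm z) = e.symm z
      refine e.injective ?_
      rw [← congr_apply_map, MulEquiv.apply_symm_apply, MulEquiv.apply_symm_apply]
      exact MulAction.mem_stabilizer_iff.mp φ.2
  exact Group.isSolvable_of_isSolvable_injective (f := g) fun a b hab =>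
    Subtype.ext ((MulAut.congr e).symm.injective (congrArg Subtype.val hab :))

/-- One Sylow subgroup suffices. -/
theorem Good.any {T : Sylow 2 K} (h : Good T) (T' : Sylow 2 K) : Good T' := by
  haveI : Fact (Nat.Prime 2) := ⟨Nat.prime_two⟩
  obtain ⟨g, hg⟩ := MulAction.exists_smul_eq K T T'
  exact h.map (MulAut.conj g) (by rw [← hg, Sylow.coe_subgroup_smul]; rfl)

end CfsgLib.WalterAb
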