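import Cfsg.Agent.Lib.Walter.Ab.Psl
import Cfsg.Agent.Lib.Walter.Ab.Gen
import Cfsg.Agent.Lib.Walter.Defs
import Cfsg.Agent.Lib.E8Solv.Local

/-!
Groups of Janko–Ree type: every Sylow 2-subgroup is elementary of order eight and every involution has centraliser
`2 × L₂(q)`.

Blueprint: `blueprint/Walter.md`, "S0506 audit" (Facts).
-/

set_option autoImplicit false
set_option linter.unusedSectionVars false
set_option linter.style.haveILetI false

namespace CfsgLib.WalterAb

open Subgroup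
open scoped commutatorElement

universe u v

local notation "PSL₂[" F "]" => Matrix.ProjectiveSpecialLinearGroup (Fin 2) F

/-- Sylow 2-subgroups of order eight and exponent two, and centralisers `2 × L₂(q)`. -/
def IsJR (K : Type u) [Group K] : Prop :=
  (∀ T : Sylow 2 K, Walter.E8 (T : Subgroup K)) ∧ ∀ t : K, orderOf t = 2 → Walter.Shape K t

variable {K : Type u} [Group K]

/-- Coordinates in the centraliser of `t`. -/
structure Co (t : K) where
  F : Type
  instField : Field F
  instFintype : Fintype F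
  hq : Fintype.card F % 8 = 3 ∨ Fintype.card F % 8 = 5
  h5 : 5 ≤ Fintype.card F
  ord : orderOf t = 2
  e : centralizer ({t} : Set K) ≃* Multiplicative (ZMod 2) × PSL₂[F]

attribute [instance] Co.instField Co.instFintype

theorem card_mod {F : Type} [Fintype F]
    (h : Fintype.card F = 5 ∨ ∃ m, 1 ≤ m ∧ Fintype.card F = 3 ^ (2 * m + 1)) :
    (Fintype.card F % 8 = 3 ∨ Fintype.card F % 8 = 5) ∧ 5 ≤ Fintype.card F := by
  rcases h with e | ⟨m, hm, e⟩
  · omega
  · have h9 : 9 ^ m % 8 = 1 := by rw [Nat.pow_mod]; norm_num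
    have h1 : 9 ≤ 9 ^ m := Nat.le_self_pow (by omega) 9
    rw [e, pow_succ, pow_mul, show (3 : ℕ) ^ 2 = 9 from rfl]
    omega

theorem IsJR.co (h : IsJR K) {t : K} (ht : orderOf t = 2) : Nonempty (Co t) := by
  obtain ⟨F, iF, iFt, hc, ⟨e⟩⟩ := h.2 t ht
  exact ⟨⟨F, iF, iFt, (card_mod hc).1, (card_mod hc).2, ht, e⟩⟩

/-- A subgroup of odd order of the automorphisms that the inner ones normalise is trivial. -/
theorem odd_normalised_eq_bot {P : Type v} [Group P] [Finite P] [IsSimpleGroup P] (hP : ¬ IsMulCommutative P)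
    (hev : 2 ∣ Nat.card P) (Y : Subgroup (MulAut P)) (hY : Odd (Nat.card Y))
    (hn : ∀ x, ∀ φ ∈ Y, MulAut.conj x * φ * (MulAut.conj x)⁻¹ ∈ Y) : Y = ⊥ := by
  have hcenter : ∀ z : P, (∀ y, z * y = y * z) → z = 1 := fun z hz => by
    rcases IsSimpleGroup.eq_bot_or_eq_top_of_normal (center P) inferInstance with h | h
    · exact mem_bot.mp (h ▸ mem_center_iff.mpr fun y => (hz y).symm)
    · exact absurd ⟨⟨fun a b => mem_center_iff.mp (h ▸ mem_top b) a⟩⟩ hP
  set N := Y.comap (MulAut.conj (G := P)) with hN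
  haveI : N.Normal := ⟨fun n hn' g => by
    rw [hN, mem_comap, map_mul, map_mul, map_inv]
    exact hn g _ hn'⟩
  have hNb : N = ⊥ := (IsSimpleGroup.eq_bot_or_eq_top_of_normal N inferInstance).resolve_right fun h => by
    have hinj : Function.Injective (MulAut.conj (G := P)) := fun a b hab => by
      refine inv_mul_eq_one.mp (hcenter (a⁻¹ * b) fun y => ?_)
      have h1 := DFunLike.congr_fun hab y
      simp only [MulAut.conj_apply] at h1
      calc a⁻¹ * b * y = a⁻¹ * (b * y * b⁻¹) * b := by group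
        _ = y * (a⁻¹ * b) := by rw [← h1]; group
    have h2 : 2 ∣ Nat.card (N.map (MulAut.conj (G := P))) := by rwa [card_map_of_injective hinj, h, card_top]
    exact (Nat.not_even_iff_odd.mpr hY) (even_iff_two_dvd.mpr (h2.trans (card_dvd_of_le (map_comap_le _ _))))
  refine (eq_bot_iff_forall _).mpr fun φ hφ => MulEquiv.ext fun x => ?_
  have h1 : MulAut.conj (x * (φ x)⁻¹) ∈ Y := by
    have e : MulAut.conj (x * (φ x)⁻¹) = MulAut.conj x * φ * (MulAut.conj x)⁻¹ * φ⁻¹ := by
      refine MulEquiv.ext fun y => ?_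
      simp [mul_assoc]
    rw [e]
    exact mul_mem (hn x φ hφ) (inv_mem hφ)
  have h2 : x * (φ x)⁻¹ ∈ N := h1
  rw [hNb, mem_bot, mul_inv_eq_one] at h2
  exact h2.symm

namespace Co

variable {t : K} (c : Co t)

theorem tt (c : Co t) : t * t = 1 := by rw [← pow_two, ← c.ord, pow_orderOf_eq_one]

theorem t_ne (c : Co t) : t ≠ 1 := fun e => by simpa [e] using c.ord

theorem h3 : 3 < Fintype.card c.F := by have := c.h5; omega

theorem psl_simple : IsSimpleGroup PSL₂[c.F] := JankoReeMult.psl_simple c.h3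

theorem psl_nonabelian : ¬ IsMulCommutative PSL₂[c.F] :=
  JankoReeMult.psl_nonabelian (Nat.odd_iff.mpr (by have := c.hq; omega)) c.h3

theorem psl_center {z : PSL₂[c.F]} (hz : ∀ y, z * y = y * z) : z = 1 := by
  haveI := c.psl_simple
  rcases IsSimpleGroup.eq_bot_or_eq_top_of_normal (center PSL₂[c.F]) inferInstance with h | h
  · exact mem_bot.mp (h ▸ mem_center_iff.mpr fun y => (hz y).symm)
  · exact absurd ⟨⟨fun a b => mem_center_iff.mp (h ▸ mem_top b) a⟩⟩ c.psl_nonabelian

/-- The embedding of `L₂(q)`. -/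
def ι : PSL₂[c.F] →* K :=
  (centralizer ({t} : Set K)).subtype.comp (c.e.symm.toMonoidHom.comp (MonoidHom.inr _ _))

/-- The projection onto `L₂(q)`. -/
def π : centralizer ({t} : Set K) →* PSL₂[c.F] := (MonoidHom.snd _ _).comp c.e.toMonoidHom

theorem ι_mem (x : PSL₂[c.F]) : c.ι x ∈ centralizer ({t} : Set K) := (c.e.symm (1, x)).2

theorem ι_comm (x : PSL₂[c.F]) : c.ι x * t = t * c.ι x := mem_centralizer_singleton_iff.mp (c.ι_mem x)

theorem π_ι (x : PSL₂[c.F]) : c.π ⟨c.ι x, c.ι_mem x⟩ = x := by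
  show (c.e (c.e.symm (1, x))).2 = x
  rw [MulEquiv.apply_symm_apply]

theorem ι_inj : Function.Injective c.ι := fun a b h => by
  rw [← c.π_ι a, ← c.π_ι b]
  exact congrArg c.π (Subtype.ext h)

/-- `t` as an element of its centraliser. -/
def tC (_c : Co t) : centralizer ({t} : Set K) := ⟨t, mem_centralizer_singleton_iff.mpr rfl⟩

theorem π_t : c.π c.tC = 1 := by
  refine c.psl_center fun y => ?_
  obtain ⟨g, rfl⟩ : ∃ g, c.π g = y := ⟨c.e.symm (1, y), by show (c.e (c.e.symm (1, y))).2 = y; simp⟩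
  rw [← map_mul, ← map_mul]
  exact congrArg c.π (Subtype.ext (mem_centralizer_singleton_iff.mp g.2).symm)

theorem e_t : (c.e c.tC).1 ≠ 1 := fun h => c.t_ne <| by
  have h1 : c.e c.tC = 1 := Prod.ext h c.π_t
  rw [map_eq_one_iff c.e c.e.injective] at h1
  exact congrArg Subtype.val h1

theorem decomp (g : centralizer ({t} : Set K)) :
    (g : K) = c.ι (c.π g) ∨ (g : K) = t * c.ι (c.π g) := by
  have htwo : ∀ a b : Multiplicative (ZMod 2), a ≠ 1 → b ≠ 1 → a = b := by decide
  by_cases h : (c.e g).1 = 1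
  · left
    show (g : K) = ((c.e.symm (1, c.π g) : centralizer ({t} : Set K)) : K)
    rw [show ((1 : Multiplicative (ZMod 2)), c.π g) = c.e g from Prod.ext h.symm rfl, MulEquiv.symm_apply_apply]
  · right
    show (g : K) = ((c.tC * c.e.symm (1, c.π g) : centralizer ({t} : Set K)) : K)
    refine congrArg Subtype.val (c.e.injective ?_)
    rw [map_mul, MulEquiv.apply_symm_apply]
    refine Prod.ext ?_ ?_
    · rw [Prod.fst_mul, mul_one]
      exact htwo _ _ h c.e_t
    · rw [Prod.snd_mul, show (c.e c.tC).2 = 1 from c.π_t, one_mul]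
      rfl

theorem decomp' {g : K} (hg : g * t = t * g) :
    ∃ x, g = c.ι x ∨ g = t * c.ι x := ⟨_, c.decomp ⟨g, mem_centralizer_singleton_iff.mpr hg⟩⟩

/-- A homomorphism of a perfect group into the centraliser lands in `L₂(q)`. -/
theorem hom_eq {X : Type v} [Group X] (hX : commutator X = ⊤) (f : X →* centralizer ({t} : Set K)) (x : X) :
    (f x : K) = c.ι (c.π (f x)) := by
  have h1 : (MonoidHom.fst _ _).comp (c.e.toMonoidHom.comp f) = 1 := by
    haveI : Group.IsSolvable (Multiplicative (ZMod 2)) := Group.isSolvable_of_comm mul_comm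
    exact hom_eq_one_of_solvable hX _
  show (f x : K) = ((c.e.symm (1, c.π (f x)) : centralizer ({t} : Set K)) : K)
  rw [show ((1 : Multiplicative (ZMod 2)), c.π (f x)) = c.e (f x) from
    Prod.ext (DFunLike.congr_fun h1 x).symm rfl, MulEquiv.symm_apply_apply]

theorem psl_perfect : commutator PSL₂[c.F] = ⊤ := by
  haveI := c.psl_simple
  refine (IsSimpleGroup.eq_bot_or_eq_top_of_normal (commutator PSL₂[c.F]) inferInstance).resolve_left fun h =>
    c.psl_nonabelian ⟨⟨fun a b => ?_⟩⟩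
  have : ⁅a, b⁆ ∈ commutator PSL₂[c.F] := commutator_mem_commutator (mem_top a) (mem_top b)
  rw [h, mem_bot, commutatorElement_eq_one_iff_mul_comm] at this
  exact this

theorem stab_mem {φ : MulAut K} (hφ : φ t = t) (x : PSL₂[c.F]) : φ (c.ι x) ∈ centralizer ({t} : Set K) := by
  rw [mem_centralizer_singleton_iff, show φ (c.ι x) * t = φ (c.ι x) * φ t by rw [hφ], ← map_mul, c.ι_comm,
    map_mul, hφ]

/-- The map induced on `L₂(q)` by an automorphism fixing `t`. -/
def resFun {φ : MulAut K} (hφ : φ t = t) : PSL₂[c.F] →* PSL₂[c.F] :=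
  c.π.comp ((φ.toMonoidHom.comp c.ι).codRestrict _ (c.stab_mem hφ))

theorem ι_resFun {φ : MulAut K} (hφ : φ t = t) (x : PSL₂[c.F]) : c.ι (c.resFun hφ x) = φ (c.ι x) :=
  (c.hom_eq c.psl_perfect ((φ.toMonoidHom.comp c.ι).codRestrict _ (c.stab_mem hφ)) x).symm

theorem stab_t (φ : MulAction.stabilizer (MulAut K) t) : (φ : MulAut K) t = t := MulAction.mem_stabilizer_iff.mp φ.2

/-- The restriction to `L₂(q)`. -/
def res : MulAction.stabilizer (MulAut K) t →* MulAut PSL₂[c.F] where
  toFun φ :=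
    { toFun := c.resFun (stab_t φ)
      invFun := c.resFun (stab_t φ⁻¹)
      left_inv := fun x => c.ι_inj (by rw [c.ι_resFun, c.ι_resFun]; exact (φ : MulAut K).symm_apply_apply _)
      right_inv := fun x => c.ι_inj (by rw [c.ι_resFun, c.ι_resFun]; exact (φ : MulAut K).apply_symm_apply _)
      map_mul' := map_mul _ }
  map_one' := MulEquiv.ext fun x => c.ι_inj (by
    show c.ι (c.resFun (stab_t (1 : MulAction.stabilizer (MulAut K) t)) x) = c.ι x
    rw [c.ι_resFun]; rfl)
  map_mul' φ ψ := MulEquiv.ext fun x => c.ι_inj (by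
    show c.ι (c.resFun (stab_t (φ * ψ)) x) = c.ι (c.resFun (stab_t φ) (c.resFun (stab_t ψ) x))
    rw [c.ι_resFun, c.ι_resFun, c.ι_resFun]; rfl)

theorem ι_res (φ : MulAction.stabilizer (MulAut K) t) (x : PSL₂[c.F]) :
    c.ι (c.res φ x) = (φ : MulAut K) (c.ι x) := c.ι_resFun (stab_t φ) x

variable [Finite K]

theorem T_le {T : Sylow 2 K} (hE : Walter.E8 (T : Subgroup K)) (ht : t ∈ (T : Subgroup K)) :
    (T : Subgroup K) ≤ centralizer ({t} : Set K) := fun x hx => mem_centralizer_singleton_iff.mpr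
  (calc x * t = x * (x * t * (x * t)) * t := by rw [hE.2 _ (mul_mem hx ht), mul_one]
      _ = x * x * (t * x) * (t * t) := by group
      _ = t * x := by rw [hE.2 x hx, hE.2 t ht, one_mul, mul_one])

variable {T : Sylow 2 K} (hE : Walter.E8 (T : Subgroup K)) (ht : t ∈ (T : Subgroup K))

/-- The image of `T`. -/
noncomputable def PT : Sylow 2 PSL₂[c.F] :=
  haveI : Fact (Nat.Prime 2) := ⟨Nat.prime_two⟩
  (T.subtype (T_le hE ht)).mapSurjective (f := c.π) fun y => ⟨⟨c.ι y, c.ι_mem y⟩, c.π_ι y⟩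

theorem mem_PT (x : PSL₂[c.F]) : x ∈ (c.PT hE ht : Subgroup PSL₂[c.F]) ↔ c.ι x ∈ (T : Subgroup K) := by
  constructor
  · rintro ⟨g, hg, rfl⟩
    rcases c.decomp g with e | e
    · exact e ▸ hg
    · rw [show c.ι (c.π g) = t * g by rw [e, ← mul_assoc, c.tt, one_mul]]
      exact mul_mem ht hg
  · exact fun hx => ⟨⟨c.ι x, c.ι_mem x⟩, hx, c.π_ι x⟩

include c hE ht

theorem good_PT : Good (c.PT hE ht) := good_odd c.hq c.h5 _

theorem mem_T_cases {x : K} (hx : x ∈ (T : Subgroup K)) :
    ∃ p ∈ (c.PT hE ht : Subgroup PSL₂[c.F]), x = c.ι p ∨ x = t * c.ι p := by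
  refine ⟨c.π ⟨x, T_le hE ht hx⟩, ⟨⟨x, T_le hE ht hx⟩, hx, rfl⟩, c.decomp ⟨x, _⟩⟩

theorem self {x : K} (hx : ∀ y ∈ (T : Subgroup K), x * y = y * x) : x ∈ (T : Subgroup K) := by
  have hxC : x ∈ centralizer ({t} : Set K) := mem_centralizer_singleton_iff.mpr (hx t ht)
  have hp : c.π ⟨x, hxC⟩ ∈ (c.PT hE ht : Subgroup PSL₂[c.F]) := (c.good_PT hE ht).selfCent.self _ fun y hy => by
    obtain ⟨g, hg, rfl⟩ := hy
    rw [← map_mul, ← map_mul]
    exact congrArg c.π (Subtype.ext (hx g hg))
  have hs := (c.mem_PT hE ht _).mp hp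
  rcases c.decomp ⟨x, hxC⟩ with e | e
  · exact (show x = c.ι _ from e) ▸ hs
  · exact (show x = t * c.ι _ from e) ▸ mul_mem ht hs

/-- An element of the normaliser of `T` in `C(t)` whose centraliser in `T` is `⟨t⟩`. -/
theorem exists_fpf : ∃ n ∈ normalizer ((T : Subgroup K) : Set K), (∃ x, c.ι x = n) ∧
    ∀ s ∈ (T : Subgroup K), s * n = n * s → s = 1 ∨ s = t := by
  obtain ⟨k, hk, htr⟩ := (c.good_PT hE ht).trans
  have key : ∀ y ∈ (T : Subgroup K), c.ι k * y * (c.ι k)⁻¹ ∈ (T : Subgroup K) := by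
    intro y hy
    obtain ⟨p, hp, e⟩ := c.mem_T_cases hE ht hy
    have h1 : c.ι (k * p * k⁻¹) ∈ (T : Subgroup K) :=
      (c.mem_PT hE ht _).mp ((mem_normalizer_iff.mp hk p).mp hp)
    rw [map_mul, map_mul, map_inv] at h1
    rcases e with rfl | rfl
    · exact h1
    · rw [show c.ι k * (t * c.ι p) * (c.ι k)⁻¹ = (c.ι k * t) * c.ι p * (c.ι k)⁻¹ by group, c.ι_comm,
        show t * c.ι k * c.ι p * (c.ι k)⁻¹ = t * (c.ι k * c.ι p * (c.ι k)⁻¹) by group]
      exact mul_mem ht h1
  have hkN : c.ι k ∈ normalizer ((T : Subgroup K) : Set K) := by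
    rw [mem_normalizer_iff_map_conj_eq]
    exact eq_of_le_of_card_ge (by rintro _ ⟨y, hy, rfl⟩; exact key y hy)
      (card_map_of_injective (MulAut.conj (c.ι k)).injective).ge
  refine ⟨c.ι k, hkN, ⟨k, rfl⟩, fun s hs hsn => ?_⟩
  obtain ⟨p, hp, e⟩ := c.mem_T_cases hE ht hs
  have hcm : p * k = k * p := by
    refine c.ι_inj ?_
    rw [map_mul, map_mul]
    rcases e with rfl | rfl
    · exact hsn
    · have h1 : t * (c.ι p * c.ι k) = t * (c.ι k * c.ι p) := by
        rw [← mul_assoc, hsn, ← mul_assoc, c.ι_comm, mul_assoc]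
      exact mul_left_cancel h1
  have hp1 : p = 1 := by
    by_contra hp1
    obtain ⟨y, hy, hy'⟩ : ∃ y ∈ (c.PT hE ht : Subgroup PSL₂[c.F]), y ∉ zpowers p := by
      by_contra! hh
      have h4 := (c.good_PT hE ht).four.trans (card_le_of_le (show _ ≤ zpowers p from hh))
      have h2 : orderOf p ≤ 2 := orderOf_le_of_pow_eq_one (by norm_num)
        (by rw [pow_two]; exact (c.good_PT hE ht).selfCent.sq p hp)
      rw [Nat.card_zpowers] at h4
      omega
    obtain ⟨i, hi⟩ := htr p hp hp1 y hy fun e1 => hy' (e1 ▸ one_mem _)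
    rw [((show Commute k p from hcm.symm).pow_left i).eq, mul_inv_cancel_right] at hi
    exact hy' (hi ▸ mem_zpowers p)
  rcases e with rfl | rfl
  · exact Or.inl (by rw [hp1, map_one])
  · exact Or.inr (by rw [hp1, map_one, mul_one])

end Co

variable [Finite K]

theorem IsJR.sq (h : IsJR K) (T : Sylow 2 K) {x : K} (hx : x ∈ (T : Subgroup K)) : x * x = 1 := (h.1 T).2 x hx

theorem IsJR.ord (h : IsJR K) (T : Sylow 2 K) {x : K} (hx : x ∈ (T : Subgroup K)) (hx1 : x ≠ 1) :
    orderOf x = 2 := orderOf_eq_prime (by rw [pow_two]; exact h.sq T hx) hx1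

theorem IsJR.selfCent (h : IsJR K) (T : Sylow 2 K) : SelfCent T := by
  refine ⟨(h.1 T).2, fun x hx => ?_⟩
  obtain ⟨t, ht, ht1⟩ : ∃ t ∈ (T : Subgroup K), t ≠ 1 :=
    (bot_or_exists_ne_one _).resolve_left fun e => by
      have := (h.1 T).1; rw [e, card_bot] at this; omega
  obtain ⟨c⟩ := h.co (h.ord T ht ht1)
  exact c.self (h.1 T) ht hx

theorem IsJR.nonabelian (h : IsJR K) : ¬ IsMulCommutative K := fun hc => by
  obtain ⟨T⟩ : Nonempty (Sylow 2 K) := inferInstance
  obtain ⟨t, ht, ht1⟩ : ∃ t ∈ (T : Subgroup K), t ≠ 1 :=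
    (bot_or_exists_ne_one _).resolve_left fun e => by
      have := (h.1 T).1; rw [e, card_bot] at this; omega
  obtain ⟨c⟩ := h.co (h.ord T ht ht1)
  exact c.psl_nonabelian ⟨⟨fun a b => c.ι_inj (by rw [map_mul, map_mul]; exact hc.is_comm.comm _ _)⟩⟩

variable [IsSimpleGroup K]

/-- The centralisers of the involutions of `T` generate. -/
theorem IsJR.gen (h : IsJR K) (T : Sylow 2 K) {M : Subgroup K}
    (hM : ∀ v ∈ (T : Subgroup K), v ≠ 1 → centralizer ({v} : Set K) ≤ M) : M = ⊤ := by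
  haveI : Fact (Nat.Prime 2) := ⟨Nat.prime_two⟩
  obtain ⟨t, ht, ht1⟩ : ∃ t ∈ (T : Subgroup K), t ≠ 1 :=
    (bot_or_exists_ne_one _).resolve_left fun e => by
      have := (h.1 T).1; rw [e, card_bot] at this; omega
  obtain ⟨c⟩ := h.co (h.ord T ht ht1)
  haveI : IsMulCommutative (T : Subgroup K) := ⟨⟨fun a b => Subtype.ext ((h.selfCent T).comm a.2 b.2)⟩⟩
  have htr := E8Solv.transitive (S := T) (fun H hH => by
    haveI : H.Normal := normal_of_index_eq_two hH
    rcases IsSimpleGroup.eq_bot_or_eq_top_of_normal H inferInstance with rfl | rfl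
    · rw [index_bot] at hH
      have := Nat.le_of_dvd (by omega) (hH ▸ card_subgroup_dvd_card (T : Subgroup K))
      have := (h.1 T).1
      omega
    · rw [index_top] at hH; omega) (h.1 T).1
  refine gen_of_not_closed T (by rw [(h.1 T).1]; norm_num) (h.1 T).2 htr ht ht1 (fun hcl => ?_) hM
  haveI := c.psl_simple
  haveI hn : (c.PT (h.1 T) ht : Subgroup PSL₂[c.F]).Normal := ⟨fun p hp g => by
    rw [c.mem_PT (h.1 T) ht, map_mul, map_mul, map_inv]
    exact hcl _ (c.ι_mem g) _ ((c.mem_PT (h.1 T) ht p).mp hp)⟩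
  rcases IsSimpleGroup.eq_bot_or_eq_top_of_normal _ hn with e | e
  · have := (c.good_PT (h.1 T) ht).four; rw [e, card_bot] at this; omega
  · exact c.psl_nonabelian ⟨⟨fun a b => (c.good_PT (h.1 T) ht).selfCent.comm (e ▸ mem_top a) (e ▸ mem_top b)⟩⟩

/-- An automorphism fixing `C(t)` pointwise is `1` or conjugation by `t`. -/
theorem IsJR.fix_cent (h : IsJR K) {T : Sylow 2 K} {t : K} (ht : t ∈ (T : Subgroup K)) (c : Co t) {φ : MulAut K}
    (hfix : φ t = t) (hι : ∀ x, φ (c.ι x) = c.ι x) : φ = 1 ∨ φ = MulAut.conj t := by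
  have hsc := h.selfCent T
  have hC : ∀ g : K, g * t = t * g → φ g = g := fun g hg => by
    obtain ⟨x, rfl | rfl⟩ := c.decomp' hg
    · exact hι x
    · rw [map_mul, hfix, hι]
  obtain ⟨s, hs, hsn⟩ := hsc.exists_conj_on_normalizer φ fun x hx =>
    hC x (hsc.comm hx ht)
  obtain ⟨n, hn, ⟨x, hx⟩, hcent⟩ := c.exists_fpf (h.1 T) ht
  have hs' : s = 1 ∨ s = t := by
    refine hcent s hs ?_
    have h1 := hsn n hn
    rw [← hx, hι, hx] at h1
    exact (mul_inv_eq_iff_eq_mul.mp h1.symm)
  have hsC : ∀ g : K, g * t = t * g → s * g * s⁻¹ = g := fun g hg => by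
    rcases hs' with rfl | rfl
    · group
    · rw [← hg, mul_inv_cancel_right]
  set ψ := (MulAut.conj s)⁻¹ * φ with hψ
  have hψC : ∀ g : K, g * t = t * g → ψ g = g := fun g hg => by
    show (MulAut.conj s)⁻¹ (φ g) = g
    rw [hC g hg, MulAut.conj_inv_apply]
    calc s⁻¹ * g * s = s⁻¹ * (s * g * s⁻¹) * s := by rw [hsC g hg]
      _ = g := by group
  have hψN : ∀ m ∈ normalizer ((T : Subgroup K) : Set K), ψ m = m := fun m hm => by
    show (MulAut.conj s)⁻¹ (φ m) = m
    rw [hsn m hm, MulAut.conj_inv_apply]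
    group
  haveI : IsMulCommutative (T : Subgroup K) := ⟨⟨fun a b => Subtype.ext (hsc.comm a.2 b.2)⟩⟩
  have htr := E8Solv.transitive (S := T) (fun H hH => by
    haveI : H.Normal := normal_of_index_eq_two hH
    rcases IsSimpleGroup.eq_bot_or_eq_top_of_normal H inferInstance with rfl | rfl
    · rw [index_bot] at hH
      have := Nat.le_of_dvd (by omega) (hH ▸ card_subgroup_dvd_card (T : Subgroup K))
      have := (h.1 T).1
      omega
    · rw [index_top] at hH; omega) (h.1 T).1
  have hM : (ψ.toMonoidHom.eqLocus (MonoidHom.id K)) = ⊤ := by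
    refine h.gen T fun v hv hv1 g hg => ?_
    obtain ⟨m, hm, hmv⟩ := htr t ht v hv c.t_ne hv1
    have h1 : m⁻¹ * g * m * t = t * (m⁻¹ * g * m) := by
      have e := mem_centralizer_singleton_iff.mp hg
      rw [← hmv] at e
      calc m⁻¹ * g * m * t = m⁻¹ * (g * (m * t * m⁻¹)) * m := by group
        _ = t * (m⁻¹ * g * m) := by rw [e]; group
    show ψ g = g
    calc ψ g = ψ (m * (m⁻¹ * g * m) * m⁻¹) := by rw [show m * (m⁻¹ * g * m) * m⁻¹ = g by group]
      _ = g := by rw [map_mul, map_mul, map_inv, hψN m hm, hψC _ h1]; group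
  have hψ1 : ψ = 1 := MulEquiv.ext fun g => (SetLike.ext_iff.mp hM g).mpr (mem_top g)
  have he : φ = MulAut.conj s := (inv_mul_eq_one.mp (hψ ▸ hψ1)).symm
  rcases hs' with e | e
  · exact Or.inl (by rw [he, e, map_one])
  · exact Or.inr (by rw [he, e])

/-- A group of Janko–Ree type is good. -/
theorem IsJR.good (h : IsJR K) (T : Sylow 2 K) : Good T := by
  classical
  haveI : Fact (Nat.Prime 2) := ⟨Nat.prime_two⟩
  have hsc := h.selfCent T
  haveI : IsMulCommutative (T : Subgroup K) := ⟨⟨fun a b => Subtype.ext (hsc.comm a.2 b.2)⟩⟩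
  obtain ⟨t, ht, ht1⟩ : ∃ t ∈ (T : Subgroup K), t ≠ 1 :=
    (bot_or_exists_ne_one _).resolve_left fun e => by
      have := (h.1 T).1; rw [e, card_bot] at this; omega
  refine ⟨hsc, by rw [(h.1 T).1]; norm_num, ?_, fun φ j hj hfix => ?_, fun _ u hu hu1 Y hY hfix hnorm => ?_⟩
  · -- an element of order seven
    set N := normalizer ((T : Subgroup K) : Set K)
    have htr := E8Solv.transitive (S := T) (fun H hH => by
      haveI : H.Normal := normal_of_index_eq_two hH
      rcases IsSimpleGroup.eq_bot_or_eq_top_of_normal H inferInstance with rfl | rfl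
      · rw [index_bot] at hH
        have := Nat.le_of_dvd (by omega) (hH ▸ card_subgroup_dvd_card (T : Subgroup K))
        have := (h.1 T).1
        omega
      · rw [index_top] at hH; omega) (h.1 T).1
    letI act : MulAction N K := MulAction.compHom K ((MulAut.conj : K →* MulAut K).comp N.subtype)
    have hsm : ∀ (n : N) (x : K), n • x = (n : K) * x * (n : K)⁻¹ := fun n x => rfl
    have horb : MulAction.orbit N t = ((T : Subgroup K) : Set K) \ {1} := by
      ext x
      constructor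
      · rintro ⟨n, rfl⟩
        show n • t ∈ _
        rw [hsm]
        exact ⟨(mem_normalizer_iff.mp n.2 t).mp ht, fun e => ht1 (conj_eq_one_iff.mp e)⟩
      · rintro ⟨hx, hx1⟩
        obtain ⟨n, hn, e⟩ := htr t ht x hx ht1 hx1
        exact ⟨⟨n, hn⟩, e⟩
    have h7 : 7 ∣ Nat.card N := by
      have h1 := MulAction.index_stabilizer N t
      rw [horb, Set.ncard_diff_singleton_of_mem (one_mem _), ← Nat.card_coe_set_eq,
        show Nat.card ((T : Subgroup K) : Set K) = 8 from (h.1 T).1] at h1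
      exact (dvd_of_eq h1.symm).trans (index_dvd_card _)
    haveI : Fact (Nat.Prime 7) := ⟨by norm_num⟩
    obtain ⟨k, hk⟩ := exists_prime_orderOf_dvd_card' 7 h7
    set L := zpowers k
    have hL : IsPGroup 7 L := IsPGroup.of_card (n := 1) (by rw [Nat.card_zpowers, hk, pow_one])
    letI : MulAction L (T : Subgroup K) :=
      { smul := fun n x => ⟨(n : N) • (x : K), (mem_normalizer_iff.mp (n : N).2 x).mp x.2⟩
        one_smul := fun x => Subtype.ext (one_smul N (x : K))
        mul_smul := fun a b x => Subtype.ext (mul_smul (a : N) (b : N) (x : K)) }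
    let Fx : Subgroup K := (T : Subgroup K) ⊓ centralizer ({(k : K)} : Set K)
    have hfix : ∀ x : (T : Subgroup K), x ∈ MulAction.fixedPoints L (T : Subgroup K) ↔ (x : K) ∈ Fx := fun x => by
      constructor
      · intro hx
        refine ⟨x.2, mem_centralizer_singleton_iff.mpr ?_⟩
        have := congrArg Subtype.val (hx ⟨k, mem_zpowers k⟩)
        change (k : K) * x * (k : K)⁻¹ = x at this
        exact (mul_inv_eq_iff_eq_mul.mp this).symm
      · rintro hx ⟨n, i, rfl⟩
        refine Subtype.ext ?_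
        show ((k ^ i : N) : K) * x * ((k ^ i : N) : K)⁻¹ = x
        rw [coe_zpow, ((show Commute (k : K) x from (mem_centralizer_singleton_iff.mp hx.2).symm).zpow_left i).eq,
          mul_inv_cancel_right]
    have hmod := hL.card_modEq_card_fixedPoints (T : Subgroup K)
    rw [show Nat.card (MulAction.fixedPoints L (T : Subgroup K)) = Nat.card Fx from Nat.card_congr
      { toFun := fun x => ⟨(x : (T : Subgroup K)), (hfix _).mp x.2⟩
        invFun := fun y => ⟨⟨y, y.2.1⟩, (hfix _).mpr y.2⟩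
        left_inv := fun _ => rfl
        right_inv := fun _ => rfl }, (h.1 T).1] at hmod
    have hdvd : Nat.card Fx ∣ 8 := (h.1 T).1 ▸ card_dvd_of_le inf_le_left
    have hne8 : Nat.card Fx ≠ 8 := fun e => by
      have he : Fx = (T : Subgroup K) := eq_of_le_of_card_ge inf_le_left (by rw [e, (h.1 T).1])
      have hkT : (k : K) ∈ (T : Subgroup K) := hsc.self _ fun y hy =>
        (mem_centralizer_singleton_iff.mp ((he.ge hy).2)).symm
      have := orderOf_dvd_natCard (T : Subgroup K) hkT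
      rw [Subgroup.orderOf_coe, hk, (h.1 T).1] at this
      omega
    have hF1 : Nat.card Fx = 1 := by
      unfold Nat.ModEq at hmod
      obtain ⟨i, hi, e⟩ := (Nat.dvd_prime_pow Nat.prime_two (m := 3)).mp hdvd
      interval_cases i <;> simp [e] at hmod hne8 ⊢
    have hFb : ∀ x ∈ (T : Subgroup K), (k : K) * x = x * k → x = 1 := fun x hx hkx =>
      mem_bot.mp ((eq_bot_of_card_eq Fx hF1) ▸ ⟨hx, mem_centralizer_singleton_iff.mpr hkx.symm⟩)
    refine ⟨k, k.2, fun x hx hx1 y hy hy1 => ?_⟩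
    let g : Fin 7 → {y : K // y ∈ (T : Subgroup K) ∧ y ≠ 1} := fun i => ⟨(k : K) ^ (i : ℕ) * x * ((k : K) ^ (i : ℕ))⁻¹,
      (mem_normalizer_iff.mp (pow_mem k.2 _) x).mp hx, fun e => hx1 (conj_eq_one_iff.mp e)⟩
    have hk' : orderOf (k : K) = 7 := by rw [Subgroup.orderOf_coe, hk]
    have hinj : Function.Injective g := fun a b hab => by
      by_contra hne
      have e := congrArg Subtype.val hab
      change (k : K) ^ (a : ℕ) * x * ((k : K) ^ (a : ℕ))⁻¹ = (k : K) ^ (b : ℕ) * x * ((k : K) ^ (b : ℕ))⁻¹ at e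
      have e1 : ((k : K) ^ (a : ℕ))⁻¹ * (k : K) ^ (b : ℕ) ∈ centralizer ({x} : Set K) :=
        mem_centralizer_singleton_iff.mpr (by
          calc ((k : K) ^ (a : ℕ))⁻¹ * (k : K) ^ (b : ℕ) * x
              = ((k : K) ^ (a : ℕ))⁻¹ * ((k : K) ^ (b : ℕ) * x * ((k : K) ^ (b : ℕ))⁻¹) * (k : K) ^ (b : ℕ) := by
                group
            _ = x * (((k : K) ^ (a : ℕ))⁻¹ * (k : K) ^ (b : ℕ)) := by rw [← e]; group)
      set z := ((k : K) ^ (a : ℕ))⁻¹ * (k : K) ^ (b : ℕ) with hz
      have hzL : z ∈ zpowers (k : K) := mul_mem (inv_mem (pow_mem (mem_zpowers _) _)) (pow_mem (mem_zpowers _) _)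
      have hdz : Nat.card (zpowers z) ∣ 7 := by
        have h1 := card_dvd_of_le (zpowers_le.mpr hzL)
        rwa [show Nat.card (zpowers (k : K)) = 7 by rw [Nat.card_zpowers, hk']] at h1
      rcases (show Nat.Prime 7 by norm_num).eq_one_or_self_of_dvd _ hdz with h1 | h1
      · exact hne (Fin.ext (pow_injOn_Iio_orderOf (x := (k : K)) (by rw [hk']; exact a.2) (by rw [hk']; exact b.2)
          (inv_mul_eq_one.mp (zpowers_eq_bot.mp (eq_bot_of_card_eq _ h1)))))
      · have h2 : zpowers z = zpowers (k : K) := eq_of_le_of_card_ge (zpowers_le.mpr hzL)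
          (by rw [h1, Nat.card_zpowers, hk'])
        exact hx1 (hFb x hx (mem_centralizer_singleton_iff.mp ((zpowers_le.mpr e1) (h2.ge (mem_zpowers _)))))
    have hcard : Nat.card {y : K // y ∈ (T : Subgroup K) ∧ y ≠ 1} = 7 := by
      rw [show Nat.card {y : K // y ∈ (T : Subgroup K) ∧ y ≠ 1} = (((T : Subgroup K) : Set K) \ {1}).ncard from rfl,
        Set.ncard_diff_singleton_of_mem (one_mem _), ← Nat.card_coe_set_eq,
        show Nat.card ((T : Subgroup K) : Set K) = 8 from (h.1 T).1]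
    obtain ⟨i, hi⟩ := ((Nat.bijective_iff_injective_and_card g).mpr ⟨hinj, by rw [hcard, Nat.card_fin]⟩).2 ⟨y, hy, hy1⟩
    exact ⟨i, congrArg Subtype.val hi⟩
  · -- inner
    obtain ⟨c⟩ := h.co (h.ord T ht ht1)
    let φ' : MulAction.stabilizer (MulAut K) t := ⟨φ, MulAction.mem_stabilizer_iff.mpr (hfix t ht)⟩
    obtain ⟨q, hq, he⟩ := (c.good_PT (h.1 T) ht).inner (c.res φ') j
      (by rw [← map_pow, show φ' ^ 2 ^ j = 1 from Subtype.ext hj, map_one])
      fun p hp => c.ι_inj (by rw [c.ι_res]; exact hfix _ ((c.mem_PT (h.1 T) ht p).mp hp))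
    have hqT := (c.mem_PT (h.1 T) ht q).mp hq
    set ψ := (MulAut.conj (c.ι q))⁻¹ * φ with hψ
    have h1 := h.fix_cent ht c (φ := ψ) ?_ fun x => ?_
    · rcases h1 with e | e
      · exact ⟨_, hqT, by rw [← mul_one (MulAut.conj (c.ι q)), ← e, hψ, mul_inv_cancel_left]⟩
      · exact ⟨c.ι q * t, mul_mem hqT ht, by rw [map_mul, ← e, hψ, mul_inv_cancel_left]⟩
    · show (MulAut.conj (c.ι q))⁻¹ (φ t) = t
      rw [hfix t ht, MulAut.conj_inv_apply, mul_assoc, ← c.ι_comm, inv_mul_cancel_left]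
    · show (MulAut.conj (c.ι q))⁻¹ (φ (c.ι x)) = c.ι x
      have e := c.ι_res φ' x
      rw [he, MulAut.conj_apply, map_mul, map_mul, map_inv] at e
      rw [show φ (c.ι x) = _ from e.symm, MulAut.conj_inv_apply]
      group
  · -- core
    obtain ⟨c⟩ := h.co (h.ord T hu hu1)
    haveI := c.psl_simple
    let Y' : Subgroup (MulAction.stabilizer (MulAut K) u) := Y.subgroupOf _
    have hY' : Y'.map c.res = ⊥ := by
      refine odd_normalised_eq_bot c.psl_nonabelian ?_ _ (hY.of_dvd_nat ?_) fun x φ' hφ' => ?_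
      · have h1 := (c.good_PT (h.1 T) hu).four
        obtain ⟨p, hp, hp1⟩ := (bot_or_exists_ne_one (c.PT (h.1 T) hu : Subgroup PSL₂[c.F])).resolve_left
          fun e => by rw [e, card_bot] at h1; omega
        exact (dvd_of_eq (orderOf_eq_prime (p := 2) (by rw [pow_two]; exact (c.good_PT (h.1 T) hu).selfCent.sq p hp)
          hp1).symm).trans (_root_.orderOf_dvd_natCard p)
      · refine (card_map_dvd _ _).trans (dvd_of_eq (Nat.card_congr (subgroupOfEquivOfLe fun φ hφ => ?_).toEquiv))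
        exact MulAction.mem_stabilizer_iff.mpr (hfix φ hφ)
      · obtain ⟨φ, hφ, rfl⟩ := hφ'
        have hcx : MulAut.conj (c.ι x) ∈ MulAction.stabilizer (MulAut K) u := MulAction.mem_stabilizer_iff.mpr (by
          show c.ι x * u * (c.ι x)⁻¹ = u
          rw [c.ι_comm, mul_inv_cancel_right])
        have hres : c.res ⟨_, hcx⟩ = MulAut.conj x := MulEquiv.ext fun y => c.ι_inj (by
          rw [c.ι_res]
          show c.ι x * c.ι y * (c.ι x)⁻¹ = c.ι (x * y * x⁻¹)
          rw [map_mul, map_mul, map_inv])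
        refine ⟨⟨_, hcx⟩ * φ * ⟨_, hcx⟩⁻¹, hnorm _ (c.ι_comm x) _ hφ, ?_⟩
        rw [map_mul, map_mul, map_inv, hres]
    refine (eq_bot_iff_forall _).mpr fun φ hφ => ?_
    let φ' : MulAction.stabilizer (MulAut K) u := ⟨φ, MulAction.mem_stabilizer_iff.mpr (hfix φ hφ)⟩
    have h1 : c.res φ' = 1 := mem_bot.mp (hY' ▸ mem_map_of_mem c.res (show φ' ∈ Y' from hφ))
    have ho : Odd (orderOf φ) := hY.of_dvd_nat (orderOf_dvd_natCard _ hφ)
    rcases h.fix_cent hu c (φ := φ) (hfix φ hφ) (fun x => by rw [← c.ι_res φ', h1, MulAut.one_apply]) with e | e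
    · exact e
    · exact eq_one_of_odd_conj (h.sq T hu) e ho

/-- A perfect group of automorphisms fixing part of `T` is trivial, except over one involution. -/
theorem IsJR.perfect_fix (h : IsJR K) {T : Sylow 2 K} {W : Subgroup K} (hWT : W ≤ (T : Subgroup K)) (hW : W ≠ ⊥)
    {X : Type v} [Group X] (hX : commutator X = ⊤) (f : X →* MulAut K) (hf : ∀ x, ∀ w ∈ W, f x w = w) :
    f = 1 ∨ (Nat.card W = 2 ∧ ¬ 8 ∣ Nat.card f.range) := by
  haveI : Fact (Nat.Prime 2) := ⟨Nat.prime_two⟩
  obtain ⟨t, htW, ht1⟩ := (bot_or_exists_ne_one W).resolve_left hW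
  have ht := hWT htW
  obtain ⟨c⟩ := h.co (h.ord T ht ht1)
  let fs : X →* MulAction.stabilizer (MulAut K) t := f.codRestrict _ fun x =>
    MulAction.mem_stabilizer_iff.mpr (hf x t htW)
  have hker : ∀ φ : MulAction.stabilizer (MulAut K) t, c.res φ = 1 →
      (φ : MulAut K) = 1 ∨ (φ : MulAut K) = MulAut.conj t := fun φ hφ =>
    h.fix_cent ht c (Co.stab_t φ) fun x => by rw [← c.ι_res, hφ, MulAut.one_apply]
  by_cases hW2 : Nat.card W = 2
  · refine Or.inr ⟨hW2, ?_⟩
    haveI := psl_out_solvable (F := c.F)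
    have hinn := hom_eq_one_of_solvable hX
      ((QuotientGroup.mk' (MulAut.conj (G := PSL₂[c.F])).range).comp (c.res.comp fs))
    have hconj : ∀ x, f x ∈ (centralizer ({t} : Set K)).map (MulAut.conj (G := K)) := fun x => by
      obtain ⟨y, hy⟩ := (QuotientGroup.eq_one_iff _).mp (DFunLike.congr_fun hinn x)
      change MulAut.conj y = c.res (fs x) at hy
      have hcy : MulAut.conj (c.ι y) ∈ MulAction.stabilizer (MulAut K) t := MulAction.mem_stabilizer_iff.mpr (by
        show c.ι y * t * (c.ι y)⁻¹ = t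
        rw [c.ι_comm, mul_inv_cancel_right])
      have hres : c.res ⟨_, hcy⟩ = MulAut.conj y := MulEquiv.ext fun z => c.ι_inj (by
        rw [c.ι_res]
        show c.ι y * c.ι z * (c.ι y)⁻¹ = c.ι (y * z * y⁻¹)
        rw [map_mul, map_mul, map_inv])
      rcases hker (⟨_, hcy⟩⁻¹ * fs x) (by rw [map_mul, map_inv, hres, hy, inv_mul_cancel]) with e | e
      · refine ⟨c.ι y, c.ι_mem y, ?_⟩
        change (MulAut.conj (c.ι y))⁻¹ * f x = 1 at e
        exact inv_mul_eq_one.mp e
      · refine ⟨c.ι y * t, mul_mem (c.ι_mem y) (mem_centralizer_singleton_iff.mpr rfl), ?_⟩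
        change (MulAut.conj (c.ι y))⁻¹ * f x = MulAut.conj t at e
        rw [map_mul, ← e, mul_inv_cancel_left]
    have hinjK : Function.Injective (MulAut.conj (G := K)) := by
      rw [← MonoidHom.ker_eq_bot_iff]
      refine (IsSimpleGroup.eq_bot_or_eq_top_of_normal _ inferInstance).resolve_right fun e => h.nonabelian ?_
      refine ⟨⟨fun a b => ?_⟩⟩
      have := DFunLike.congr_fun (MonoidHom.mem_ker.mp (e ▸ mem_top a : a ∈ (MulAut.conj (G := K)).ker)) b
      rwa [MulAut.conj_apply, MulAut.one_apply, mul_inv_eq_iff_eq_mul] at this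
    set E := (centralizer ({t} : Set K)).equivMapOfInjective (MulAut.conj (G := K)) hinjK
    let g : X →* centralizer ({t} : Set K) := E.symm.toMonoidHom.comp (f.codRestrict _ hconj)
    have hg : ∀ x, f x = MulAut.conj (g x : K) := fun x => by
      have h2 := congrArg Subtype.val (E.apply_symm_apply ⟨f x, hconj x⟩)
      rw [show (E (E.symm ⟨f x, hconj x⟩) : MulAut K) = MulAut.conj (E.symm ⟨f x, hconj x⟩ : K) from rfl] at h2
      exact h2.symm
    have hrange : f.range = (c.π.comp g).range.map ((MulAut.conj (G := K)).comp c.ι) := by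
      rw [MonoidHom.map_range]
      refine congrArg MonoidHom.range (MonoidHom.ext fun x => ?_)
      show f x = MulAut.conj (c.ι (c.π (g x)))
      rw [← c.hom_eq hX g x, hg]
    rw [hrange, card_map_of_injective (show Function.Injective ((MulAut.conj (G := K)).comp c.ι) from hinjK.comp c.ι_inj)]
    exact fun h8 => not_eight_dvd c.hq (h8.trans (card_subgroup_dvd_card _))
  · left
    obtain ⟨w, hw, hwne⟩ : ∃ w ∈ W, w ∉ zpowers t := by
      by_contra! hh
      have h1 : W = zpowers t := le_antisymm hh (zpowers_le.mpr htW)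
      exact hW2 (by rw [h1, Nat.card_zpowers, h.ord T ht ht1])
    obtain ⟨p, hp, e⟩ := c.mem_T_cases (h.1 T) ht (hWT hw)
    have hp1 : p ≠ 1 := fun hp1 => by
      rw [hp1, map_one] at e
      rcases e with e | e
      · exact hwne (e ▸ one_mem _)
      · exact hwne (by rw [e, mul_one]; exact mem_zpowers t)
    haveI := solvStab_odd c.hq p hp1 ((c.good_PT (h.1 T) ht).selfCent.sq p hp)
    have hfp : ∀ x, c.res (fs x) p = p := fun x => c.ι_inj (by
      rw [c.ι_res]
      rcases e with e | e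
      · rw [← e]; exact hf x w hw
      · rw [show c.ι p = t * w by rw [e, ← mul_assoc, c.tt, one_mul]]
        exact (map_mul (f x) t w).trans (by rw [hf x t htW, hf x w hw]))
    let g : X →* MulAction.stabilizer (MulAut PSL₂[c.F]) p := (c.res.comp fs).codRestrict _ fun x =>
      MulAction.mem_stabilizer_iff.mpr (hfp x)
    have hg := hom_eq_one_of_solvable hX g
    have hf' : ∀ x, f x ∈ zpowers (MulAut.conj t) := fun x => by
      rcases hker (fs x) (congrArg Subtype.val (DFunLike.congr_fun hg x)) with e | e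
      · exact (show f x = 1 from e) ▸ one_mem _
      · exact (show f x = MulAut.conj t from e) ▸ mem_zpowers _
    haveI : Group.IsSolvable (zpowers (MulAut.conj t)) := Group.isSolvable_of_comm fun a b => by
      obtain ⟨i, hi⟩ := mem_zpowers_iff.mp a.2
      obtain ⟨j, hj⟩ := mem_zpowers_iff.mp b.2
      exact Subtype.ext (by rw [coe_mul, coe_mul, ← hi, ← hj, ← zpow_add, ← zpow_add, add_comm])
    exact MonoidHom.ext fun x => congrArg Subtype.val (DFunLike.congr_fun (hom_eq_one_of_solvable hX (f.codRestrict _ hf')) x)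

omit [Finite K] [IsSimpleGroup K] in
/-- The type is invariant under isomorphism. -/
theorem IsJR.congr {K' : Type v} [Group K'] (h : IsJR K) (e : K ≃* K') : IsJR K' := by
  refine ⟨fun T => ?_, fun t ht => ?_⟩
  · let T' : Sylow 2 K := T.comapOfInjective e.toMonoidHom e.injective fun y _ => ⟨e.symm y, e.apply_symm_apply y⟩
    have hT : (T' : Subgroup K).map e.toMonoidHom = (T : Subgroup K') :=
      map_comap_eq_self_of_surjective e.surjective _
    rw [← hT]
    refine ⟨?_, ?_⟩
    · rw [card_map_of_injective (f := e.toMonoidHom) e.injective]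
      exact (h.1 T').1
    · rintro _ ⟨x, hx, rfl⟩
      rw [← map_mul, (h.1 T').2 x hx, map_one]
  · obtain ⟨F, iF, iFt, hc, ⟨f⟩⟩ := h.2 (e.symm t) (by rw [e.symm.orderOf_eq, ht])
    refine ⟨F, iF, iFt, hc, ⟨MulEquiv.trans ?_ f⟩⟩
    refine (e.symm.subgroupMap _).trans (MulEquiv.subgroupCongr ?_)
    ext x
    rw [mem_centralizer_singleton_iff]
    constructor
    · rintro ⟨y, hy, rfl⟩
      show e.symm y * e.symm t = e.symm t * e.symm y
      rw [← map_mul, ← map_mul, mem_centralizer_singleton_iff.mp hy]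
    · intro hx
      refine ⟨e x, mem_centralizer_singleton_iff.mpr ?_, e.symm_apply_apply x⟩
      simpa using congrArg e hx

end CfsgLib.WalterAb
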