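import Cfsg.Agent.Lib.Walter.Ab.KK

/-!
Many blocks meeting pairwise: contradiction.

Blueprint: `blueprint/Walter.md`, "S0506 audit" (Many).
-/

set_option autoImplicit false
set_option linter.unusedSectionVars false
set_option linter.style.haveILetI false

namespace CfsgLib.WalterAb

open Cfsg Subgroup CfsgLib CfsgLib.Comp CfsgLib.AfterFT.CoreSep CfsgLib.Signalizer
open scoped commutatorElement
open CfsgLib.S3Simple (Closed Blocked blockD mem_blockD blockD_le self_mem_blockD imA mem_imA KK KK_le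
  central_component_le)
open CfsgLib.S3Simple.Many (gen)

universe u

variable {G : Type u} [Group G] [Finite G] {S : Sylow 2 G} {A : Subgroup G}

theorem ne_top_of_odd (hA : Closed S A) {W : Subgroup G} (hW : Odd (Nat.card W)) : W ≠ ⊤ :=
  CfsgLib.S3Simple.Closed.ne_top_of_odd hA hW

/-- A component moved by `A` gives a block. -/
theorem blocked_of_moved (hA : Closed S A) {a : G} (ha : a ∈ A) (ha1 : a ≠ 1) {E : Subgroup (qq a)}
    (hE : IsComponent E) (hc : ¬ imA A a ≤ centralizer (E : Set (qq a))) : Blocked A (blockD A a E) := by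
  refine ⟨fun e0 => hc ?_, a, ha, ha1, E, hE, rfl⟩
  rintro _ ⟨⟨x, hx⟩, hxA, rfl⟩
  exact ((mem_blockD hx).mp (e0.symm ▸ hxA)).2

/-- Many blocks, meeting pairwise, all of order at least sixteen. -/
theorem Hyp.false_of_many (h : Hyp G) (hA : Closed S A) (h32 : 32 ≤ Nat.card A)
    (hbig : ∀ D, Blocked A D → 16 ≤ Nat.card D)
    (hmeet : ∀ D D', Blocked A D → Blocked A D' → D ⊓ D' ≠ ⊥) (hex : ∃ D, Blocked A D) : False := by
  classical
  haveI : Fact (Nat.Prime 2) := ⟨Nat.prime_two⟩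
  haveI := h.simple
  have h16 : 16 ≤ Nat.card A := by omega
  by_cases hW : gen 2 A = ⊥
  swap
  · refine h.false_of_le hA (h.normalizer_ne_top hW (ne_top_of_odd hA (h.odd_gen hA h32)))
      fun a ha ha1 => h.cc_le hA ha ha1 (h.core_le_normalizer_gen hA h32 ha)
        (inf_le_left.trans (Hyp.normalizer_le_normalizer_gen hA)) fun E hE => ?_
    by_cases hc : imA A a ≤ centralizer (E : Set (qq a))
    · exact central_component_le hA ha hc (inf_le_left.trans (Hyp.normalizer_le_normalizer_gen hA))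
    obtain ⟨P, -, hPD, -, hPE⟩ := exists_cover hA ha hE (blockD_le a E) fun x hx hxc => ((mem_blockD hxc).mp hx).2
    rw [← hPE]
    exact map_mono (comap_mono (hPD.trans
      (h.centralizer_le_normalizer_gen hA (blockD_le a E) (hbig _ (blocked_of_moved hA ha ha1 hE hc)))))
  have hsep : ∀ D, MinBlk A D → ∀ d ∈ D, d ≠ 1 → ∀ E : Subgroup (qq d), IsComponent E → blockD A d E = D →
      SepAt A d E := by
    intro D hD d hd hd1 E hE hb b hb0 hb1 F hF hne
    obtain ⟨D', hD'le, hD'⟩ := exists_min_le (show Blocked A (blockD A b F) from ⟨hne, b, hb0, hb1, F, hF, rfl⟩)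
    by_cases he : D' = D
    · exact Or.inl (hD'le (he.symm ▸ hd))
    obtain ⟨k, hk, -⟩ := h.exists_block' hA (hD.1.le hd) hd1 hE (hb ▸ hD.1.1)
    rw [hb] at hk
    exact Or.inr ((h.le_of_meet hA hD' hD he (hmeet _ _ hD'.1 hD.1) hk).trans hD'le)
  -- what normalises every perfect group
  set N : Subgroup G := ⨅ D : {D : Subgroup G // MinBlk A D}, normalizer (KK A (D : Subgroup G) : Set G) with hN
  set total : Subgroup G := ⨆ D : {D : Subgroup G // MinBlk A D}, KK A (D : Subgroup G) with htot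
  set M := normalizer (total : Set G) with hM
  have hle : ∀ D, MinBlk A D → KK A D ≤ total := fun D hD =>
    le_iSup (fun D : {D : Subgroup G // MinBlk A D} => KK A (D : Subgroup G)) ⟨D, hD⟩
  have hNM : N ≤ M := fun x hx => mem_normalizer_of_maps fun y hy => by
    have h1 : total ≤ total.comap (MulAut.conj x).toMonoidHom := iSup_le fun D z hz =>
      hle _ D.2 ((mem_normalizer_iff.mp (mem_iInf.mp hx D) z).mp hz)
    exact h1 hy
  have hNA : normalizer (A : Set G) ≤ M := fun g hg => mem_normalizer_of_maps fun y hy => by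
    have h1 : total ≤ total.comap (MulAut.conj g).toMonoidHom := iSup_le fun D z hz =>
      hle _ (D.2.conj hA hg) (h.conj_mem_KK hA D.2 hg hz)
    exact h1 hy
  -- the perfect groups commute
  have hcomm : ∀ D D', MinBlk A D → MinBlk A D' → D ≠ D' → ⁅KK A D, KK A D'⁆ = ⊥ := by
    intro D D' hD hD' hne
    obtain ⟨d, hd, hd1⟩ := (D ⊓ D').bot_or_exists_ne_one.resolve_left (hmeet D D' hD.1 hD'.1)
    obtain ⟨E, hE, hb⟩ := hD.exists_at h hA hd.1 hd1
    obtain ⟨E', hE', hb'⟩ := hD'.exists_at h hA hd.2 hd1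
    exact h.commute_KK hA h16 hW hD hD' hne hd.1 hd.2 hd1 hE hb (hsep D hD d hd.1 hd1 E hE hb) hE' hb'
      (hsep D' hD' d hd.2 hd1 E' hE' hb')
  obtain ⟨D₁, hD₁⟩ : ∃ D, MinBlk A D := hex.elim fun D hD => (exists_min_le hD).imp fun _ hx => hx.2
  have hbot : total ≠ ⊥ := fun e => h.KK_ne_bot hA hD₁ (le_bot_iff.mp (e ▸ hle D₁ hD₁))
  have htop : total ≠ ⊤ := fun e => by
    have hn : total ≤ normalizer (KK A D₁ : Set G) := iSup_le fun D => by
      by_cases he : (D : Subgroup G) = D₁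
      · rw [he]; exact Subgroup.le_normalizer
      · exact (commutator_eq_bot_iff_le_centralizer.mp (hcomm _ _ D.2 hD₁ he)).trans (centralizer_le_normalizer' _)
    rw [e, top_le_iff] at hn
    obtain ⟨d, hd, hd1⟩ := D₁.bot_or_exists_ne_one.resolve_left hD₁.1.ne_bot
    rcases (normalizer_eq_top_iff.mp hn).eq_bot_or_eq_top with hb | ht
    · exact h.KK_ne_bot hA hD₁ hb
    · exact h.cc_ne_top hd1 (top_le_iff.mp (ht ▸ KK_le.trans (CfsgLib.S3Simple.centralizer_le_cc hd)))
  refine h.false_of_le hA (h.normalizer_ne_top hbot htop) fun a ha ha1 => h.cc_le hA ha ha1 ?_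
    (inf_le_left.trans hNA) fun G' hG' => ?_
  · -- the core
    have hodd : ¬ 2 ∣ Nat.card (centralizerPPrimeCore 2 a) := fun h2 =>
      Nat.not_odd_iff_even.mpr (even_iff_two_dvd.mpr h2) (odd_card_core a)
    rw [gen_index hA.elem hodd (fun x hx => cc_le_normalizer_core a (hA.mem_cc ha hx))]
    refine iSup_le fun ⟨H, hH, hHi⟩ x hx => ?_
    obtain ⟨hxO, hxH⟩ : x ∈ centralizerPPrimeCore 2 a ∧ x ∈ centralizer (H : Set G) := hx
    by_cases haH : a ∈ H
    swap
    · exact hNA (centralizer_le_normalizer' A (CfsgLib.S3Simple.mem_centralizer_of_hyperplane hH hHi ha haH hxH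
        (AfterFT.CoreSep.mem_cc.mp ((map_subtype_le _) hxO)).symm))
    have hxK : x ∈ coreC H := CfsgLib.S3Simple.core_inf_centralizer_le haH ⟨hxO, hxH⟩
    refine hNM (mem_iInf.mpr fun ⟨D, hD⟩ => ?_)
    obtain ⟨d, ⟨hdH, hdD⟩, hd1⟩ := (H ⊓ D).bot_or_exists_ne_one.resolve_left fun e => by
      have h1 := CfsgLib.S3Simple.card_mul_le_of_disjoint hH hD.1.le e
      have h2 := CfsgLib.S3Simple.card_le_two_mul hH hHi
      have h3 := hbig D hD.1
      have : 0 < Nat.card H := Nat.card_pos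
      nlinarith
    obtain ⟨E, hE, hb⟩ := hD.exists_at h hA hdD hd1
    have hdA := hD.1.le hdD
    have hHd : H ≤ cc d := fun y hy => hA.mem_cc hdA (hH hy)
    have hxd : x ∈ cc d := AfterFT.CoreSep.mem_cc.mpr (hxH d hdH).symm
    refine h.KK_norm hA h16 hW hD hdD hd1 hE hb (hsep D hD d hdD hd1 E hE hb) hxd ?_
    exact coreC_normalizes (pPrimeCore_quotient_eq_bot 2)
      (((hA.isPGroup.to_le hH).of_equiv (subgroupOfEquivOfLe hHd).symm).map _) hE
      (image_coreC hHd (hA.isPGroup.to_le hH) ⟨x, hxd⟩ hxK)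
  · -- the components
    by_cases hc : imA A a ≤ centralizer (G' : Set (qq a))
    · exact central_component_le hA ha hc (inf_le_left.trans hNA)
    have hbl := blocked_of_moved hA ha ha1 hG' hc
    obtain ⟨P, hP, hPD, -, hPE⟩ := exists_cover hA ha hG' (blockD_le a G') fun x hx hxc => ((mem_blockD hxc).mp hx).2
    rw [← hPE]
    refine map_mono (comap_mono ((le_iInf fun ⟨D, hD⟩ x hx => ?_ : P ≤ N).trans hNM))
    obtain ⟨d, ⟨hdD, hdG⟩, hd1⟩ := (D ⊓ blockD A a G').bot_or_exists_ne_one.resolve_left (hmeet _ _ hD.1 hbl)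
    obtain ⟨E, hE, hb⟩ := hD.exists_at h hA hdD hd1
    have hxd : x ∈ cc d := AfterFT.CoreSep.mem_cc.mpr (hPD hx d hdG).symm
    refine h.KK_norm hA h16 hW hD hdD hd1 hE hb (hsep D hD d hdD hd1 E hE hb) hxd ?_
    exact Comp.layer_le_normalizer_component hE
      (h.image_le_layer hA ha hG' hdG hd1 hP hPD hPE.le ⟨⟨x, hxd⟩, hx, rfl⟩)

end CfsgLib.WalterAb
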