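import Cfsg.Agent.Lib.Walter.Ab.Dispatch

/-!
`A₀ = Y × C` with `Y` irreducible of order eight and `|C| ≥ 8`: contradiction.

Blueprint: `blueprint/Walter.md`, "S0506 audit" (Red).
-/

set_option autoImplicit false
set_option linter.unusedSectionVars false
set_option linter.style.haveILetI false

namespace CfsgLib.WalterAb

open Cfsg Subgroup CfsgLib CfsgLib.Comp CfsgLib.AfterFT.CoreSep CfsgLib.Signalizer
open scoped commutatorElement
open CfsgLib.S3Simple (Closed Blocked IsBlock blockD mem_blockD blockD_le self_mem_blockD imA mem_imA oddSolv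
  KK KK_le central_component_le card_mul_le_of_disjoint block_le_sub)
open CfsgLib.S3Simple.Many (gen)

universe u

variable {G : Type u} [Group G] [Finite G] {S : Sylow 2 G} {A Y C D : Subgroup G}

/-- The data of the reduction. -/
structure Split (S : Sylow 2 G) (A Y C : Subgroup G) : Prop where
  hA : Closed S A
  hY : Closed S Y
  Y_le : Y ≤ A
  C_le : C ≤ A
  disjoint : Y ⊓ C = ⊥
  sup : Y ⊔ C = A
  inv : normalizer (A : Set G) ≤ normalizer (C : Set G)

namespace Split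

/-- A block of `A` not containing `Y` contains `C`. -/
theorem C_le_D (h : Hyp G) (hs : Split S A Y C) (hD : Blocked A D) {V : Subgroup G} {k : G}
    (hk : IsBlock A D V k) (hkc : ∀ x ∈ A, k * x * k⁻¹ * x⁻¹ ∈ V) (hnle : ¬ Y ≤ D) : C ≤ D := fun c hc => by
  refine mem_D_of_fixed hs.hA hk (hs.C_le hc) ?_
  have h1 : k * c * k⁻¹ * c⁻¹ ∈ Y ⊓ C :=
    ⟨block_le_sub hs.hA hs.hY hs.Y_le hk hkc hnle (hkc c (hs.C_le hc)),
      C.mul_mem ((mem_normalizer_iff.mp (hs.inv hk.norm) c).mp hc) (C.inv_mem hc)⟩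
  rw [hs.disjoint, mem_bot] at h1
  exact mul_inv_eq_one.mp h1

theorem Y_or_C (h : Hyp G) (hs : Split S A Y C) (hD : Blocked A D) : Y ≤ D ∨ C ≤ D := by
  obtain ⟨V, k, hk, hkc⟩ := h.exists_block hs.hA hD
  exact or_iff_not_imp_left.mpr fun hnle => hs.C_le_D h hD hk hkc hnle

theorem card_eq (hs : Split S A Y C) : Nat.card A = Nat.card Y * Nat.card C := by
  haveI : Fact (Nat.Prime 2) := ⟨Nat.prime_two⟩
  refine le_antisymm ?_ (card_mul_le_of_disjoint hs.Y_le hs.C_le hs.disjoint)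
  rw [← Nat.card_prod]
  refine Nat.card_le_card_of_surjective
    (fun p : Y × C => (⟨(p.1 : G) * p.2, mul_mem (hs.Y_le p.1.2) (hs.C_le p.2.2)⟩ : A)) fun x => ?_
  obtain ⟨y, hy, c, hc, e⟩ := mem_sup_of_ea hs.hA.elem hs.Y_le hs.C_le
    (show (x : G) ∈ Y ⊔ C from hs.sup.symm ▸ x.2)
  exact ⟨⟨⟨y, hy⟩, ⟨c, hc⟩⟩, Subtype.ext e.symm⟩

end Split

/-- The reduction to one minimal invariant subgroup. -/
theorem Hyp.false_of_split (h : Hyp G) (hs : Split S A Y C) (hY8 : Nat.card Y = 8)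
    (hblk : ∀ y ∈ Y, y ≠ 1 → MinBlk Y (zpowers y)) (hC8 : 8 ≤ Nat.card C) : False := by
  classical
  haveI : Fact (Nat.Prime 2) := ⟨Nat.prime_two⟩
  haveI := h.simple
  have hA := hs.hA
  have hA64 : 64 ≤ Nat.card A := by rw [hs.card_eq, hY8]; omega
  have hz2 : ∀ t ∈ Y, t ≠ 1 → Nat.card (zpowers t) = 2 := fun t ht ht1 => by
    rw [Nat.card_zpowers, hs.hY.orderOf_eq_two ht ht1]
  -- the block over each involution of `Y`
  have hex : ∀ t ∈ Y, t ≠ 1 → ∃ E : Subgroup (qq t), IsComponent E ∧ blockD A t E ≠ A ∧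
      blockD A t E ⊓ Y = zpowers t ∧ ∃ V k, IsBlock A (blockD A t E) V k ∧ V ≤ Y ∧ Nat.card V = 4 := by
    intro t ht ht1
    obtain ⟨E, hE, hb⟩ := (hblk t ht ht1).exists_at h hs.hY (mem_zpowers t) ht1
    have hDY : blockD A t E ⊓ Y = zpowers t := by
      ext x
      constructor
      · rintro ⟨hxD, hxY⟩
        rw [← hb]
        exact (mem_blockD (hs.hY.mem_cc ht hxY)).mpr ⟨hxY, ((mem_blockD (hs.hY.mem_cc ht hxY)).mp hxD).2⟩
      · intro hx
        have hxY : x ∈ Y := zpowers_le.mpr ht hx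
        rw [← hb] at hx
        exact ⟨(mem_blockD (hs.hY.mem_cc ht hxY)).mpr
          ⟨hs.Y_le hxY, ((mem_blockD (hs.hY.mem_cc ht hxY)).mp hx).2⟩, hxY⟩
    have hnle : ¬ Y ≤ blockD A t E := fun hle => by
      have h1 := hz2 t ht ht1
      rw [← hDY, inf_eq_right.mpr hle, hY8] at h1
      omega
    have hne : blockD A t E ≠ A := fun e => hnle (e.symm ▸ hs.Y_le)
    obtain ⟨k, hk, hkc⟩ := h.exists_block' hA (hs.Y_le ht) ht1 hE hne
    have hVY := block_le_sub hA hs.hY hs.Y_le hk hkc hnle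
    have hdisj : partV A t E ⊓ zpowers t = ⊥ := by
      rw [eq_bot_iff, ← hDY]
      exact fun x hx => hk.disjoint.le ⟨hx.2.1, hx.1⟩
    have h4 : Nat.card (partV A t E) * 2 ≤ 8 :=
      hY8 ▸ hz2 t ht ht1 ▸ card_mul_le_of_disjoint hVY (zpowers_le.mpr ht) hdisj
    exact ⟨E, hE, hne, hDY, _, k, hk, hVY, le_antisymm (by omega) hk.four_le⟩
  -- one of them does not lift
  obtain ⟨t, ht, ht1, E, hE, hne, hDY, V, k, hk, hVY, hV4, d, hd, hd1, F, hF, hlt, hJR⟩ :
      ∃ t ∈ Y, t ≠ 1 ∧ ∃ E : Subgroup (qq t), IsComponent E ∧ blockD A t E ≠ A ∧ blockD A t E ⊓ Y = zpowers t ∧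
        ∃ V k, IsBlock A (blockD A t E) V k ∧ V ≤ Y ∧ Nat.card V = 4 ∧
          ∃ d ∈ blockD A t E, d ≠ 1 ∧ ∃ F : Subgroup (qq d), IsComponent F ∧ blockD A d F < blockD A t E ∧
            IsJR ↥F := by
    obtain ⟨t, ht, ht1⟩ := Y.bot_or_exists_ne_one.resolve_left hs.hY.ne_bot
    obtain ⟨u, hu, hut⟩ : ∃ u ∈ Y, u ∉ zpowers t := by
      by_contra! hh
      have := card_le_of_le (show Y ≤ zpowers t from hh)
      rw [hY8, hz2 t ht ht1] at this
      omega
    have hu1 : u ≠ 1 := fun e => hut (e ▸ one_mem _)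
    obtain ⟨E, hE, hne, hDY, V, k, hk, hVY, hV4⟩ := hex t ht ht1
    obtain ⟨E', hE', hne', hDY', V', k', hk', hVY', hV4'⟩ := hex u hu hu1
    obtain ⟨d, hd, hd1⟩ := (blockD A t E ⊓ blockD A u E').bot_or_exists_ne_one.resolve_left fun e => by
      have h1 := card_mul_le_of_disjoint (blockD_le t E) (blockD_le u E') e
      have h2 := hk.card_eq hA
      have h3 := hk'.card_eq hA
      rw [hV4] at h2
      rw [hV4'] at h3
      nlinarith
    rcases h.lift hA (hs.Y_le ht) ht1 hE hne hd.1 hd1 with ⟨E₁, hE₁, hb₁, -⟩ | ⟨F, hF, hlt, hJ⟩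
    swap
    · exact ⟨t, ht, ht1, E, hE, hne, hDY, V, k, hk, hVY, hV4, d, hd.1, hd1, F, hF, hlt, hJ⟩
    rcases h.lift hA (hs.Y_le hu) hu1 hE' hne' hd.2 hd1 with ⟨E₂, hE₂, hb₂, -⟩ | ⟨F, hF, hlt, hJ⟩
    swap
    · exact ⟨u, hu, hu1, E', hE', hne', hDY', V', k', hk', hVY', hV4', d, hd.2, hd1, F, hF, hlt, hJ⟩
    exfalso
    have hEE : E₁ ≠ E₂ := fun e => by
      have hm : u ∈ blockD A t E ⊓ Y := ⟨by rw [← hb₁, e, hb₂]; exact self_mem_blockD (hs.Y_le hu) E', hu⟩
      exact hut (hDY ▸ hm)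
    have h1 := h.le_of_common hA (blockD_le t E hd.1) hd1 hE₁ hE₂ hEE (hb₂.symm ▸ hne') (hb₂.symm ▸ hk')
    rw [hb₁] at h1
    have h2 := card_le_of_le (le_inf h1 hVY')
    rw [hV4', hDY, hz2 t ht ht1] at h2
    omega
  have hdA : d ∈ A := blockD_le t E hd
  -- it is `C`
  have hnleE : ¬ Y ≤ blockD A t E := fun hle => by
    have h1 := hz2 t ht ht1
    rw [← hDY, inf_eq_right.mpr hle, hY8] at h1
    omega
  have hbF : Blocked A (blockD A d F) :=
    ⟨fun e => lt_irrefl _ (hlt.trans_le ((blockD_le t E).trans e.ge)), d, hdA, hd1, F, hF, rfl⟩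
  obtain ⟨kF, hkF, hkFc⟩ := h.exists_block' hA hdA hd1 hF hbF.1
  have hnleF : ¬ Y ≤ blockD A d F := fun hle => hnleE (hle.trans hlt.le)
  have hVFY : partV A d F ≤ Y := block_le_sub hA hs.hY hs.Y_le hkF hkFc hnleF
  have hVF : partV A d F = Y := by
    refine eq_of_le_of_card_ge hVFY ?_
    have h1 := hkF.card_eq hA
    have h2 := hk.card_eq hA
    rw [hV4] at h2
    have h3 : Nat.card (blockD A d F) < Nat.card (blockD A t E) :=
      lt_of_le_of_ne (card_le_of_le hlt.le) fun e => hlt.ne (eq_of_le_of_card_ge hlt.le e.ge)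
    have h4 : Nat.card (partV A d F) ∣ 8 := hY8 ▸ card_dvd_of_le hVFY
    have h5 : 0 < Nat.card (blockD A d F) := Nat.card_pos
    have h6 : 4 < Nat.card (partV A d F) := by nlinarith
    obtain ⟨i, hi, e⟩ := (Nat.dvd_prime_pow Nat.prime_two).mp (show Nat.card (partV A d F) ∣ 2 ^ 3 from h4)
    rw [hY8, e]
    rw [e] at h6
    interval_cases i <;> simp_all
  have hCD : C = blockD A d F := by
    have hCle := hs.C_le_D h hbF hkF hkFc hnleF
    refine le_antisymm hCle fun x hx => ?_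
    obtain ⟨y, hy, c, hc, rfl⟩ := mem_sup_of_ea hA.elem hs.Y_le hs.C_le
      (show x ∈ Y ⊔ C from hs.sup.symm ▸ blockD_le d F hx)
    have h1 : y ∈ blockD A d F ⊓ partV A d F :=
      ⟨by simpa using mul_mem hx (inv_mem (hCle hc)), hVF.symm ▸ hy⟩
    rw [hkF.disjoint, mem_bot] at h1
    rwa [h1, one_mul]
  have hYC : ∀ D', Blocked A D' → Y ≤ D' ∨ C ≤ D' := fun D' hD' => hs.Y_or_C h hD'
  have hC1 : C ≠ ⊥ := fun e => by rw [e, card_bot] at hC8; omega
  have hnY : ¬ Y ≤ C := fun hle => hs.hY.ne_bot (by rw [← inf_eq_left.mpr hle, hs.disjoint])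
  have hCmin : MinBlk A C := by
    refine ⟨hCD ▸ hbF, fun D' hD' hle => le_antisymm hle ?_⟩
    exact (hYC D' hD').resolve_left fun hY => hnY (hY.trans hle)
  have hdC : d ∈ C := hCD.symm ▸ self_mem_blockD hdA F
  -- the component at each element of `C`
  have hFe : ∀ e ∈ C, e ≠ 1 → ∀ F' : Subgroup (qq e), IsComponent F' → blockD A e F' = C →
      partV A e F' = Y ∧ SepAt A e F' := by
    intro e he he1 F' hF' hb
    obtain ⟨k', hk', hkc'⟩ := h.exists_block' hA (hs.C_le he) he1 hF' (hb ▸ hCmin.1.1)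
    have hle : partV A e F' ≤ Y := block_le_sub hA hs.hY hs.Y_le hk' hkc' (hb.symm ▸ hnY)
    refine ⟨eq_of_le_of_card_ge hle ?_, fun b hb0 hb1 F'' hF'' hne'' => ?_⟩
    · have h1 := hk'.card_eq hA
      rw [hb, hs.card_eq, mul_comm] at h1
      exact (Nat.eq_of_mul_eq_mul_left Nat.card_pos h1).le
    · rcases hYC _ ⟨hne'', b, hb0, hb1, F'', hF'', rfl⟩ with h' | h'
      · exact Or.inr (hle.trans h')
      · exact Or.inl (h' he)
  have hCclosed : Closed S C := by
    refine ⟨hs.C_le.trans hA.le, ea_le hA.elem hs.C_le, hC1, hs.C_le.trans hA.le, ?_⟩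
    intro x hx g hg
    obtain ⟨n, hn, e⟩ := hA.exists_normalizer_conj (hA.le (hs.C_le hx)) hg
    rw [← e]
    exact (mem_normalizer_iff.mp (hs.inv hn) x).mp hx
  by_cases hW : gen 2 A = ⊥
  · have htop : KK A C ≠ ⊤ := fun e => h.cc_ne_top hd1
      (top_le_iff.mp (e ▸ KK_le.trans (CfsgLib.S3Simple.centralizer_le_cc hdC)))
    refine h.false_of_le hCclosed (h.normalizer_ne_top (h.KK_ne_bot hA hCmin) htop) fun e he he1 => ?_
    obtain ⟨F', hF', hb⟩ := hCmin.exists_at h hA he he1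
    have hN : ∀ x (hx : x ∈ cc e), ff e ⟨x, hx⟩ ∈ normalizer (F' : Set (qq e)) →
        x ∈ normalizer (KK A C : Set G) := fun x hx hxF =>
      h.KK_norm hA (by omega) hW hCmin he he1 hF' hb (hFe e he he1 F' hF' hb).2 hx hxF
    refine h.cc_le hA (hs.C_le he) he1 (fun x hx => ?_) (fun g hg => mem_normalizer_of_maps fun x hx => ?_)
      fun G' hG' z hz => ?_
    · obtain ⟨y, hy, rfl⟩ := hx
      refine hN _ y.2 ?_
      rw [show (⟨(cc e).subtype y, y.2⟩ : ↥(cc e)) = y from rfl,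
        show ff e y = 1 from (QuotientGroup.eq_one_iff y).mpr hy]
      exact one_mem _
    · have h1 := h.conj_mem_KK hA hCmin hg.1 hx
      have e1 : C.map (MulAut.conj g).toMonoidHom = C := mem_normalizer_iff_map_conj_eq.mp (hs.inv hg.1)
      rwa [e1] at h1
    · obtain ⟨x, rfl⟩ := bar_surjective 2 z
      exact ⟨x, hN _ x.2 (Comp.layer_le_normalizer_component hF' (le_layer hG' hz)), rfl⟩
  · have hWN := h.normalizer_ne_top hW (ne_top_of_odd hA (h.odd_gen hA (by omega)))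
    have hNA : normalizer (A : Set G) ≤ normalizer (gen 2 A : Set G) := Hyp.normalizer_le_normalizer_gen hA
    refine h.false_of_le hCclosed hWN fun e he he1 => h.cc_le hA (hs.C_le he) he1
      (h.core_le_normalizer_gen hA (by omega) (hs.C_le he)) (inf_le_left.trans hNA) fun G' hG' => ?_
    have heA : e ∈ A := hs.C_le he
    by_cases hc : imA A e ≤ centralizer (G' : Set (qq e))
    · exact central_component_le hA heA hc (inf_le_left.trans hNA)
    have hbl := blocked_of_moved hA heA he1 hG' hc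
    obtain ⟨F', hF', hbF', himg⟩ := hCmin.lift h hA hdA hd1 hF hCD.symm he he1
    obtain ⟨hpV, -⟩ := hFe e he he1 F' hF' hbF'
    by_cases hGF : G' = F'
    swap
    · -- another component: its `D` contains `⟨e⟩ × Y`
      obtain ⟨k', hk', -⟩ := h.exists_block' hA heA he1 hF' (hbF' ▸ hCmin.1.1)
      have hYG : Y ≤ blockD A e G' := hpV ▸ h.le_of_common hA heA he1 hG' hF' hGF (hbF' ▸ hCmin.1.1) hk'
      obtain ⟨P, -, hPD, -, hPE⟩ := exists_cover hA heA hG' (blockD_le e G') fun x hx hxc => ((mem_blockD hxc).mp hx).2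
      rw [← hPE]
      refine map_mono (comap_mono (hPD.trans (h.centralizer_le_normalizer_gen hA (blockD_le e G') ?_)))
      have h1 := card_mul_le_of_disjoint hYG (zpowers_le.mpr (self_mem_blockD heA G')) ((eq_bot_iff_forall _).mpr
        fun x hx => mem_bot.mp (hs.disjoint.le ⟨hx.1, zpowers_le.mpr he hx.2⟩))
      rw [hY8, Nat.card_zpowers, hA.orderOf_eq_two heA he1] at h1
      omega
    rw [hGF]
    -- the component over `C`: the centralisers of the involutions of its Sylow subgroup generate it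
    obtain ⟨T, hT⟩ := hA.imA_closed heA
    have hctx := h.ctx he1
    haveI := hctx.simple hF'
    obtain ⟨PF, hPF, -⟩ := hctx.comp_sylow T hF'
    have hJ' : IsJR ↥F' := by
      obtain ⟨Td, hTd⟩ := hA.imA_closed hdA
      have hctxd := h.ctx hd1
      haveI := hctxd.simple hF
      obtain ⟨PFd, hPFd, -⟩ := hctxd.comp_sylow Td hF
      obtain ⟨y, hy, hy1⟩ := Y.bot_or_exists_ne_one.resolve_left hs.hY.ne_bot
      have hyA := hs.Y_le hy
      have hyd : y ∈ cc d := hA.mem_cc hdA hyA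
      have hyF : ff d ⟨y, hyd⟩ ∈ F := (mem_partV hA hdA hyA).mp (hVF.symm ▸ hy)
      set v : ↥F := ⟨ff d ⟨y, hyd⟩, hyF⟩ with hv
      have hv2 : orderOf v = 2 := by
        refine orderOf_eq_prime (Subtype.ext ?_) fun e0 => hy1 (hA.ff_inj hyA hyd (congrArg Subtype.val e0))
        show (ff d ⟨y, hyd⟩) ^ 2 = 1
        rw [← map_pow, show (⟨y, hyd⟩ : ↥(cc d)) ^ 2 = 1 from Subtype.ext (hA.elem.2 y hyA), map_one]
      obtain ⟨c⟩ := hJR.co hv2
      set I : Subgroup (qq d) := c.ι.range.map F.subtype with hI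
      have hIperf : ⁅I, I⁆ = I := by
        rw [hI, MonoidHom.range_eq_map, ← map_commutator, ← map_commutator, ← _root_.commutator_def, c.psl_perfect]
      have hIF : I ≤ F := map_subtype_le _
      obtain ⟨P, hP, hPD, hPd, hPI⟩ := exists_cover' (D := C ⊔ zpowers y) hA hdA hIperf
        (sup_le hs.C_le (zpowers_le.mpr hyA)) (by
          intro x hx hxc
          have hle : C ⊔ zpowers y ≤ preim d (centralizer (I : Set (qq d))) := sup_le (fun z hz => by
            have hzc := hA.mem_cc hdA (hs.C_le hz)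
            refine (mem_preim hzc).mpr fun i hi => ?_
            exact ((mem_blockD hzc).mp (hCD ▸ hz)).2 i (hIF hi)) (zpowers_le.mpr ((mem_preim hyd).mpr (by
              rintro _ ⟨w, ⟨z, rfl⟩, rfl⟩
              exact congrArg Subtype.val (c.ι_comm z))))
          exact (mem_preim hxc).mp (hle hx))
      have hPC : P ≤ centralizer (C : Set G) := fun x hx z hz => hPD hx z (mem_sup_left hz)
      have hPe : P ≤ cc e := fun x hx => AfterFT.CoreSep.mem_cc.mpr (hPC hx e he).symm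
      set X := (P.subgroupOf (cc e)).map (ff e) with hXdef
      have hXF : X ≤ F' := himg P hP hPC (hPI.le.trans hIF)
      have hXperf : ⁅X, X⁆ = X := by
        rw [hXdef, ← map_commutator]
        refine congrArg (fun Q : Subgroup ↥(cc e) => Q.map (ff e)) (map_injective (cc e).subtype_injective ?_)
        rw [map_commutator, map_subgroupOf_eq_of_le hPe, hP]
      have hX1 : X ≠ ⊥ := fun e0 => by
        have hPO : ∀ x ∈ P, x ∈ centralizerPPrimeCore 2 e := fun x hx => mem_core_of_bar (w := ⟨x, hPe hx⟩)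
          (mem_bot.mp (e0 ▸ ⟨⟨x, hPe hx⟩, hx, rfl⟩))
        haveI : Group.IsSolvable ↥I := oddSolv _ ((odd_of_le hPO (odd_card_core e)).of_dvd_nat (by
          rw [← hPI]
          exact (card_map_dvd _ _).trans (dvd_of_eq (Nat.card_congr (subgroupOfEquivOfLe hPd).toEquiv))))
        have h1 : I = ⊥ := by
          refine (eq_bot_iff_forall _).mpr fun i hi => ?_
          have := DFunLike.congr_fun (hom_eq_one_of_solvable (perfect_top hIperf) (MonoidHom.id ↥I)) ⟨i, hi⟩
          exact congrArg Subtype.val this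
        rw [hI, map_eq_bot_iff_of_injective _ F.subtype_injective] at h1
        haveI := c.psl_simple
        refine c.psl_nonabelian ⟨⟨fun p q => c.ι_inj ?_⟩⟩
        rw [mem_bot.mp (h1 ▸ ⟨p * q, rfl⟩ : c.ι (p * q) ∈ (⊥ : Subgroup ↥F)),
          mem_bot.mp (h1 ▸ ⟨q * p, rfl⟩ : c.ι (q * p) ∈ (⊥ : Subgroup ↥F))]
      have hye : y ∈ cc e := hA.mem_cc heA hyA
      have hy' : ff e ⟨y, hye⟩ ∈ (PF : Subgroup ↥F').map F'.subtype := by
        rw [hPF]
        exact ⟨hT.le (mem_imA hyA hye), (mem_partV hA heA hyA).mp (hpV.symm ▸ hy)⟩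
      obtain ⟨w, hw, hwe⟩ := hy'
      let ψ : ↥X →* MulAut ↥F' := (MulAut.conj).comp (inclusion hXF)
      have hfix : ∀ x, ∀ z ∈ zpowers w, ψ x z = z := by
        intro x z hz
        obtain ⟨i, rfl⟩ := mem_zpowers_iff.mp hz
        obtain ⟨x, hx⟩ := x
        obtain ⟨x₀, hx₀, rfl⟩ := id hx
        rw [map_zpow]
        congr 1
        refine Subtype.ext ?_
        show ff e x₀ * (w : qq e) * (ff e x₀)⁻¹ = w
        rw [show (w : qq e) = ff e ⟨y, hye⟩ from hwe, mul_inv_eq_iff_eq_mul, ← map_mul, ← map_mul]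
        exact congrArg _ (Subtype.ext (hPD hx₀ y (mem_sup_right (mem_zpowers y))).symm)
      have hw1 : zpowers w ≠ ⊥ := by
        rw [Ne, zpowers_eq_bot]
        intro e0
        rw [e0, map_one] at hwe
        exact hy1 (hA.ff_inj hyA hye hwe.symm)
      rcases (hctx.comp_listed hF').perfect_fix (zpowers_le.mpr hw) hw1 (perfect_top hXperf) ψ hfix with hψ | ⟨-, hJ⟩
      · refine absurd ((eq_bot_iff_forall _).mpr fun x hx => ?_) hX1
        refine hctx.eq_one_of_centralizes_self hF' (hXF hx) fun z hz => ?_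
        have := congrArg Subtype.val (DFunLike.congr_fun (DFunLike.congr_fun hψ ⟨x, hx⟩) (⟨z, hz⟩ : ↥F'))
        exact (mul_inv_eq_iff_eq_mul.mp this).symm
      · exact hJ
    set M0 : Subgroup ↥F' := (((normalizer (gen 2 A : Set G)).subgroupOf (cc e)).map (ff e)).subgroupOf F' with hM0
    suffices hM0top : M0 = ⊤ from subgroupOf_eq_top.mp hM0top
    refine hJ'.gen PF fun v hv hv1 z hz => ?_
    show (z : qq e) ∈ ((normalizer (gen 2 A : Set G)).subgroupOf (cc e)).map (ff e)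
    obtain ⟨y, hyA, hye⟩ : ∃ y, ∃ hy : y ∈ A, ff e ⟨y, hA.mem_cc heA hy⟩ = (v : qq e) := by
      obtain ⟨k', hk'⟩ := hctx.exists_compBlock hT hF'
        (CfsgLib.S3Simple.not_le_centralizer hA heA (hbF' ▸ hCmin.1.1))
      obtain ⟨y, hy, e0⟩ := hk'.V_le (hPF ▸ mem_map_of_mem F'.subtype hv)
      exact ⟨y, hy, e0⟩
    have hyY : y ∈ Y := hpV ▸ (mem_partV hA heA hyA).mpr (hye.symm ▸ v.2)
    have hy1 : y ≠ 1 := fun e0 => by
      subst e0
      rw [show (⟨1, hA.mem_cc heA hyA⟩ : ↥(cc e)) = 1 from rfl, map_one] at hye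
      exact hv1 (Subtype.ext hye.symm)
    set H := C ⊔ zpowers y with hH
    have hHA : H ≤ A := sup_le hs.C_le (zpowers_le.mpr hyA)
    have hH16 : 16 ≤ Nat.card H := by
      have h1 := card_mul_le_of_disjoint (M := H) (le_sup_left : C ≤ H) (le_sup_right : zpowers y ≤ H)
        ((eq_bot_iff_forall _).mpr fun x hx => mem_bot.mp (hs.disjoint.le ⟨zpowers_le.mpr hyY hx.2, hx.1⟩))
      rw [Nat.card_zpowers, hA.orderOf_eq_two hyA hy1] at h1
      omega
    have hHc : H ≤ cc e := fun x hx => hA.mem_cc heA (hHA hx)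
    have hzc : (z : qq e) ∈ centralizer (((H.subgroupOf (cc e)).map (ff e) : Subgroup (qq e)) : Set (qq e)) := by
      rintro _ ⟨x, hx, rfl⟩
      have hle : H ≤ preim e (centralizer ({(z : qq e)} : Set (qq e))) := sup_le (fun c hc => by
        have hcc := hA.mem_cc heA (hs.C_le hc)
        refine (mem_preim hcc).mpr (mem_centralizer_singleton_iff.mpr ?_)
        exact (((mem_blockD hcc).mp (hbF'.symm ▸ hc)).2 z z.2).symm) (zpowers_le.mpr ((mem_preim _).mpr (by
          rw [mem_centralizer_singleton_iff, hye]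
          exact (congrArg Subtype.val (mem_centralizer_singleton_iff.mp hz)).symm)))
      exact mem_centralizer_singleton_iff.mp ((mem_preim x.2).mp (hle hx))
    obtain ⟨x, hx, hxe⟩ := (bar_centralizer_two
      ((hA.isPGroup.to_le hHA).of_equiv (subgroupOfEquivOfLe hHc).symm)).symm.le hzc
    exact ⟨x, h.centralizer_le_normalizer_gen hA hHA hH16 (fun w hw => congrArg Subtype.val (hx ⟨w, hHc hw⟩ hw)), hxe⟩

end CfsgLib.WalterAb
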