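import Mathlib
import Cfsg.Agent.Lib.HallNumbers.Sufficient

/-!
Automorphisms fixing a self-centralising elementary Sylow 2-subgroup pointwise, and groups of automorphisms with a
solvable target.

Blueprint: `blueprint/Walter.md`, "S0506 audit" (Facts).
-/

set_option autoImplicit false
set_option linter.unusedSectionVars false
set_option linter.style.haveILetI false

namespace CfsgLib.WalterAb

open Subgroup

universe u v

variable {K : Type u} [Group K] [Finite K]

/-- A Sylow subgroup of exponent two that is its own centraliser. -/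
structure SelfCent (T : Sylow 2 K) : Prop where
  sq : ∀ x ∈ (T : Subgroup K), x * x = 1
  self : ∀ x : K, (∀ y ∈ (T : Subgroup K), x * y = y * x) → x ∈ (T : Subgroup K)

variable {T : Sylow 2 K}

theorem SelfCent.comm (hT : SelfCent T) {x y : K} (hx : x ∈ (T : Subgroup K)) (hy : y ∈ (T : Subgroup K)) :
    x * y = y * x :=
  calc x * y = x * (x * y * (x * y)) * y := by rw [hT.sq _ (mul_mem hx hy), mul_one]
    _ = x * x * (y * x) * (y * y) := by group
    _ = y * x := by rw [hT.sq x hx, hT.sq y hy, one_mul, mul_one]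

/-- The defect of an automorphism fixing `T` on the normaliser lies in `T`. -/
theorem SelfCent.defect_mem (hT : SelfCent T) {ψ : MulAut K} (hfix : ∀ x ∈ (T : Subgroup K), ψ x = x) {n : K}
    (hn : n ∈ normalizer ((T : Subgroup K) : Set K)) : n⁻¹ * ψ n ∈ (T : Subgroup K) := by
  refine hT.self _ fun s hs => ?_
  have h1 : ψ (n * s * n⁻¹) = n * s * n⁻¹ := hfix _ ((mem_normalizer_iff.mp hn s).mp hs)
  rw [map_mul, map_mul, map_inv, hfix s hs] at h1
  calc n⁻¹ * ψ n * s = n⁻¹ * (ψ n * s * (ψ n)⁻¹) * ψ n := by group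
    _ = s * (n⁻¹ * ψ n) := by rw [h1]; group

/-- An automorphism of odd order fixing `T` fixes its normaliser. -/
theorem SelfCent.fix_normalizer_of_odd (hT : SelfCent T) {ψ : MulAut K} (hfix : ∀ x ∈ (T : Subgroup K), ψ x = x)
    (ho : Odd (orderOf ψ)) {n : K} (hn : n ∈ normalizer ((T : Subgroup K) : Set K)) : ψ n = n := by
  set c := n⁻¹ * ψ n with hc
  have hcT := hT.defect_mem hfix hn
  have hpow : ∀ m : ℕ, (ψ ^ m) n = n * c ^ m := by
    intro m
    induction m with
    | zero => simp
    | succ m ih =>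
      rw [pow_succ', MulAut.mul_apply, ih, map_mul, map_pow, hfix c hcT, pow_succ', ← mul_assoc,
        show n * c = ψ n by rw [hc, mul_inv_cancel_left]]
  have h := hpow (orderOf ψ)
  rw [pow_orderOf_eq_one, MulAut.one_apply] at h
  obtain ⟨j, hj⟩ := ho
  rw [hj, pow_succ, pow_mul, pow_two, hT.sq c hcT, one_pow, one_mul, left_eq_mul] at h
  rw [hc, inv_mul_eq_one] at h
  exact h.symm

/-- An automorphism fixing `T` agrees on its normaliser with conjugation by an element of `T`. -/
theorem SelfCent.exists_conj_on_normalizer (hT : SelfCent T) (ψ : MulAut K)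
    (hfix : ∀ x ∈ (T : Subgroup K), ψ x = x) :
    ∃ s ∈ (T : Subgroup K), ∀ n ∈ normalizer ((T : Subgroup K) : Set K), ψ n = s * n * s⁻¹ := by
  classical
  haveI : Fact (Nat.Prime 2) := ⟨Nat.prime_two⟩
  set Ns := normalizer ((T : Subgroup K) : Set K)
  letI : CommGroup (T : Subgroup K) := { (inferInstance : Group (T : Subgroup K)) with
    mul_comm := fun a b => Subtype.ext (hT.comm a.2 b.2) }
  let c : Ns → (T : Subgroup K) := fun n => ⟨(n : K)⁻¹ * ψ n, hT.defect_mem hfix n.2⟩
  let act : Ns → ((T : Subgroup K) →* (T : Subgroup K)) := fun m =>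
    { toFun := fun s => ⟨(m : K)⁻¹ * s * m, by
        have h := (mem_normalizer_iff.mp (inv_mem m.2) (s : K)).mp s.2
        simpa using h⟩
      map_one' := Subtype.ext (by simp)
      map_mul' := fun a b => Subtype.ext (by
        show (m : K)⁻¹ * ((a : K) * b) * m = (m : K)⁻¹ * a * m * ((m : K)⁻¹ * b * m)
        group) }
  let CS : Subgroup Ns := (T : Subgroup K).subgroupOf Ns
  haveI : CS.Normal := normal_in_normalizer
  have hcmul : ∀ n m : Ns, c (n * m) = act m (c n) * c m := fun n m => Subtype.ext (by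
    show ((n : K) * m)⁻¹ * ψ ((n : K) * m) = (m : K)⁻¹ * ((n : K)⁻¹ * ψ n) * m * ((m : K)⁻¹ * ψ m)
    rw [map_mul]; group)
  have hcz : ∀ n z : Ns, z ∈ CS → c (n * z) = c n := by
    intro n z hz
    rw [hcmul]
    have e1 : c z = 1 := Subtype.ext (by
      show (z : K)⁻¹ * ψ z = 1
      rw [hfix (z : K) (show (z : K) ∈ (T : Subgroup K) from hz), inv_mul_cancel])
    have e2 : act z (c n) = c n := Subtype.ext (by
      show (z : K)⁻¹ * (c n : K) * z = c n
      rw [mul_assoc, hT.comm (c n).2 (show (z : K) ∈ (T : Subgroup K) from hz), inv_mul_cancel_left])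
    rw [e1, e2, mul_one]
  have hodd : Odd CS.index := Nat.odd_iff.mpr (Nat.two_dvd_ne_zero.mp fun h =>
    T.not_dvd_index (h.trans (relIndex_dvd_index_of_le le_normalizer)))
  letI : Fintype (Ns ⧸ CS) := Fintype.ofFinite _
  let cb : Ns ⧸ CS → (T : Subgroup K) := fun q => Quotient.liftOn' q c fun a b hab => by
    have hab' : a⁻¹ * b ∈ CS := QuotientGroup.leftRel_apply.mp hab
    rw [show b = a * (a⁻¹ * b) by group, hcz a _ hab']
  refine ⟨((∏ q, cb q : (T : Subgroup K)) : K), (∏ q, cb q).2, fun n hn => ?_⟩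
  set s : (T : Subgroup K) := ∏ q, cb q with hs
  have hsq : ∀ z : (T : Subgroup K), z * z = 1 := fun z => Subtype.ext (hT.sq _ z.2)
  set m : Ns := ⟨n, hn⟩
  have h1 : s = act m s * (c m) ^ CS.index := by
    calc s = ∏ q, cb (q * (m : Ns ⧸ CS)) := (Equiv.prod_comp (Equiv.mulRight (m : Ns ⧸ CS)) cb).symm
      _ = ∏ q, act m (cb q) * c m := Finset.prod_congr rfl fun q _ => by
          induction q using QuotientGroup.induction_on with
          | H a => exact hcmul a m
      _ = act m s * (c m) ^ CS.index := by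
          rw [Finset.prod_mul_distrib, ← map_prod, Finset.prod_const, Finset.card_univ,
            ← Nat.card_eq_fintype_card]
          rfl
  obtain ⟨j, hj⟩ := hodd
  rw [hj, pow_succ, pow_mul, show (c m) ^ 2 = 1 by rw [pow_two]; exact hsq _, one_pow, one_mul] at h1
  have h2 : c m = act m s * s := by
    conv_rhs => arg 2; rw [h1]
    rw [← mul_assoc, hsq, one_mul]
  have h3 : n⁻¹ * ψ n = n⁻¹ * (s : K) * n * (s : K) := congrArg Subtype.val h2
  rw [inv_eq_of_mul_eq_one_right (hT.sq _ s.2)]
  calc ψ n = n * (n⁻¹ * ψ n) := by group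
    _ = _ := by rw [h3]; group

/-- An automorphism of odd order that is a conjugation by an involution is trivial. -/
theorem eq_one_of_odd_conj {φ : MulAut K} {q : K} (hq : q * q = 1) (h : φ = MulAut.conj q)
    (ho : Odd (orderOf φ)) : φ = 1 := by
  obtain ⟨j, hj⟩ := ho
  have h1 := pow_orderOf_eq_one φ
  rwa [hj, pow_succ, pow_mul, pow_two, show φ * φ = 1 by rw [h, ← map_mul, hq, map_one], one_pow,
    one_mul] at h1

/-- A homomorphism from a perfect group to a solvable one is trivial. -/
theorem hom_eq_one_of_solvable {X : Type v} [Group X] {Y : Type u} [Group Y] (hX : commutator X = ⊤)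
    [hY : Group.IsSolvable Y] (g : X →* Y) : g = 1 := by
  have hr : ∀ n, derivedSeries X n = ⊤ := fun n => by
    induction n with
    | zero => rfl
    | succ n ih => rw [derivedSeries_succ, ih, ← commutator_def, hX]
  obtain ⟨n, hn⟩ := hY.solvable
  refine MonoidHom.ext fun x => ?_
  have h := map_derivedSeries_le_derivedSeries g n (Subgroup.mem_map_of_mem g (hr n ▸ Subgroup.mem_top x))
  rw [hn, Subgroup.mem_bot] at h
  exact h

/-- With solvable outer group and solvable centraliser, the automorphisms fixing an element form a solvable group. -/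
theorem solvable_stabilizer_of (hout : Group.IsSolvable (MulAut K ⧸ (MulAut.conj (G := K)).range)) {z : K}
    (hcent : Group.IsSolvable (centralizer ({z} : Set K))) :
    Group.IsSolvable (MulAction.stabilizer (MulAut K) z) := by
  haveI := hout
  haveI := hcent
  let f : centralizer ({z} : Set K) →* MulAction.stabilizer (MulAut K) z :=
    ((MulAut.conj (G := K)).comp (centralizer ({z} : Set K)).subtype).codRestrict _ fun x => by
      rw [MulAction.mem_stabilizer_iff, MulAut.smul_def]
      show (x : K) * z * (x : K)⁻¹ = z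
      rw [mem_centralizer_singleton_iff.mp x.2, mul_inv_cancel_right]
  refine Group.isSolvable_of_ker_le_range f
    ((QuotientGroup.mk' (MulAut.conj (G := K)).range).comp (MulAction.stabilizer (MulAut K) z).subtype)
    fun φ hφ => ?_
  obtain ⟨x, hx⟩ := (QuotientGroup.eq_one_iff _).mp hφ
  have hxz : x * z = z * x := by
    have := (MulAction.mem_stabilizer_iff.mp φ.2)
    rw [MulAut.smul_def] at this
    have hx' : (φ : MulAut K) z = x * z * x⁻¹ := (DFunLike.congr_fun hx z).symm
    rwa [hx', mul_inv_eq_iff_eq_mul] at this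
  exact ⟨⟨x, mem_centralizer_singleton_iff.mpr hxz⟩, Subtype.ext hx⟩

/-- A perfect group of automorphisms fixing such an element is trivial. -/
theorem perfect_fix_of (hout : Group.IsSolvable (MulAut K ⧸ (MulAut.conj (G := K)).range)) {z : K}
    (hcent : Group.IsSolvable (centralizer ({z} : Set K))) {X : Type v} [Group X] (hX : commutator X = ⊤)
    (f : X →* MulAut K) (hf : ∀ x, f x z = z) : f = 1 := by
  haveI := solvable_stabilizer_of hout hcent
  let g : X →* MulAction.stabilizer (MulAut K) z := f.codRestrict _ fun x => by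
    rw [MulAction.mem_stabilizer_iff, MulAut.smul_def, hf]
  exact MonoidHom.ext fun x => congrArg Subtype.val (DFunLike.congr_fun (hom_eq_one_of_solvable hX g) x)

/-- The centraliser of an involution is solvable when the Sylow 2-subgroups have order at most four. -/
theorem solvable_cent_of_four (h8 : ¬ 8 ∣ Nat.card K) {z : K} (h1 : z ≠ 1) (h2 : z * z = 1) :
    Group.IsSolvable (centralizer ({z} : Set K)) := by
  haveI : Fact (Nat.Prime 2) := ⟨Nat.prime_two⟩
  set C := centralizer ({z} : Set K)
  let zC : C := ⟨z, mem_centralizer_singleton_iff.mpr rfl⟩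
  have hzC : zC ∈ center C := mem_center_iff.mpr fun g =>
    Subtype.ext (mem_centralizer_singleton_iff.mp g.2)
  set Z := zpowers zC
  haveI : Z.Normal := ⟨fun n hn g => by
    have hc : n ∈ center C := (zpowers_le.mpr hzC) hn
    rwa [mem_center_iff.mp hc g, mul_inv_cancel_right]⟩
  have hz2 : Nat.card Z = 2 := by
    rw [Nat.card_zpowers, ← Subgroup.orderOf_coe]
    exact orderOf_eq_prime (by rw [pow_two]; exact h2) h1
  haveI : Group.IsSolvable (C ⧸ Z) := HallNumbers.solvable_of_not_four fun h4 => h8 <| by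
    have h := Nat.mul_dvd_mul_right h4 (Nat.card Z)
    rw [← Subgroup.index_eq_card, Subgroup.index_mul_card, hz2] at h
    exact (show 8 ∣ 2 ^ 2 * 2 from dvd_rfl).trans (h.trans (card_subgroup_dvd_card C))
  haveI : Group.IsSolvable Z := Group.isSolvable_of_comm fun a b => by
    obtain ⟨i, hi⟩ := mem_zpowers_iff.mp a.2
    obtain ⟨j, hj⟩ := mem_zpowers_iff.mp b.2
    exact Subtype.ext (by rw [coe_mul, coe_mul, ← hi, ← hj, ← zpow_add, ← zpow_add, add_comm])
  exact Group.isSolvable_of_ker_le_range Z.subtype (QuotientGroup.mk' Z) fun x hx =>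
    ⟨⟨x, (QuotientGroup.eq_one_iff x).mp hx⟩, rfl⟩

end CfsgLib.WalterAb
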