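import Cfsg.Agent.Lib.Walter.Ab.Ctx
import Cfsg.Agent.Lib.S3Simple.Setup
import Cfsg.Agent.S3188
import Cfsg.Agent.S0223

/-!
A minimal counterexample to S0506: the criterion and the first consequences.

Blueprint: `blueprint/Walter.md`, "S0506 audit" (Setup).
-/

set_option autoImplicit false
set_option linter.unusedSectionVars false
set_option linter.style.haveILetI false

namespace CfsgLib.WalterAb

open Cfsg Subgroup CfsgLib.Comp CfsgLib.AfterFT.CoreSep
open CfsgLib.S3Simple (Closed oddSolv centClosure)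

universe u

/-- A minimal counterexample. -/
structure Hyp (G : Type u) [Group G] [Finite G] : Prop where
  simple : IsSimpleGroup G
  nonabelian : ¬ IsMulCommutative G
  abel : ∀ P : Sylow 2 G, IsMulCommutative (P : Subgroup G)
  proper : ∀ H : Subgroup G, H ≠ ⊤ → IsCompositionKGroupWith Listed H
  not_listed : ¬ Listed G

/-- Abelian Sylow subgroups are inherited by subgroups. -/
theorem abel_subgroup {G : Type u} [Group G] [Finite G] {p : ℕ} [Fact p.Prime]
    (h : ∀ P : Sylow p G, IsMulCommutative (P : Subgroup G)) (H : Subgroup G) (P : Sylow p H) :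
    IsMulCommutative (P : Subgroup H) := by
  obtain ⟨Q, hQ⟩ := (P.2.map H.subtype).exists_le_sylow
  refine ⟨⟨fun a b => Subtype.ext (Subtype.ext ?_)⟩⟩
  show ((a : H) : G) * ((b : H) : G) = ((b : H) : G) * ((a : H) : G)
  exact congrArg Subtype.val
    ((h Q).1.comm ⟨((a : H) : G), hQ (mem_map_of_mem H.subtype a.2)⟩ ⟨_, hQ (mem_map_of_mem H.subtype b.2)⟩)

/-- Abelian Sylow subgroups are inherited by quotients. -/
theorem abel_quotient {G : Type u} [Group G] [Finite G] {p : ℕ} [Fact p.Prime]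
    (h : ∀ P : Sylow p G, IsMulCommutative (P : Subgroup G)) (N : Subgroup G) [N.Normal] (P : Sylow p (G ⧸ N)) :
    IsMulCommutative (P : Subgroup (G ⧸ N)) := by
  obtain ⟨Q⟩ : Nonempty (Sylow p G) := inferInstance
  obtain ⟨x, hx⟩ := MulAction.exists_smul_eq (G ⧸ N) (Q.mapSurjective (QuotientGroup.mk'_surjective N)) P
  refine ⟨⟨fun a b => Subtype.ext ?_⟩⟩
  have key : ∀ y : G ⧸ N, y ∈ (P : Subgroup (G ⧸ N)) →
      ∃ q ∈ (Q : Subgroup G), x * QuotientGroup.mk' N q * x⁻¹ = y := fun y hy => by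
    rw [← hx, Sylow.coe_subgroup_smul] at hy
    obtain ⟨z, ⟨q, hq, rfl⟩, e⟩ := hy
    exact ⟨q, hq, e⟩
  obtain ⟨p', hp, ea⟩ := key a a.2
  obtain ⟨q, hq, eb⟩ := key b b.2
  show (a : G ⧸ N) * b = b * a
  rw [← ea, ← eb]
  have e0 : p' * q = q * p' := congrArg Subtype.val ((h Q).1.comm ⟨p', hp⟩ ⟨q, hq⟩)
  have e := congrArg (QuotientGroup.mk' N) e0
  rw [map_mul, map_mul] at e
  calc x * QuotientGroup.mk' N p' * x⁻¹ * (x * QuotientGroup.mk' N q * x⁻¹)
      = x * (QuotientGroup.mk' N p' * QuotientGroup.mk' N q) * x⁻¹ := by group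
    _ = x * (QuotientGroup.mk' N q * QuotientGroup.mk' N p') * x⁻¹ := by rw [e]
    _ = _ := by group

variable {G : Type u} [Group G] [Finite G] {S : Sylow 2 G} {A : Subgroup G}

theorem Hyp.comm (h : Hyp G) (S : Sylow 2 G) {x y : G} (hx : x ∈ (S : Subgroup G)) (hy : y ∈ (S : Subgroup G)) :
    x * y = y * x :=
  congrArg Subtype.val ((h.abel S).1.comm ⟨x, hx⟩ ⟨y, hy⟩)

theorem Hyp.cc_ne_top (h : Hyp G) {a : G} (h1 : a ≠ 1) : cc a ≠ ⊤ := fun e => by
  haveI := h.simple
  have hz : a ∈ center G := mem_center_iff.mpr fun g => AfterFT.CoreSep.mem_cc.mp (e ▸ mem_top g)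
  rcases (inferInstance : (center G).Normal).eq_bot_or_eq_top with hb | hb
  · exact h1 (mem_bot.mp (hb ▸ hz))
  · exact h.nonabelian ⟨⟨fun x y => (mem_center_iff.mp (hb ▸ mem_top x) y).symm⟩⟩

/-- The centraliser of a non-identity element modulo its core satisfies the standing hypotheses. -/
theorem Hyp.ctx (h : Hyp G) {a : G} (h1 : a ≠ 1) : Ctx (qq a) where
  core := by
    haveI : Fact (Nat.Prime 2) := ⟨Nat.prime_two⟩
    exact pPrimeCore_quotient_eq_bot 2
  abel := by
    haveI : Fact (Nat.Prime 2) := ⟨Nat.prime_two⟩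
    exact abel_quotient (abel_subgroup h.abel _) _
  listed := CfsgLib.S3Free.EGrp.quotient_compK listed_congr (h.proper _ (h.cc_ne_top h1)) _

theorem Hyp.normalizer_ne_top (h : Hyp G) {W : Subgroup G} (h1 : W ≠ ⊥) (h2 : W ≠ ⊤) :
    normalizer (W : Set G) ≠ ⊤ := fun e => by
  haveI := h.simple
  exact (normalizer_eq_top_iff.mp e).eq_bot_or_eq_top.elim h1 h2

theorem Hyp.ne_top_of_solvable (h : Hyp G) {H : Subgroup G} (hH : Group.IsSolvable H) : H ≠ ⊤ := fun e => by
  subst e
  haveI := h.simple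
  haveI : Group.IsSolvable G :=
    Group.isSolvable_of_surjective (f := (topEquiv (G := G)).toMonoidHom) topEquiv.surjective
  exact h.nonabelian ⟨⟨IsSimpleGroup.comm_iff_isSolvable.mpr inferInstance⟩⟩

theorem Hyp.even (h : Hyp G) : 2 ∣ Nat.card G := by
  by_contra hodd
  haveI := h.simple
  haveI : Group.IsSolvable G := oddSolv G (Nat.odd_iff.mpr (Nat.two_dvd_ne_zero.mp hodd))
  exact h.nonabelian ⟨⟨IsSimpleGroup.comm_iff_isSolvable.mpr inferInstance⟩⟩

theorem Hyp.core_eq_bot (h : Hyp G) : pPrimeCore 2 G = ⊥ := by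
  haveI := h.simple
  refine ((inferInstance : (pPrimeCore 2 G).Normal).eq_bot_or_eq_top).resolve_right fun e => ?_
  have hcop := card_pPrimeCore_coprime (G := G) 2
  rw [e, card_top] at hcop
  exact absurd (Nat.coprime_two_right.mp hcop) (Nat.not_odd_iff_even.mpr (even_iff_two_dvd.mpr h.even))

/-- Some involution has a non-soluble centraliser (S3188). -/
theorem Hyp.false_of_solvable (h : Hyp G)
    (hC : ∀ t : G, orderOf t = 2 → Group.IsSolvable (centralizer ({t} : Set G))) : False := by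
  haveI := h.simple
  obtain ⟨S⟩ : Nonempty (Sylow 2 G) := inferInstance
  rcases Cfsg.Agent.S3188.result S (h.abel S) hC with hs | ⟨F, i1, i2, hq, N, hN, ⟨e⟩, -⟩
  · exact h.nonabelian ⟨⟨IsSimpleGroup.comm_iff_isSolvable.mpr hs⟩⟩
  have hO : oddCore G = ⊥ := h.core_eq_bot
  let e' : G ⧸ oddCore G ≃* G := (QuotientGroup.quotientMulEquivOfEq hO).trans QuotientGroup.quotientBot
  haveI : IsSimpleGroup (G ⧸ oddCore G) := e'.isSimpleGroup
  rcases hN.eq_bot_or_eq_top with hb | ht
  · subst hb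
    have h1 : Nat.card (Matrix.ProjectiveSpecialLinearGroup (Fin 2) F) = 1 := by
      rw [← Nat.card_congr e.toEquiv, card_bot]
    haveI : Finite (Matrix.ProjectiveSpecialLinearGroup (Fin 2) F) := inferInstance
    have h3 : 3 < Fintype.card F := by
      rcases hq with ⟨-, h5⟩ | ⟨n, hn, hc⟩
      · omega
      · rw [hc]; exact lt_of_lt_of_le (by norm_num) (Nat.pow_le_pow_right (by norm_num) hn : 2 ^ 2 ≤ 2 ^ n)
    haveI := JankoReeMult.psl_simple (F := F) h3
    exact absurd h1 (Finite.one_lt_card).ne'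
  · subst ht
    exact h.not_listed (Or.inl ⟨F, i1, i2, hq, ⟨(e'.symm.trans topEquiv.symm).trans e⟩⟩)

/-- The elements of square one of a Sylow subgroup. -/
def Hyp.omega (h : Hyp G) (S : Sylow 2 G) : Subgroup G where
  carrier := {x | x ∈ (S : Subgroup G) ∧ x * x = 1}
  one_mem' := ⟨one_mem _, mul_one 1⟩
  mul_mem' {a b} ha hb := ⟨mul_mem ha.1 hb.1, by
    calc a * b * (a * b) = a * (b * a) * b := by group
      _ = a * a * (b * b) := by rw [h.comm S hb.1 ha.1]; group
      _ = 1 := by rw [ha.2, hb.2, one_mul]⟩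
  inv_mem' {a} ha := ⟨inv_mem ha.1, by rw [← _root_.mul_inv_rev, ha.2, inv_one]⟩

theorem Hyp.mem_omega (h : Hyp G) {S : Sylow 2 G} {x : G} :
    x ∈ h.omega S ↔ x ∈ (S : Subgroup G) ∧ x * x = 1 := Iff.rfl

/-- An involution is conjugate into every Sylow subgroup. -/
theorem exists_conj_mem (S : Sylow 2 G) {t : G} (ht : orderOf t = 2) : ∃ g : G, g * t * g⁻¹ ∈ (S : Subgroup G) := by
  haveI : Fact (Nat.Prime 2) := ⟨Nat.prime_two⟩
  obtain ⟨P, hP⟩ := (IsPGroup.of_card (n := 1) (G := ↥(zpowers t))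
    (by rw [Nat.card_zpowers, ht, pow_one])).exists_le_sylow
  obtain ⟨g, hg⟩ := MulAction.exists_smul_eq G P S
  refine ⟨g, ?_⟩
  rw [← hg, Sylow.coe_subgroup_smul]
  exact ⟨t, hP (mem_zpowers t), rfl⟩

theorem Hyp.omega_closed (h : Hyp G) (S : Sylow 2 G) : Closed S (h.omega S) := by
  refine ⟨fun x hx => hx.1, ⟨⟨⟨fun a b => Subtype.ext (h.comm S a.2.1 b.2.1)⟩⟩, fun x hx => ?_⟩, ?_,
    fun x hx => hx.1, fun x hx g hg => ⟨hg, ?_⟩⟩
  · rw [pow_two]; exact hx.2
  · haveI : Fact (Nat.Prime 2) := ⟨Nat.prime_two⟩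
    obtain ⟨t, ht⟩ := exists_prime_orderOf_dvd_card' 2 h.even
    obtain ⟨g, hg⟩ := exists_conj_mem S ht
    intro e
    have h1 : g * t * g⁻¹ ∈ h.omega S := ⟨hg, by
      rw [← pow_two, conj_pow, ← ht, pow_orderOf_eq_one, mul_one, mul_inv_cancel]⟩
    rw [e, mem_bot, conj_eq_one_iff] at h1
    rw [h1, orderOf_one] at ht
    omega
  · rw [← pow_two, conj_pow, pow_two, hx.2, mul_one, mul_inv_cancel]

/-- A strongly embedded subgroup is impossible. -/
theorem Hyp.false_of_stronglyEmbedded (h : Hyp G) {H : Subgroup G} (hH : IsStronglyEmbedded H)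
    (h4 : CfsgLib.Bender.HasFour G) : False := by
  haveI : Fact (Nat.Prime 2) := ⟨Nat.prime_two⟩
  haveI := h.simple
  have hcl := ((Cfsg.Agent.S0223.result H hH.1 hH.2.1).mp hH).1
  obtain ⟨z, hz⟩ := exists_prime_orderOf_dvd_card' (G := H) 2 (even_iff_two_dvd.mp hH.2.1)
  have hz2 : orderOf (z : G) = 2 := by rw [orderOf_coe, hz]
  obtain ⟨P, hP⟩ := (IsPGroup.of_card (n := 1) (G := ↥(zpowers (z : G)))
    (by rw [Nat.card_zpowers, hz2, pow_one])).exists_le_sylow
  have hPH : (P : Subgroup G) ≤ H := fun x hx =>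
    hcl z z.2 hz2 (mem_centralizer_singleton_iff.mpr (h.comm P hx (hP (mem_zpowers _))))
  have hn := sylow_normal_of_stronglyEmbedded hH P hPH h4
  haveI : ((P : Subgroup G).subgroupOf H).Normal := ⟨fun x hx g => hn g g.2 x hx⟩
  haveI : Group.IsSolvable ((P : Subgroup G).subgroupOf H) :=
    Group.isSolvable_of_comm fun a b => Subtype.ext (Subtype.ext (h.comm P a.2 b.2))
  haveI : Group.IsSolvable (H ⧸ (P : Subgroup G).subgroupOf H) := oddSolv _ (by
    rw [← index_eq_card]
    exact Nat.odd_iff.mpr (Nat.two_dvd_ne_zero.mp fun hd =>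
      P.not_dvd_index (hd.trans (relIndex_dvd_index_of_le hPH))))
  haveI hsol : Group.IsSolvable H :=
    Group.isSolvable_of_ker_le_range ((P : Subgroup G).subgroupOf H).subtype
      (QuotientGroup.mk' ((P : Subgroup G).subgroupOf H)) fun x hx =>
        ⟨⟨x, (QuotientGroup.eq_one_iff x).mp hx⟩, rfl⟩
  refine h.false_of_solvable fun t ht => ?_
  obtain ⟨g, hg⟩ := exists_conj_mem P ht
  have hle : centralizer ({g * t * g⁻¹} : Set G) ≤ H := hcl _ (hPH hg) (by
    rw [show g * t * g⁻¹ = MulAut.conj g t from rfl, MulEquiv.orderOf_eq, ht])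
  let f : centralizer ({t} : Set G) →* H :=
    ((MulAut.conj g).toMonoidHom.comp (centralizer ({t} : Set G)).subtype).codRestrict H fun x => hle (by
      rw [mem_centralizer_singleton_iff]
      show g * (x : G) * g⁻¹ * (g * t * g⁻¹) = g * t * g⁻¹ * (g * (x : G) * g⁻¹)
      calc g * (x : G) * g⁻¹ * (g * t * g⁻¹) = g * ((x : G) * t) * g⁻¹ := by group
        _ = g * (t * x) * g⁻¹ := by rw [mem_centralizer_singleton_iff.mp x.2]
        _ = _ := by group)
  exact Group.isSolvable_of_isSolvable_injective (f := f) fun a b hab =>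
    Subtype.ext ((MulAut.conj g).injective (congrArg Subtype.val hab :))

/-- `|A| ≠ 2`, by the Z*-theorem. -/
theorem Hyp.four_le_card (h : Hyp G) (hA : Closed S A) : 4 ≤ Nat.card A := by
  haveI : Fact (Nat.Prime 2) := ⟨Nat.prime_two⟩
  obtain ⟨n, hn⟩ := IsPGroup.iff_card.mp hA.isPGroup
  rcases n with - | - | n
  · rw [pow_zero] at hn
    exact absurd (card_eq_one.mp hn) hA.ne_bot
  · exfalso
    rw [zero_add, pow_one] at hn
    obtain ⟨z, hz, hz1⟩ := A.bot_or_exists_ne_one.resolve_left hA.ne_bot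
    have huniq : ∀ x ∈ A, x ≠ 1 → x = z := fun x hx hx1 => by
      obtain ⟨u, hu, hu'⟩ := Nat.card_eq_two_iff' (1 : A) |>.mp hn
      have e1 := hu' ⟨x, hx⟩ fun e => hx1 (congrArg Subtype.val e)
      have e2 := hu' ⟨z, hz⟩ fun e => hz1 (congrArg Subtype.val e)
      exact congrArg Subtype.val (e1.trans e2.symm)
    have hz2 := hA.orderOf_eq_two hz hz1
    have hiso := CfsgLib.ZStar.isolated_of_sylow S hz2 (hA.le hz) fun g hg =>
      huniq _ (hA.closed.2 z hz g hg) fun e => hz1 (by simpa using e)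
    refine h.cc_ne_top hz1 (eq_top_iff.mpr fun g _ => AfterFT.CoreSep.mem_cc.mpr ?_)
    have h1 := CfsgLib.ZStar.commutator_mem hz2 hiso g
    rw [h.core_eq_bot, mem_bot, mul_inv_eq_iff_eq_mul, one_mul, mul_inv_eq_iff_eq_mul] at h1
    exact h1.symm
  · rw [hn]
    calc 4 = 2 ^ 2 := rfl
      _ ≤ _ := Nat.pow_le_pow_right (by norm_num) (by omega)

theorem Hyp.hasFour (h : Hyp G) : CfsgLib.Bender.HasFour G := by
  obtain ⟨S⟩ : Nonempty (Sylow 2 G) := inferInstance
  have hA := h.omega_closed S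
  have h4 := h.four_le_card hA
  obtain ⟨x, hx, hx1⟩ := (h.omega S).bot_or_exists_ne_one.resolve_left hA.ne_bot
  obtain ⟨y, hy, hyx⟩ : ∃ y ∈ h.omega S, y ∉ zpowers x := by
    by_contra! hh
    have := card_le_of_le (show h.omega S ≤ zpowers x from hh)
    rw [Nat.card_zpowers, hA.orderOf_eq_two hx hx1] at this
    omega
  exact ⟨x, y, hx1, fun e => hyx (e ▸ one_mem _), fun e => hyx (e ▸ mem_zpowers x), hA.sq hx, hA.sq hy,
    hA.comm hx hy⟩

/-- The criterion: a proper subgroup containing the centralisers of the elements of `A` is impossible. -/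
theorem Hyp.false_of_le (h : Hyp G) (hA : Closed S A) {M : Subgroup G} (hM : M ≠ ⊤)
    (hle : ∀ a ∈ A, a ≠ 1 → centralizer ({a} : Set G) ≤ M) : False := by
  haveI := h.simple
  refine hM (top_le_iff.mp ?_)
  have htop : centClosure A = ⊤ := by
    by_contra hne
    refine (CfsgLib.Bender.Q.strongly_closed_simple CfsgLib.Bender.Q.theoremQ S A hA.ne_bot hA.closed
      ?_).elim fun H hH => h.false_of_stronglyEmbedded hH h.hasFour
    intro e
    refine hne (top_le_iff.mp (e ▸ iSup_le fun t => ?_))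
    exact le_iSup (fun a : {a : G // a ∈ A ∧ a ≠ 1} => centralizer ({(a : G)} : Set G))
      ⟨t, t.2.1, fun e1 => by simpa [e1] using t.2.2⟩
  exact htop ▸ iSup_le fun a => hle a a.2.1 a.2.2

/-- A 2-element normalising `A` centralises it. -/
theorem Hyp.two_centralizes (h : Hyp G) (hA : Closed S A) {x : G} (hx : x ∈ normalizer (A : Set G)) {k : ℕ}
    (hk : x ^ 2 ^ k = 1) : x ∈ centralizer (A : Set G) := by
  haveI : Fact (Nat.Prime 2) := ⟨Nat.prime_two⟩
  have hz : IsPGroup 2 (zpowers x) := by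
    obtain ⟨i, -, hi⟩ := (Nat.dvd_prime_pow Nat.prime_two).mp (orderOf_dvd_of_pow_eq_one hk)
    exact IsPGroup.of_card (n := i) (by rw [Nat.card_zpowers, hi])
  obtain ⟨P, hP⟩ := (hz.to_sup_of_normal_right' hA.isPGroup (zpowers_le.mpr hx)).exists_le_sylow
  exact fun a ha => h.comm P (hP (mem_sup_right ha)) (hP (mem_sup_left (mem_zpowers x)))

/-- `|N(A) / C(A)|` is odd. -/
theorem Hyp.odd_relIndex (h : Hyp G) (hA : Closed S A) :
    Odd ((centralizer (A : Set G)).relIndex (normalizer (A : Set G))) := by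
  haveI : Fact (Nat.Prime 2) := ⟨Nat.prime_two⟩
  have hS : (S : Subgroup G) ≤ centralizer (A : Set G) := fun s hs a ha => h.comm S (hA.le ha) hs
  refine Nat.odd_iff.mpr (Nat.two_dvd_ne_zero.mp fun hd => S.not_dvd_index ?_)
  exact hd.trans ((relIndex_dvd_index_of_le (centralizer_le_normalizer' A)).trans (index_dvd_of_le hS))

/-- The normaliser of `A` has no homomorphism onto a group of order two. -/
theorem Hyp.focal (h : Hyp G) (hA : Closed S A) : CfsgLib.S3Simple.Focal A := by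
  haveI : Fact (Nat.Prime 2) := ⟨Nat.prime_two⟩
  haveI := h.simple
  unfold CfsgLib.S3Simple.Focal
  set N := normalizer (A : Set G) with hN
  intro ψ
  have hcomm : commutator G = ⊤ :=
    ((inferInstance : (commutator G).Normal).eq_bot_or_eq_top).resolve_left fun e => h.nonabelian
      ⟨⟨fun a b => commutatorElement_eq_one_iff_mul_comm.mp (mem_bot.mp (e ▸
        commutator_mem_commutator (mem_top a) (mem_top b)))⟩⟩
  have hSN := hA.le_normalizer
  have hS : (S : Subgroup G) ≤ ⁅N, N⁆ := fun s hs => by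
    have := CfsgLib.TransferApps.commutator_inf_sylow_eq_of_control S N
      (fun x hx g hg => hA.exists_normalizer_conj hx hg) hSN
    rw [hcomm, top_inf_eq] at this
    exact (this.le hs).1
  have hker : (S : Subgroup G).subgroupOf N ≤ ψ.ker := fun s hs => by
    have hc : (⁅N, N⁆).subgroupOf N ≤ commutator N := fun x hx => by
      obtain ⟨y, hy, he⟩ : (x : G) ∈ (commutator N).map N.subtype := by
        rw [commutator_def, map_commutator, ← MonoidHom.range_eq_map, range_subtype]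
        exact hx
      rwa [← Subtype.ext he]
    exact Abelianization.commutator_subset_ker ψ (hc (hS hs))
  refine MonoidHom.ext fun n => ?_
  show ψ n = 1
  by_contra hne
  have h2 : orderOf (ψ n) = 2 := orderOf_eq_prime (CfsgLib.S3Simple.sq_eq_one_zmod_two _) hne
  have hidx : ψ.ker.index ∣ ((S : Subgroup G).subgroupOf N).index := index_dvd_of_le hker
  have hodd : ¬ 2 ∣ ((S : Subgroup G).subgroupOf N).index := fun hd =>
    S.not_dvd_index (hd.trans (relIndex_dvd_index_of_le hSN))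
  refine hodd (dvd_trans ?_ hidx)
  rw [index_ker]
  exact h2.symm.dvd.trans (orderOf_dvd_natCard _ ⟨n, rfl⟩)

end CfsgLib.WalterAb
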