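import Cfsg.Agent.Lib.Walter.Ab.Blocks
import Cfsg.Agent.Lib.S3Simple.Many.Balance

/-!
Balance on the subgroups of order eight and the subgroup `W` of odd order.

Blueprint: `blueprint/Walter.md`, "S0506 audit" (W).
-/

set_option autoImplicit false
set_option linter.unusedSectionVars false
set_option linter.style.haveILetI false

namespace CfsgLib.WalterAb

open Cfsg Subgroup CfsgLib CfsgLib.Comp CfsgLib.AfterFT.CoreSep CfsgLib.Signalizer
open CfsgLib.S3Simple (Closed Blocked IsBlock blockD mem_blockD blockD_le imA mem_imA oddSolv)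
open CfsgLib.S3Simple.Many (gen delta_odd normalizes_gen)

universe u

section General

variable {M : Type u} [Group M] [Finite M]

/-- An element commuting with `t` fixes the inner part of `t` on a component it normalises. -/
theorem Ctx.fix_inner (hM : Ctx M) {F : Subgroup M} (hF : IsComponent F) {t q x : M} (hq : q ∈ F)
    (hqc : q⁻¹ * t ∈ centralizer (F : Set M)) (hx : x ∈ normalizer (F : Set M)) (hxt : x * t = t * x) :
    x * q * x⁻¹ = q := by
  have h1 : x * q * x⁻¹ ∈ F := (mem_normalizer_iff.mp hx q).mp hq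
  have hc2 : (x * q * x⁻¹)⁻¹ * t ∈ centralizer (F : Set M) := by
    rw [show (x * q * x⁻¹)⁻¹ * t = x * (q⁻¹ * t) * x⁻¹ * (x * t⁻¹ * x⁻¹ * t) by group,
      show x * t⁻¹ * x⁻¹ * t = 1 by rw [(Commute.inv_right (show Commute x t from hxt)).eq]; group, mul_one]
    exact conj_mem_centralizer hx hqc
  have h3 := mul_mem hqc (inv_mem hc2)
  rw [show q⁻¹ * t * ((x * q * x⁻¹)⁻¹ * t)⁻¹ = q⁻¹ * (x * q * x⁻¹) by group] at h3
  exact (inv_mul_eq_one.mp (hM.eq_one_of_centralizes_self hF (mul_mem (inv_mem hq) h1) h3)).symm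

/-- What lies in the core of the centraliser of a 2-element that does not centralise a component with a Sylow
subgroup of order at least eight centralises it. -/
theorem Ctx.core_centralizes_large (hM : Ctx M) (T : Sylow 2 M) {E : Subgroup M} (hE : IsComponent E)
    (h8 : 8 ≤ Nat.card ↥((T : Subgroup M) ⊓ E)) {b : M} (hb : b ∈ (T : Subgroup M)) (hb2 : b * b = 1)
    (hbE : b ∉ centralizer (E : Set M)) {w : M} (hw : w ∈ coreC (zpowers b)) : w ∈ centralizer (E : Set M) := by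
  haveI : Fact (Nat.Prime 2) := ⟨Nat.prime_two⟩
  obtain ⟨P, hP, hg⟩ := hM.comp_sylow T hE
  obtain ⟨q, hq, hqc, -⟩ := hM.exists_inner T hE hb
  obtain ⟨q', hq', rfl⟩ : q ∈ (P : Subgroup ↥E).map E.subtype := hP.symm ▸ hq
  have hq1 : q' ≠ 1 := fun e => hbE (by simpa [e] using hqc)
  have hN : coreC (zpowers b) ≤ normalizer (E : Set M) := fun x hx =>
    coreC_normalizes hM.core (zpowers_two hb2) hE hx
  let ψ : ↥(coreC (zpowers b)) →* MulAut ↥E := E.normalizerMonoidHom.comp (inclusion hN)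
  have hodd : Odd (Nat.card ψ.range) := (odd_card_coreC _).of_dvd_nat (card_range_dvd ψ)
  have h0 : ψ.range = ⊥ := by
    refine hg.core (by rw [← card_map_of_injective E.subtype_injective, hP]; exact h8) q' hq' hq1 _ hodd ?_ ?_
    · rintro _ ⟨x, rfl⟩
      exact Subtype.ext (hM.fix_inner hE q'.2 hqc (hN x.2) (coreC_centralizes _ x.2 b (mem_zpowers b)).symm)
    · rintro c hc _ ⟨x, rfl⟩
      have hcb : (c : M) * b = b * c := by
        have h1 := hqc (c : M) c.2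
        have h2 : (c : M) * (q' : M) = (q' : M) * c := congrArg Subtype.val hc
        calc (c : M) * b = (c : M) * (q' : M) * ((q' : M)⁻¹ * b) := by group
          _ = (q' : M) * ((c : M) * ((q' : M)⁻¹ * b)) := by rw [h2, mul_assoc]
          _ = (q' : M) * ((q' : M)⁻¹ * b * c) := by rw [show (c : M) * ((q' : M)⁻¹ * b) = (q' : M)⁻¹ * b * c from h1]
          _ = b * c := by group
      have hcN : (c : M) ∈ normalizer (coreC (zpowers b) : Set M) := centralizer_le_normalizer_coreC (zpowers b) (by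
        rw [CfsgLib.CharPLocal.centralizer_zpowers, mem_centralizer_singleton_iff]
        exact hcb)
      refine ⟨⟨(c : M) * x * (c : M)⁻¹, (mem_normalizer_iff.mp hcN _).mp x.2⟩, MulEquiv.ext fun e => Subtype.ext ?_⟩
      show (c : M) * x * (c : M)⁻¹ * e * ((c : M) * x * (c : M)⁻¹)⁻¹ =
        (c : M) * ((x : M) * ((c : M)⁻¹ * e * c) * (x : M)⁻¹) * (c : M)⁻¹
      group
  intro e he
  have h1 : ψ ⟨w, hw⟩ = 1 := mem_bot.mp (h0 ▸ ⟨⟨w, hw⟩, rfl⟩)
  exact (mul_inv_eq_iff_eq_mul.mp (congrArg Subtype.val (DFunLike.congr_fun h1 (⟨e, he⟩ : ↥E)))).symm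

end General

variable {G : Type u} [Group G] [Finite G] {S : Sylow 2 G} {A : Subgroup G}

/-- Balance on the subgroups of order eight. -/
theorem Hyp.balanced (h : Hyp G) (hA : Closed S A) : KFunctor.BalancedOn 2 3 A := by
  haveI : Fact (Nat.Prime 2) := ⟨Nat.prime_two⟩
  intro B hB hBk c hc hc1 w hw
  obtain ⟨b₀, hb₀, hb₀1⟩ := B.bot_or_exists_ne_one.resolve_left fun e0 => by
    rw [e0, card_bot] at hBk
    norm_num at hBk
  refine mem_core_of_centralizes (hA.mem_cc hc (hB hb₀)) (hA.sq (hB hb₀)) (KFunctor.mem_delta.1 hw.1 b₀ hb₀ hb₀1)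
    hw.2 fun E hE => ?_
  by_cases hmeet : ∃ b ∈ B, b ∈ blockD A c E ∧ b ≠ 1
  · obtain ⟨b, hb, hbD, hb1⟩ := hmeet
    exact CfsgLib.S3Simple.core_centralizes_component (hA.mem_cc hc (hB hb)) (hA.sq (hB hb))
      (KFunctor.mem_delta.1 hw.1 b hb hb1) hw.2 hE ((mem_blockD (hA.mem_cc hc (hB hb))).mp hbD).2
  push Not at hmeet
  have hdis : B ⊓ blockD A c E = ⊥ := (eq_bot_iff_forall _).mpr fun x hx => hmeet x hx.1 hx.2
  have hne : blockD A c E ≠ A := fun e => hb₀1 (hmeet b₀ hb₀ (e.symm ▸ hB hb₀))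
  obtain ⟨k, hk, -⟩ := h.exists_block' hA hc hc1 hE hne
  have hV8 : 8 ≤ Nat.card (partV A c E) := by
    have h1 := CfsgLib.S3Simple.card_mul_le_of_disjoint hB (blockD_le c E) hdis
    rw [hBk, hk.card_eq hA, mul_comm (2 ^ 3)] at h1
    exact Nat.le_of_mul_le_mul_left h1 Nat.card_pos
  obtain ⟨T, hT⟩ := hA.imA_closed hc
  have h8 : 8 ≤ Nat.card ↥((T : Subgroup (qq c)) ⊓ E) := by
    refine hV8.trans (Nat.card_le_card_of_injective (fun v : partV A c E =>
      (⟨ff c ⟨v, hA.mem_cc hc v.2.1⟩, hT.le (mem_imA v.2.1 _), (mem_partV hA hc v.2.1).mp v.2⟩ :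
        ↥((T : Subgroup (qq c)) ⊓ E))) fun p q hpq => Subtype.ext ?_)
    refine inv_mul_eq_one.mp (hA.ff_inj (mul_mem (inv_mem p.2.1) q.2.1)
      (hA.mem_cc hc (mul_mem (inv_mem p.2.1) q.2.1)) ?_)
    rw [show (⟨(p : G)⁻¹ * q, hA.mem_cc hc (mul_mem (inv_mem p.2.1) q.2.1)⟩ : ↥(cc c)) =
      (⟨p, hA.mem_cc hc p.2.1⟩ : ↥(cc c))⁻¹ * ⟨q, hA.mem_cc hc q.2.1⟩ from rfl, map_mul, map_inv,
      show ff c ⟨(p : G), hA.mem_cc hc p.2.1⟩ = ff c ⟨(q : G), hA.mem_cc hc q.2.1⟩ from congrArg Subtype.val hpq,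
      inv_mul_cancel]
  have hbc : b₀ ∈ cc c := hA.mem_cc hc (hB hb₀)
  refine (h.ctx hc1).core_centralizes_large T hE h8 (hT.le (mem_imA (hB hb₀) hbc))
    (by rw [← map_mul, show (⟨b₀, hbc⟩ : ↥(cc c)) * ⟨b₀, hbc⟩ = 1 from Subtype.ext (hA.sq (hB hb₀)), map_one])
    (fun hb => hb₀1 (hmeet b₀ hb₀ ((mem_blockD hbc).mpr ⟨hB hb₀, hb⟩)))
    (image_core hbc (hA.sq (hB hb₀)) ⟨w, hw.2⟩ (KFunctor.mem_delta.1 hw.1 b₀ hb₀ hb₀1))

/-- `W` is already generated inside every subgroup of order at least sixteen. -/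
theorem Hyp.gen_le (h : Hyp G) (hA : Closed S A) {H : Subgroup G} (hH : H ≤ A) (hHk : 16 ≤ Nat.card H) :
    gen 2 A ≤ gen 2 H := by
  haveI : Fact (Nat.Prime 2) := ⟨Nat.prime_two⟩
  refine iSup_le fun ⟨B, hB, hBk⟩ => ?_
  show signalizerDelta 2 B ≤ _
  rw [gen_index (ea_le hA.elem hH) (delta_odd hBk) (hH.trans (KFunctor.delta_normalizes hA.elem hB))]
  refine iSup_le fun ⟨E, hE, hEi⟩ x hx => ?_
  have hEk : 2 ^ 3 ≤ Nat.card E := by
    have := hHk.trans (CfsgLib.S3Simple.card_le_two_mul hE hEi)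
    norm_num
    omega
  obtain ⟨D, hDE, hDk⟩ := KFunctor.exists_sub (k := 3) hA.elem (hE.trans hH) hEk
  refine le_iSup (fun D : {D : Subgroup G // D ≤ H ∧ Nat.card ↥D = 2 ^ (2 + 1)} => signalizerDelta 2 (D : Subgroup G))
    ⟨D, hDE.trans hE, hDk⟩ (KFunctor.promote (h.balanced hA) hB hBk (hDE.trans (hE.trans hH)) hx.1 ?_)
  exact centralizer_le hDE hx.2

theorem Hyp.odd_gen (h : Hyp G) (hA : Closed S A) (h32 : 32 ≤ Nat.card A) : Odd (Nat.card (gen 2 A)) := by
  haveI : Fact (Nat.Prime 2) := ⟨Nat.prime_two⟩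
  set θ : G → Subgroup G := fun a => ⨆ D : {D : Subgroup G // D ≤ A ∧ Nat.card ↥D = 2 ^ (2 + 1)},
    signalizerDelta 2 (D : Subgroup G) ⊓ centralizer {a} with hθdef
  have hθ : IsSignalizerFunctor 2 A θ := KFunctor.isSignalizerFunctor_on (h.balanced hA) hA.elem
    (by norm_num; omega) fun a _ _ => oddSolv _ (odd_card_core a)
  have hcore : ∀ a ∈ A, a ≠ 1 → θ a ≤ centralizerPPrimeCore 2 a := fun a ha ha1 =>
    iSup_le fun D => h.balanced hA D D.2.1 D.2.2 a ha ha1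
  have key := (Cfsg.Agent.S0217.result (p := 2) A (fun a ha b hb => hA.comm ha hb)
    (fun a ha => hA.elem.2 a ha) (by norm_num; omega) θ hθ.1 hθ.2.1 hθ.2.2.1
    (fun a ha ha1 => oddSolv _ (odd_of_le (hcore a ha ha1) (odd_card_core a))) hθ.2.2.2).1
  refine odd_of_le (iSup_le fun ⟨B, hB, hBk⟩ => ?_) (Nat.odd_iff.mpr (Nat.two_dvd_ne_zero.mp key))
  show signalizerDelta 2 B ≤ _
  rw [gen_index hA.elem (delta_odd hBk) (KFunctor.delta_normalizes hA.elem hB)]
  refine iSup_le fun ⟨E, hE, hEi⟩ x hx => ?_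
  obtain ⟨a, ha, ha1⟩ := E.bot_or_exists_ne_one.resolve_left fun e0 => by
    have h2 := h32.trans (CfsgLib.S3Simple.card_le_two_mul hE hEi)
    rw [e0, card_bot] at h2
    omega
  exact le_iSup (fun a : {a : G // a ∈ A ∧ a ≠ 1} => θ a) ⟨a, hE ha, ha1⟩
    (le_iSup (fun D : {D : Subgroup G // D ≤ A ∧ Nat.card ↥D = 2 ^ (2 + 1)} =>
      signalizerDelta 2 (D : Subgroup G) ⊓ centralizer {a}) ⟨B, hB, hBk⟩
      ⟨hx.1, mem_centralizer_singleton_iff.2 (hx.2 a ha).symm⟩)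

/-- The centraliser of a subgroup of order at least sixteen normalises `W`. -/
theorem Hyp.centralizer_le_normalizer_gen (h : Hyp G) (hA : Closed S A) {H : Subgroup G} (hH : H ≤ A)
    (hHk : 16 ≤ Nat.card H) : centralizer (H : Set G) ≤ normalizer (gen 2 A : Set G) := by
  have he : gen 2 A = gen 2 H := le_antisymm (h.gen_le hA hH hHk) (iSup_le fun D => le_iSup
    (fun D : {D : Subgroup G // D ≤ A ∧ Nat.card ↥D = 2 ^ (2 + 1)} => signalizerDelta 2 (D : Subgroup G))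
    ⟨D, D.2.1.trans hH, D.2.2⟩)
  intro x hx
  rw [he]
  refine normalizes_gen ?_
  rintro _ ⟨y, hy, rfl⟩
  show x * y * x⁻¹ ∈ H
  rwa [← hx y hy, mul_inv_cancel_right]

/-- The cores at the elements of `A` normalise `W`. -/
theorem Hyp.core_le_normalizer_gen (h : Hyp G) (hA : Closed S A) (h32 : 32 ≤ Nat.card A) {a : G} (ha : a ∈ A) :
    centralizerPPrimeCore 2 a ≤ normalizer (gen 2 A : Set G) := by
  haveI : Fact (Nat.Prime 2) := ⟨Nat.prime_two⟩
  have hodd : ¬ 2 ∣ Nat.card (centralizerPPrimeCore 2 a) := fun h2 =>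
    Nat.not_odd_iff_even.mpr (even_iff_two_dvd.mpr h2) (odd_card_core a)
  rw [gen_index hA.elem hodd (fun x hx => cc_le_normalizer_core a (hA.mem_cc ha hx))]
  refine iSup_le fun ⟨H, hH, hHi⟩ x hx => h.centralizer_le_normalizer_gen hA hH ?_ hx.2
  have := h32.trans (CfsgLib.S3Simple.card_le_two_mul hH hHi)
  omega

/-- The normaliser of `A` normalises `W`. -/
theorem Hyp.normalizer_le_normalizer_gen (hA : Closed S A) :
    normalizer (A : Set G) ≤ normalizer (gen 2 A : Set G) := fun g hg => normalizes_gen (by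
  rintro _ ⟨y, hy, rfl⟩
  exact (mem_normalizer_iff.mp hg y).mp hy)

end CfsgLib.WalterAb
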